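import Cfsg.Agent.MQ.S.M35.Loc
import Cfsg.Agent.R08.X4Gamma_m3
import Cfsg.Agent.S2053
import Cfsg.Agent.MQ.S.E62Y.Dat
import Cfsg.Agent.TAB.F22.Fam
import Cfsg.Agent.TAB.F23C.Main
import Cfsg.Agent.MQ.S.E62Y.Rows
import Cfsg.Agent.MQ.S.E62X.Dat
import Cfsg.Agent.FastGrp
import Cfsg.Agent.Prune
set_option linter.all false
prune_inst 0x7f00000000000000000000000000000000000000000000000000000000000000000000000000000000000000000000000000000000000000000000000000000000000000000000000000000000000000003fffffffffffffffffffffffffffbeffbdfbfeffff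
open scoped Cfsg.Agent.FastGrp

-- part: MO/S/F22T/Mdl
section
/-!
# `2.Fi22` : the model `K = ⟨a, …, i⟩ ≤ Fi23` and its outer automorphism (helper35)

* `cv` : `pi : K → Fi22` is a double cover; `iso` : it is the only one;
* `al` : the lift of the flip; `aut_cases` : every automorphism is inner or inner times `al`.
-/

set_option autoImplicit false

namespace Cfsg.Agent.MO.S.F22T

open Cfsg Subgroup
open Cfsg.Agent.Fischer.Fi23Class (K)
open Cfsg.Agent.R08.FiTwentyThree (pi zK ext perfect finite_fi23)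
open Cfsg.Agent.H833.Flip (flipA flipA_flipA flipA_ne_conj inner_or)

theorem finK : Finite K :=
  have := finite_fi23
  inferInstance

theorem center22 : center Spor.Fi22 = ⊥ :=
  Fischer.Fi23Cover.center_eq_bot_of_simple Fischer.Fi22Order.isSimple (by rw [Fischer.Fi22Order.card_fi22]; norm_num)

theorem z_mem : zK ∈ center K := mem_center_iff.2 ext.comm

theorem ker_pi : pi.ker = center K := by
  refine le_antisymm (fun x hx => ?_) fun x hx => ?_
  · rcases (ext.ker x).1 hx with rfl | rfl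
    · exact one_mem _
    · exact z_mem
  · rw [MonoidHom.mem_ker, ← mem_bot, ← center22, mem_center_iff]
    intro g
    obtain ⟨g, rfl⟩ := ext.surj g
    rw [← map_mul, ← map_mul, mem_center_iff.1 hx]

theorem mem_cen {x : K} : x ∈ center K ↔ x = 1 ∨ x = zK := by rw [← ker_pi, MonoidHom.mem_ker, ext.ker]

theorem card_cen : Nat.card (center K) = 2 := by
  have h : center K = zpowers zK := le_antisymm (fun x hx => by
    rcases mem_cen.1 hx with rfl | rfl
    · exact one_mem _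
    · exact mem_zpowers _) (zpowers_le.2 z_mem)
  rw [h, Nat.card_zpowers, orderOf_eq_prime ((pow_two _).trans ext.zz) ext.zne]

/-- **the model** -/
theorem cv : Cv 2 _root_.Cfsg.Agent.R08.FiTwentyThree.pi := ⟨ext.surj, ker_pi, card_cen, isCyclic_of_prime_card card_cen, perfect⟩

/-- **uniqueness** -/
theorem iso {X : Type} [Group X] [Finite X] {φ : X →* Spor.Fi22} (v : Cv 2 φ) : ∃ e : X ≃* K, ∀ x, _root_.Cfsg.Agent.R08.FiTwentyThree.pi (e x) = φ x :=
  have := finK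
  Cov2.iso_of_mult S2053.result Nat.prime_two (by decide) cv v

theorem exists_al : ∃ α : MulAut K, ∀ x, _root_.Cfsg.Agent.R08.FiTwentyThree.pi (α x) = flipA (_root_.Cfsg.Agent.R08.FiTwentyThree.pi x) :=
  have := finK
  iso (φ := flipA.toMonoidHom.comp _root_.Cfsg.Agent.R08.FiTwentyThree.pi) ⟨flipA.surjective.comp ext.surj,
    ker_pi ▸ Subgroup.ext fun _ => flipA.map_eq_one_iff, card_cen, cv.cyc, perfect⟩

/-- the outer automorphism -/
noncomputable def al : MulAut K := exists_al.choose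

theorem pi_al (x : K) : _root_.Cfsg.Agent.R08.FiTwentyThree.pi (al x) = flipA (_root_.Cfsg.Agent.R08.FiTwentyThree.pi x) := exists_al.choose_spec x

theorem al_al (x : K) : al (al x) = x :=
  DFunLike.congr_fun (MK.T.eq_one_of_ind _root_.Cfsg.Agent.R08.FiTwentyThree.pi ker_pi perfect (α := al * al) fun x => by
    rw [MulAut.mul_apply, pi_al, pi_al, flipA_flipA]) x

theorem aut_z (α : MulAut K) : α zK = zK :=
  (mem_cen.1 ((T.mem_center_congr α zK).2 z_mem)).resolve_left fun h => ext.zne (α.map_eq_one_iff.1 h)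

theorem aut_cen (α : MulAut K) : ∀ z ∈ center K, α z = z := fun z hz => by
  rcases mem_cen.1 hz with rfl | rfl
  · exact map_one α
  · exact aut_z α

theorem al_out : ¬ ∃ x, al = MulAut.conj x := fun ⟨x, hx⟩ => flipA_ne_conj (_root_.Cfsg.Agent.R08.FiTwentyThree.pi x) (MulEquiv.ext fun g => by
  obtain ⟨g, rfl⟩ := ext.surj g
  rw [← pi_al, hx, MulAut.conj_apply, MulAut.conj_apply, map_mul, map_mul, map_inv])

/-- **the automorphisms** -/
theorem aut_cases (α : MulAut K) : ∃ x, α = MulAut.conj x ∨ α = MulAut.conj x * al := by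
  obtain ⟨γ, hγ⟩ := MK.T.exists_ind _root_.Cfsg.Agent.R08.FiTwentyThree.pi ext.surj ker_pi α
  rcases inner_or γ with ⟨s, rfl⟩ | ⟨s, rfl⟩
  · exact (T.inn_of_ind cv fun x => (hγ x).symm).imp fun _ => Or.inl
  · obtain ⟨x, hx⟩ := T.inn_of_ind cv (α := α * al) (s := flipA s) fun x => by
      rw [MulAut.mul_apply, ← hγ, pi_al, MulAut.mul_apply, MulAut.conj_apply, MulAut.conj_apply, map_mul, map_mul,
        map_inv, flipA_flipA]
    exact ⟨x, Or.inr (by rw [← hx]; exact MulEquiv.ext fun y => congrArg α (al_al y).symm)⟩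

theorem fl_two {X : Type} [Group X] {z : X} (hz : z ∈ center X) (h1 : z * z = 1) (h2 : z ≠ 1) {l : X → ℂ}
    (h : Fl X l) : l 1 = 1 ∧ l z = -1 := by
  obtain ⟨μ, h3, h4⟩ := h
  have h5 : l 1 = 1 := (h4 1).trans (by rw [map_one, Units.val_one])
  have h6 : l z = μ ⟨z, hz⟩ := h4 ⟨z, hz⟩
  have h7 : l z * l z = 1 := by
    rw [h6, ← Units.val_mul, ← map_mul, show (⟨z, hz⟩ * ⟨z, hz⟩ : center X) = 1 from Subtype.ext h1, map_one,
      Units.val_one]
  refine ⟨h5, (mul_self_eq_one_iff.1 h7).resolve_left fun h8 => h2 (congrArg Subtype.val (h3 (a₁ := ⟨z, hz⟩)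
    (a₂ := 1) (Units.ext ?_)))⟩
  rw [← h6, h8, map_one, Units.val_one]

theorem fl_z {l : K → ℂ} (h : Fl K l) : l 1 = 1 ∧ l zK = -1 := fl_two z_mem ext.zz ext.zne h

end Cfsg.Agent.MO.S.F22T
end

-- part: MO/S/F22T/Pts
section
/-!
# `2.Fi22` : odd class functions by their values at the lifts of the representatives (helper35)

* `xp t` : the lift of the representative of the type `t` of `Fi22`;
* `Rp f u v` : `f` is an odd generalized character with the values `u` at the `xp t` and `v` at the `al (xp t)`;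
* `Rp.add`, `Rp.mul`, `Rp.tw`, `Rp.uniq`, `Rp.inner`.
-/

set_option autoImplicit false
set_option maxRecDepth 100000

namespace Cfsg.Agent.MO.S.F22T

open Cfsg Subgroup Cfsg.Agent.TAB.Eng Cfsg.Agent.TAB.F22 Cfsg.Agent.Characters Cfsg.Agent.Characters.Core
open Cfsg.Agent.Characters.Brauer Cfsg.Agent.H447.CTab
open Cfsg.Agent.Fischer.Fi23Class (K)
open Cfsg.Agent.Fischer.Fi23Cover (kgen kgen_sq)
open Cfsg.Agent.R08.FiTwentyThree (pi zK ext)
open Cfsg.Agent.H833.Flip (flipA flipA_gen pi_kgen)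
open Cfsg.Agent.H123.Cls.FiDat (W gn el el_cons)
open Cfsg.Agent.H494.F22 (sw rho rho_injective tau tau_inv tau_sq tau_mem_A)
open Cfsg.Agent.MO.S.Cov2 (mulL nth_mulL)
open scoped ComplexConjugate

section gen

variable {X : Type} [Group X] [Fintype X]

/-- the odd part -/
theorem gen_odd {z : X} (hz : z ∈ center X) (h2 : z * z = 1) {f : X → ℂ} (hf : IsGeneralizedCharacter X f) :
    IsGeneralizedCharacter X fun x => (f x - f (z * x)) / 2 := by
  refine isGeneralizedCharacter_of_int (fun g h => ?_) fun χ hχ => ?_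
  · have h1 : z * (h * g * h⁻¹) = h * (z * g) * h⁻¹ := by
      rw [← mul_assoc h z, mem_center_iff.1 hz h]
      simp only [mul_assoc]
    simp only [h1, gen_classFunction hf _ h]
  obtain ⟨c, hc, hc1, -⟩ := ODD.Red.exists_central hχ hz
  obtain ⟨n, hn⟩ := exists_mu hf ⟨χ, hχ⟩
  have h3 := MK.S7.inner_shift f hc
  rw [show (fun x => (f x - f (z * x)) / 2) = (2⁻¹ : ℂ) • (f - fun x => f (z * x)) from funext fun x => by
    simp [div_eq_inv_mul], classInner_smul_left, classInner_sub_left]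
  rcases mul_self_eq_one_iff.1 ((pow_two c).symm.trans (hc1 2 ((pow_two z).trans h2))) with rfl | rfl
  · rw [map_one, one_mul] at h3
    exact ⟨0, by rw [← h3, sub_self, mul_zero, Int.cast_zero]⟩
  · rw [map_neg, map_one, neg_one_mul] at h3
    exact ⟨n, by rw [← hn]; linear_combination (-2⁻¹ : ℂ) * h3⟩

/-- the separation of two rows of the same degree -/
theorem sep_eq {f g : X → ℂ} (hf : IsGeneralizedCharacter X f) (h1 : f 1 = g 1) (h2 : classInner f f = 2)
    (h3 : classInner f g = 0) (χ : IrrCharacter X) (s c : ℤ) (hs : s = 1 ∨ s = -1) (hc : c = 1 ∨ c = -1) :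
    ¬ ∀ x, f x + s * g x = 2 * c * (χ : X → ℂ) x := fun h => by
  classical
  have := finite_irr (G := X)
  have := Fintype.ofFinite (IrrCharacter X)
  have hd : ∀ ψ : IrrCharacter X, (ψ : X → ℂ) 1 ≠ 0 := fun ψ => by
    obtain ⟨d, h4, h5, -⟩ := degree_dvd ψ
    rw [h5]
    exact_mod_cast h4.ne'
  have hc0 : (c : ℂ) * c = 1 := by rcases hc with rfl | rfl <;> simp
  rcases hs with rfl | rfl
  · have h4 : f + g = ((2 * c : ℤ) : ℂ) • (χ : X → ℂ) := funext fun x => by simpa using h x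
    have h5 : classInner f (χ : X → ℂ) = c := by
      have h6 := classInner_add_right f f g
      rw [h4, classInner_smul_right, h2, h3, map_intCast] at h6
      push_cast at h6
      linear_combination (c / 2 : ℂ) * h6 - classInner f (χ : X → ℂ) * hc0
    have h6 : IsGeneralizedCharacter X (f - (c : ℂ) • (χ : X → ℂ)) := isGeneralizedCharacter_sub hf
      (isGeneralizedCharacter_mul (gen_const X c) (isGeneralizedCharacter_of_isCharacter (isIrr_isCharacter χ.2)))
    have h7 := inner_sum_mu h6 h6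
    have h8 := apply_mu h6 1
    rw [classInner_sub_left,
      classInner_sub_right, classInner_sub_right, classInner_smul_left, classInner_smul_left, classInner_smul_right,
      classInner_smul_right, ← classInner_conj_symm f (χ : X → ℂ), h5, h2, classInner_irr_self χ.2, map_intCast] at h7
    obtain ⟨ψ, h9, h10⟩ := one_of_sum_sq (m := H447.CTab.mu h6) (by
      have h9 : ((∑ ψ, H447.CTab.mu h6 ψ * H447.CTab.mu h6 ψ : ℤ) : ℂ) = 1 := by
        rw [← h7]
        linear_combination -hc0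
      exact_mod_cast h9)
    rw [Finset.sum_eq_single ψ (fun y _ hy => by rw [h10 y hy, Int.cast_zero, zero_mul])
      fun h => absurd (Finset.mem_univ _) h] at h8
    have h11 := h 1
    simp only [Pi.sub_apply, Pi.smul_apply, smul_eq_mul] at h8
    refine mul_ne_zero (a := (H447.CTab.mu h6 ψ : ℂ)) (by rcases h9 with h9 | h9 <;> simp [h9]) (hd ψ) ?_
    rw [← h8]
    push_cast at h11
    linear_combination (2⁻¹ : ℂ) * h11 + (2⁻¹ : ℂ) * h1
  · have h4 := h 1
    push_cast at h4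
    exact hd χ (by linear_combination (-c / 2 : ℂ) * h4 + (c / 2 : ℂ) * h1 - (χ : X → ℂ) 1 * hc0)

end gen

/-- the lift of a word -/
noncomputable def lw (l : List ℕ) : K := (l.map fun a => kgen (gn a)).prod

theorem lw_cons (a : ℕ) (l : List ℕ) : lw (a :: l) = kgen (gn a) * lw l := by
  rw [lw, List.map_cons, List.prod_cons, lw]

theorem lw_append (u v : List ℕ) : lw (u ++ v) = lw u * lw v := by rw [lw, List.map_append, List.prod_append, lw, lw]

theorem lw_reverse : ∀ l : List ℕ, lw l.reverse = (lw l)⁻¹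
  | [] => inv_one.symm
  | x :: l => by
    rw [List.reverse_cons, lw_append, lw_reverse l, lw_cons, lw_cons, mul_inv_rev,
      inv_eq_of_mul_eq_one_left (kgen_sq _), show lw [] = 1 from rfl, mul_one]

theorem pi_lw : ∀ l : List ℕ, _root_.Cfsg.Agent.R08.FiTwentyThree.pi (lw l) = el l
  | [] => map_one pi
  | x :: l => by rw [lw_cons, el_cons, map_mul, pi_lw l, pi_kgen]; rfl

theorem flip_el : ∀ w : List ℕ, (∀ x ∈ w, x < 9) → flipA (el w) = el (w.map sw)
  | [], _ => map_one flipA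
  | x :: w, h => by
    rw [List.map_cons, el_cons, el_cons, map_mul, flip_el w fun y hy => h y (List.mem_cons_of_mem _ hy),
      ← (by decide : ∀ x < 9, R01.AlphaIso.flip (gn x) = gn (sw x)) x (h x List.mem_cons_self)]
    exact congrArg (· * _) (flipA_gen _)

theorem rho_flip (g : Spor.Fi22) : rho (flipA g) = tau * rho g * tau⁻¹ :=
  DFunLike.congr_fun (f := rho.comp flipA.toMonoidHom) (g := (MulAut.conj tau).toMonoidHom.comp rho)
    (PresentedGroup.ext fun x => by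
      change rho (flipA (Fischer.Fi22PtsRep.gen x)) = tau * rho (Fischer.Fi22PtsRep.gen x) * tau⁻¹
      rw [flipA_gen, H494.F22.rho_gen, H494.F22.rho_gen, H494.F22.tau_conj (H494.F22.ix_lt x), H494.F22.ix_flip]) g

theorem ty_al (x : K) : ty (_root_.Cfsg.Agent.R08.FiTwentyThree.pi (al x)) = ty (_root_.Cfsg.Agent.R08.FiTwentyThree.pi x) := by
  rw [pi_al]
  exact congrArg (fun a => (a + 1) % 59) (fam_conj tau_mem_A (rho_flip _))

theorem cj_eq {a a' : K} (h : _root_.Cfsg.Agent.R08.FiTwentyThree.pi a = _root_.Cfsg.Agent.R08.FiTwentyThree.pi a') (b : K) : a * b * a⁻¹ = a' * b * a'⁻¹ := by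
  rcases ext.map_eq.1 h with rfl | rfl
  · rfl
  · rw [mul_assoc a' zK, ← ext.comm]
    group

theorem wd_lt : ∀ i < 59, ∀ x ∈ wd i, x < 9 := by decide +kernel

theorem al_wd {i : ℕ} (hi : i < 59) : al (lw (wd i)) = lw ((wd i).map sw) := by
  have h1 := wd_lt i hi
  have h2 : i < W.length := hi
  rw [wd, List.getD_eq_getElem _ _ (by rw [List.length_map]; exact h2), List.getElem_map] at h1 ⊢
  generalize (W[i]).2.1 = a at h1 ⊢
  generalize (W[i]).2.2.1 = b at h1 ⊢
  have h3 : ∀ w : List ℕ, (∀ x ∈ w, x < 9) → _root_.Cfsg.Agent.R08.FiTwentyThree.pi (al (lw w)) = _root_.Cfsg.Agent.R08.FiTwentyThree.pi (lw (w.map sw)) := fun w hw => by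
    rw [pi_al, pi_lw, pi_lw, flip_el w hw]
  simp only [List.map_append, List.map_reverse, lw_append, lw_reverse, map_mul, map_inv]
  rw [cj_eq (h3 a fun x hx => h1 x (by simp [hx])), mul_assoc _ _⁻¹, mul_assoc, ← mul_assoc (al _),
    cj_eq (h3 b fun x hx => h1 x (by simp [hx]))]
  simp only [mul_assoc]

/-- the lifts of the representatives -/
noncomputable def xp (t : ℕ) : K := lw (wd ((t + 58) % 59))

theorem ty_xp {t : ℕ} (ht : t < 59) : ty (_root_.Cfsg.Agent.R08.FiTwentyThree.pi (xp t)) = t := by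
  rw [xp, pi_lw]
  exact (_root_.Cfsg.Agent.TAB.F22.ty_iff ht).2 (fam_rp (Nat.mod_lt _ (by norm_num)))

theorem xp_zero : xp 0 = 1 := by
  rw [xp, show wd ((0 + 58) % 59) = [0, 0, 0, 0] by decide +kernel, lw_cons, lw_cons, lw_cons, lw_cons,
    ← mul_assoc, kgen_sq, ← mul_assoc (kgen _), kgen_sq, one_mul, one_mul]
  rfl

theorem cover (g : K) : ∃ c x, (x = xp (ty (_root_.Cfsg.Agent.R08.FiTwentyThree.pi g)) ∨ x = al (xp (ty (_root_.Cfsg.Agent.R08.FiTwentyThree.pi g)))) ∧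
    (g = c * x * c⁻¹ ∨ g = zK * (c * x * c⁻¹)) := by
  obtain ⟨hi, b, hb, e⟩ := fam_spec (_root_.Cfsg.Agent.R08.FiTwentyThree.pi g)
  have h1 : _root_.Cfsg.Agent.R08.FiTwentyThree.pi (xp (ty (_root_.Cfsg.Agent.R08.FiTwentyThree.pi g))) = rp (fam (_root_.Cfsg.Agent.R08.FiTwentyThree.pi g)) := by rw [xp, pi_lw, ← (_root_.Cfsg.Agent.TAB.F22.ty_iff (ty_lt _)).1 rfl, rp]
  have h2 : ∀ c x : K, _root_.Cfsg.Agent.R08.FiTwentyThree.pi g = _root_.Cfsg.Agent.R08.FiTwentyThree.pi c * _root_.Cfsg.Agent.R08.FiTwentyThree.pi x * (_root_.Cfsg.Agent.R08.FiTwentyThree.pi c)⁻¹ → g = c * x * c⁻¹ ∨ g = zK * (c * x * c⁻¹) := fun c x h => by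
    rw [← ext.comm, ← ext.map_eq, map_mul, map_mul, map_inv, h]
  rcases H878.EPX.FiK.A_le hb with ⟨n, hn⟩ | ⟨n, hn⟩ <;> obtain ⟨c, rfl⟩ := ext.surj n
  · exact ⟨c, _, Or.inl rfl, h2 c _ (rho_injective (by rw [map_mul, map_mul, map_inv, hn, h1, ← e]))⟩
  · refine ⟨c, _, Or.inr rfl, h2 c _ (rho_injective ?_)⟩
    rw [map_mul, map_mul, map_inv, hn, pi_al, rho_flip, h1, mul_inv_rev, tau_inv]
    calc rho (_root_.Cfsg.Agent.R08.FiTwentyThree.pi g) = b * (tau * tau) * rho (rp (fam (_root_.Cfsg.Agent.R08.FiTwentyThree.pi g))) * (tau * tau) * b⁻¹ := by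
          rw [tau_sq, mul_one, mul_one, ← e]
      _ = _ := by simp only [mul_assoc]

/-- an odd generalized character with given values -/
structure Rp (f : K → ℂ) (u v : List ℤ) : Prop where
  gen : IsGeneralizedCharacter K f
  odd : ∀ x, f (zK * x) = -f x
  vu : ∀ t < 59, f (xp t) = nth u t
  vv : ∀ t < 59, f (al (xp t)) = nth v t

variable {f g : K → ℂ} {u v u' v' : List ℤ}

theorem Rp.zero : Rp 0 [] [] :=
  ⟨isGeneralizedCharacter_zero, fun _ => neg_zero.symm, fun _ _ => Int.cast_zero.symm, fun _ _ => Int.cast_zero.symm⟩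

theorem Rp.add (h : Rp f u v) (h' : Rp g u' v') : Rp (f + g) (addL u u') (addL v v') :=
  ⟨isGeneralizedCharacter_add h.gen h'.gen, fun x => by rw [Pi.add_apply, Pi.add_apply, h.odd, h'.odd, neg_add],
    fun t ht => by rw [Pi.add_apply, h.vu t ht, h'.vu t ht, nth_addL, Int.cast_add],
    fun t ht => by rw [Pi.add_apply, h.vv t ht, h'.vv t ht, nth_addL, Int.cast_add]⟩

theorem Rp.mul (h : Rp f u v) {r : List ℤ} (hr : Virt td (nth r)) :
    Rp (f * fun x => (nth r (ty (_root_.Cfsg.Agent.R08.FiTwentyThree.pi x)) : ℂ)) (mulL u r) (mulL v r) :=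
  ⟨isGeneralizedCharacter_mul h.gen (H651.isGeneralizedCharacter_comp_hom _root_.Cfsg.Agent.R08.FiTwentyThree.pi hr),
    fun x => by rw [Pi.mul_apply, Pi.mul_apply, h.odd, map_mul, ext.mapz, one_mul, neg_mul],
    fun t ht => by rw [Pi.mul_apply, h.vu t ht, ty_xp ht, nth_mulL, Int.cast_mul],
    fun t ht => by rw [Pi.mul_apply, h.vv t ht, ty_al, ty_xp ht, nth_mulL, Int.cast_mul]⟩

theorem Rp.tw (h : Rp f u v) : Rp (fun x => f (al x)) v u :=
  ⟨H651.isGeneralizedCharacter_comp_hom al.toMonoidHom h.gen, fun x => by rw [map_mul, aut_z, h.odd], h.vv,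
    fun t ht => by rw [al_al, h.vu t ht]⟩

theorem exists_val (x : K) : ∃ s : ℂ, s * conj s = 1 ∧
    ((∀ f u v, Rp f u v → f x = s * nth u (ty (_root_.Cfsg.Agent.R08.FiTwentyThree.pi x)) ∧ f (al x) = s * nth v (ty (_root_.Cfsg.Agent.R08.FiTwentyThree.pi x))) ∨
      ∀ f u v, Rp f u v → f x = s * nth v (ty (_root_.Cfsg.Agent.R08.FiTwentyThree.pi x)) ∧ f (al x) = s * nth u (ty (_root_.Cfsg.Agent.R08.FiTwentyThree.pi x))) := by
  have := finK
  have := Fintype.ofFinite K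
  obtain ⟨c, y, h1, h2⟩ := cover x
  have h3 : ∃ s : ℂ, s * conj s = 1 ∧ ∀ f u v, Rp f u v → f x = s * f y := by
    rcases h2 with h2 | h2
    · exact ⟨1, by simp, fun f u v h => by rw [h2, gen_classFunction h.gen, one_mul]⟩
    · exact ⟨-1, by simp only [_root_.map_neg, _root_.map_one, _root_.mul_neg, _root_.mul_one, _root_.neg_neg], fun f u v h => by rw [h2, h.odd, gen_classFunction h.gen, neg_one_mul]⟩
  obtain ⟨s, h4, h5⟩ := h3
  have h6 := ty_lt (_root_.Cfsg.Agent.R08.FiTwentyThree.pi x)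
  refine ⟨s, h4, h1.imp (fun h1 f u v h => ?_) fun h1 f u v h => ?_⟩
  · exact ⟨by rw [h5 f u v h, h1, h.vu _ h6], (h5 _ _ _ h.tw).trans (by rw [h1, h.vv _ h6])⟩
  · exact ⟨by rw [h5 f u v h, h1, h.vv _ h6], (h5 _ _ _ h.tw).trans (by rw [h1, al_al, h.vu _ h6])⟩

theorem Rp.uniq (h : Rp f u v) (h' : Rp g u v) : f = g := funext fun x => by
  obtain ⟨s, -, h1 | h1⟩ := exists_val x <;> rw [(h1 _ _ _ h).1, (h1 _ _ _ h').1]

theorem card_K : Nat.card K = 2 * dat.N := R01.AlphaIso.card_of_ext _root_.Cfsg.Agent.R08.FiTwentyThree.ext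

theorem Rp.inner [Fintype K] (h : Rp f u v) (h' : Rp g u' v') {a : ℤ} (e : ip dat u u' + ip dat v v' = 2 * dat.N * a) :
    classInner f g = a := by
  have := fin22
  have := Fintype.ofFinite Spor.Fi22
  have h1 : ∀ x, f x * conj (g x) + f (al x) * conj (g (al x)) =
      nth u (td.ty (_root_.Cfsg.Agent.R08.FiTwentyThree.pi x)) * nth u' (td.ty (_root_.Cfsg.Agent.R08.FiTwentyThree.pi x)) + nth v (td.ty (_root_.Cfsg.Agent.R08.FiTwentyThree.pi x)) * nth v' (td.ty (_root_.Cfsg.Agent.R08.FiTwentyThree.pi x)) := fun x => by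
    obtain ⟨s, h2, h1 | h1⟩ := exists_val x <;>
      rw [(h1 _ _ _ h).1, (h1 _ _ _ h').1, (h1 _ _ _ h).2, (h1 _ _ _ h').2, td_ty] <;>
      simp only [map_mul, map_intCast] <;>
      linear_combination (nth u (ty (_root_.Cfsg.Agent.R08.FiTwentyThree.pi x)) * nth u' (ty (_root_.Cfsg.Agent.R08.FiTwentyThree.pi x)) + nth v (ty (_root_.Cfsg.Agent.R08.FiTwentyThree.pi x)) * nth v' (ty (_root_.Cfsg.Agent.R08.FiTwentyThree.pi x)) : ℂ) * h2
  have h2 := Finset.sum_congr rfl fun x (_ : x ∈ Finset.univ) => h1 x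
  rw [Finset.sum_add_distrib, show ∑ x, f (al x) * conj (g (al x)) = _ from
    Equiv.sum_comp al.toEquiv fun x => f x * conj (g x),
    H829.GowDesc.sum_comp_surj _root_.Cfsg.Agent.R08.FiTwentyThree.pi ext.surj fun s => (nth u (td.ty s) * nth u' (td.ty s) +
      nth v (td.ty s) * nth v' (td.ty s) : ℂ), ker_pi, card_cen,
    sum_mass mass fun t => (nth u t * nth u' t + nth v t * nth v' t : ℂ)] at h2
  have h3 : ((ip dat u u' + ip dat v v' : ℤ) : ℂ) = ((2 * dat.N * a : ℤ) : ℂ) := congrArg _ e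
  rw [ip, ip, ipL_eq, ipL_eq, ← Finset.sum_add_distrib] at h3
  push_cast at h2 h3
  rw [classInner_def, inv_mul_eq_iff_eq_mul₀ card_ne_zero_complex, card_K, Nat.cast_mul, Nat.cast_ofNat, ← h3]
  refine mul_left_cancel₀ (two_ne_zero (α := ℂ)) ((two_mul _).trans (h2.trans (congrArg _ ?_)))
  exact Finset.sum_congr rfl fun t _ => by rw [nsmul_eq_mul, mul_add]; rfl

end Cfsg.Agent.MO.S.F22T
end

-- part: MO/S/F22T/Cj
section
/-!
# `2.Fi22` : the types in `Fi23` of the lifts of the representatives, and the seeds (helper35)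

A certificate `(s, k, w)` says that the word with the code `w` conjugates `x23 s ^ k` to the element.
-/

set_option autoImplicit false
set_option maxRecDepth 100000
set_option Elab.async false

namespace Cfsg.Agent.MO.S.F22T

open Cfsg Cfsg.Agent.TAB.Eng Cfsg.Agent.TAB.PE Cfsg.Agent.TAB.F23C Cfsg.Agent.Lib.PermNet
open Cfsg.Agent.Fischer.Fi23Class (K)
open Cfsg.Agent.Fischer.Fi23Cover (emb)
open Cfsg.Agent.Fischer.Fi23Hom (rho rho_gen)
open Cfsg.Agent.Fischer.Fi23Rel (net ok_net)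
open Cfsg.Agent.Fischer.Fi23OrbData (nz)
open Cfsg.Agent.R08.FiTwentyThree (pi zK ext)
open Cfsg.Agent.H123.Cls.FiDat (gn)
open Cfsg.Agent.H494.F22 (sw)

/-- the networks of a word -/
noncomputable def nw (l : List ℕ) : List Net := l.map fun a => net (emb (gn a))

theorem nw_spec : ∀ l : List ℕ, WOk (2 ^ 15) (nw l) ∧ wperm (nw l) = rho (lw l : K)
  | [] => ⟨WOk.nil _, (map_one rho).symm⟩
  | a :: l => ⟨WOk.cons (ok_net _) (nw_spec l).1, by
    rw [lw_cons, Subgroup.coe_mul, map_mul, ← (nw_spec l).2, Fischer.Fi23Cover.coe_kgen, rho_gen]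
    exact wperm_cons _ _⟩

theorem acts_of {w : List Net} {g : Spor.Fi23} (h : WOk (2 ^ 15) w) (e : wperm w = rho g) : Acts rho (apw w) g :=
  fun P p => by rw [apw_eq, testBit_appWord h, e]

/-- one certificate -/
noncomputable def cB (w : List Net) (a : ℕ × ℕ × ℕ) : Bool :=
  Nat.beq (Nat.gcd a.2.1 (TAB.F23.D.ord a.1)) 1 && Nat.blt a.1 92 && ax a.1 a.2.1 fun f => cjB cx f (apw w) a.2.2

theorem cB_spec {w : List Net} {g : Spor.Fi23} (h : WOk (2 ^ 15) w) (e : wperm w = rho g) {a : ℕ × ℕ × ℕ}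
    (hc : cB w a = true) : a.1 < 92 ∧ Rl (x23 a.1) g := by
  rw [cB, Bool.and_eq_true, Bool.and_eq_true] at hc
  obtain ⟨f, h1, h2⟩ := ax_spec hc.2
  have h3 := Nat.blt_eq.mp hc.1.2
  exact ⟨h3, _, by rw [ord_pw.1 _ h3]; exact Nat.eq_of_beq_eq_true hc.1.1,
    isConj_of_cjB ok.toOk0 rig h1 (acts_of h e) h2⟩

/-- the two lifts -/
noncomputable def c2 (l : List ℕ) (a b : ℕ × ℕ × ℕ) : Bool := cB (nw l) a && cB (nz :: nw l) b

theorem c2_spec {T : TD Spor.Fi23 TAB.F23.D} (hT : ∀ g, ∀ s < 92, T.ty g = s ↔ Rl (x23 s) g) {l : List ℕ}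
    {a b : ℕ × ℕ × ℕ} (h : c2 l a b = true) : T.ty (lw l : K) = a.1 ∧ T.ty (zK * lw l : K) = b.1 := by
  rw [c2, Bool.and_eq_true] at h
  obtain ⟨h1, h2⟩ := nw_spec l
  have h3 := cB_spec h1 h2 h.1
  have h4 := cB_spec (g := (zK * lw l : K)) (WOk.cons Fischer.Fi23Z.ok_z h1) (by
    rw [wperm_cons, h2, ← Fischer.Fi23Z.rho_z0, ← map_mul]
    rfl) h.2
  exact ⟨(hT _ _ h3.1).2 h3.2, (hT _ _ h4.1).2 h4.2⟩

/-- four certificates -/
structure C4 where
  a : ℕ × ℕ × ℕ
  b : ℕ × ℕ × ℕ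
  c : ℕ × ℕ × ℕ
  d : ℕ × ℕ × ℕ

/-- the certificates -/
noncomputable def cs : List C4 := [
  ⟨(0, 1, 0), (3, 1, 0x1d071e43a1c56764a6aa0dc47ba837336b6b622),
    (0, 1, 0), (3, 1, 0x30eb52e5edc5885cbdb8b1b0892ba78f14c3a5796570c4254)⟩,
  ⟨(1, 1, 0x28f4741c790e862cfb846529c7416f139970ada1bf60c8bdcc), (1, 1, 0x30eb08a069f9268b3757458650bdeb09dc9b96d7e376),
    (1, 1, 0x12e11461c3d82805e72c52b24ab0359f5c430f), (1, 1, 0xa298ac3ad157072450c958b9654d02db105075d6d65a18)⟩,
  ⟨(2, 1, 0x1d07445c915f44ac0b42197213a315358758a2c65ad9), (1, 1, 0x1a22a920704bc64a93785ba2c4479aa6a091e98fc574b),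
    (2, 1, 0x5f06aec91535508eacf0d38a487f31b6eef1), (1, 1, 0x1aca62a0d13c595766a38b1d272ef3bb492f42338353b)⟩,
  ⟨(2, 1, 0x542741c641a26aa222ceac478416d274d95e9af), (3, 1, 0x50e83a22a921500bdd91c16d31dd3bd1b0a4555242d96b635),
    (3, 1, 0xe84a628c833cd5484c547ba6e5cde2d9a59c56545d219), (2, 1, 0x18ac56764b220e0758b9657658fcbe466e9b4)⟩,
  ⟨(4, 1, 0x1e423d0d04a8f9d8b2b185e421ba959bc5b85ceb6bcce), (13, 1, 0x5c86849526ec475b7995a4dd4c50a63965aef3),
    (4, 1, 0x51870f60ae1168c774781b41939ae54471915b9875d231), (13, 1, 0x222a922131502f554986da8f5477dbb25a8c6dac531a)⟩,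
  ⟨(6, 1, 0x5314220ae5cec5957648a43838cd9988aecc98970b846573aab5f747), (22, 1, 0xff22ae0e48a1c2aab3c735508eec9a4869aa4b69de30eb),
    (6, 1, 0x1a0f08824bb42ec122a93b56d4e646e0539eb5394215), (22, 1, 0x894c5455c1c92017c7ad850864388c7d736691d9cb657)⟩,
  ⟨(5, 1, 0x9f8220c02f8c77d68572111d5d348c3ad6f7da8b7d2b3), (91, 1, 0xa30e1eca92c2ab8b923a23df752686c95af55),
    (5, 1, 0x14c53a224125f89b22954d26755734d9875b6567b48d794c57d8ec), (91, 1, 0x14c561d61105500be2ea2744b12308b22b868ac69b33)⟩,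
  ⟨(7, 1, 0xb14c51e423d1143386daeaca4d9aab126c8), (26, 1, 0x1c780882a821f5723241ba1c5b664a25cbb31d4),
    (7, 1, 0x6710f21d0d049edde7e98770d8d84d6eb59e20edbd), (26, 1, 0x661d643e9b638eb172cb46f16bed1539c0c77cb0f)⟩,
  ⟨(10, 1, 0x22ae0e48a40a7a1c34c2adcec297ab36d9cd6f77d5d8), (8, 1, 0x11298a25ca5c14904a8d5164614db451632929598d),
    (10, 1, 0x1529d0728c387b04a412a38b055ef44674ea1d2a3a6db7a), (8, 1, 0x64a62b0eb1e43a20c95265336c944957d420e8f95dab6ae2d)⟩,
  ⟨(8, 1, 0xe83a22a92097685d82459d58a4872a5d6ae427be8f5bb696c3b1), (8, 1, 0x2e261d651870f60972f2451628d15c97164615dc5d272e017ae64),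
    (8, 1, 0x3505315875a22a920c4d754f418937bbd2a66eda36e9f2f334ded99b850), (8, 1, 0x14c508a069f9261459beae422f124dd7a372fd9)⟩,
  ⟨(9, 1, 0x14c561d68ab83922846e24869aa8a766b37c85e4dc92), (9, 1, 0x861d688aa48512abc2e4e1cf34b6f0cdb5b09d56da3bb0),
    (9, 1, 0x3460c56762a4ec1e8d1328f66ec15af2b), (9, 1, 0x61d61105721d88c6d58e5ae13dc3326bc9e)⟩,
  ⟨(9, 1, 0x19e132b2f1e682428ec6f62bacf566beaa), (11, 1, 0x5c0a6284418ed6d55a926a5d19c2c815e2c),
    (11, 1, 0x187584414415ec90cc32dcaf520decdbb92c38979ee), (9, 1, 0x2d61d6acbc79a090a391d34d366235f36da56f556d)⟩,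
  ⟨(10, 1, 0x222a955c5c90cca538e85e6b29dd0eef6fdeb0d6bdf5), (10, 1, 0x4d8653151172457d1f220e1d1e75a2abd8eab67b950e2),
    (10, 1, 0x163a0e88aaacb8486896ed6e9dba11c6eb4516538f9d74d60790), (10, 1, 0x161d611057216aa55bd4ec8e0b698e2846f7a55b34ded9795f2)⟩,
  ⟨(12, 1, 0xc3ae017a0953589bac8d65f1a1), (38, 1, 0x8ea44d5442a2cc55721bb5ca64596accf),
    (12, 1, 0x3c220ab2f1e682430ab59d937d575825fd), (38, 1, 0xc1c6b298ac3ac758b965731f298da370b2d5f230)⟩,
  ⟨(14, 1, 0x28961d688aa5355104ab74e3405263679685abe3d3108a7b), (15, 1, 0x244741d6da5a369c967627752be54b99fb8495593613),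
    (14, 1, 0xa44552ab8b92149dc948e95b0d7e29a), (15, 1, 0x53142208e0978cfdec71bcc59c68bb3)⟩,
  ⟨(23, 1, 0xa62844137242890d1894f04b990f356d92e716d6097cc22), (18, 1, 0xb90d0c6253c12c95393d52eda79702c983c847a1d1ba),
    (18, 1, 0x10ee11048e9a68dd36c87462a949bb6e1cb6b6fc), (23, 1, 0x209b189aea9e88f69614a79859d6b91ba645bb78e4a)⟩,
  ⟨(16, 1, 0x123a0eb973b160cb59e249a34b62556b23393), (19, 1, 0x20f21d0c9a6d9079aa913437378992939688aa485eaad),
    (19, 1, 0x12c52b0eb167dc218f355036df712edb779ce01), (16, 1, 0x4cc39298ac3ac83d36c8254994cdb252cec7125e6b4f8)⟩,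
  ⟨(20, 1, 0x882b948449222ea2744b11d5c3974e34220e2909ddefc73af), (20, 1, 0x4d982a44d5442b220e1855d2cf7ba6e6656d6ef4b7ba2f),
    (20, 1, 0x14c55cbdb8b0951c5881538f7b6fd2e5d5de5ac3ad76), (20, 1, 0x530c387b05098a817a9350c44eb34ae9128dd3cae7d199)⟩,
  ⟨(17, 1, 0x1875a9135510a44d54445527768468a2c1439568ad4), (16, 1, 0x2c53158758f21d0d0689e2c4f59bb0cce8924d6dbd55f32c7b1ab),
    (17, 1, 0xa62c033151e4ab74e3405277b3784d7eb6a7382f9c), (16, 1, 0x6b0eb08828ab8b921a2b92e2c760d4689947a794cb7b34b68c9375a)⟩,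
  ⟨(17, 1, 0x73dca62b0eb5410fabb2454d5474fb16e94b8e68bcb647914c5), (91, 1, 0x14c53a0e3c874337242890c4a8e2c451b9a69f5d61b4659b76dd2f),
    (91, 1, 0x3a8e838c838c4a782566a7adb4ee4794a50), (17, 1, 0x29861c3d821c2aab3c75766a5b114674492684769435a)⟩,
  ⟨(21, 1, 0x63a0e8ab839265e3cd0485476b6aace4b5537ce4e0d14f), (18, 1, 0x214c51e43a1ab2f1e682429865b98f9b47dc89e7),
    (21, 1, 0x88ab83922846e24868aa41e3ebe3c0524ea8f96f69), (18, 1, 0x17a14c5088300be6aa12a38b0ce9a74d9e61614eb1)⟩,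
  ⟨(24, 1, 0x3911ab2e121a1e85b7dbb2c41bb5ca65b05c999a254f), (19, 1, 0x750e206069f926951a274e2ea5039ad1b154b740bf1a6c0b4),
    (24, 1, 0x154498759461c3d82555c5c91d29da4d1baa16af470bdf6), (19, 1, 0xea46a0c2db228b13d66ec3731fd6c02fd3b6f24aab6ae55)⟩,
  ⟨(25, 1, 0x14653151355111721aa95dd5e19c9c35fba40af9b2c4), (20, 1, 0x619111d0754262a21f11d8a433876d8dac8554c136b2),
    (25, 1, 0x549875c0287b2985b44ea6eadbe5fc6b4d66b369695fd), (20, 1, 0x28661d611066568e0aa1622ecd23a63d574e2e)⟩,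
  ⟨(22, 1, 0xe83a9135510a0c0d3f24c4a937623bc494c6e85d62687d1), (21, 1, 0xb54a20af6491248ce1db94694c56b5738d9e96b4f5),
    (21, 1, 0x16c3ac22088dc490c79aa8e4756da970b74594476d786153), (22, 1, 0x1d09461c3d82821ec2ada1d323aeba7713f927c9d5)⟩,
  ⟨(25, 1, 0x14c51e423d0ee1168f3551d0e756d1cdb57ea81b6f425cdf3), (26, 1, 0x16e410f1c12f192a38b1d3ed46c7f5a741ef78f67bb729a),
    (26, 1, 0x1115707245410fab8b974d34691d66d181d596edb65c5d20e), (25, 1, 0x505a741c220c10fac6387b4aa7767c6457c6d5ed292cf)⟩,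
  ⟨(27, 1, 0x33159d9275bb6bd68dc3f5b5de6e), (57, 1, 0xb730eb088300bc9524b8293ad99dbadd529496ad2),
    (27, 1, 0x14c53a0e8ab839265e3cd048755566e5bcacc4e5c466), (57, 1, 0xd3ee8298ac3ae087c7b4b0a44758f09af756a96d4daf9)⟩,
  ⟨(30, 1, 0x365300bcd15c97160a8de44716430fdaf6b6b691b37a9), (29, 1, 0x1d074455240c83439227ca94),
    (29, 1, 0x1875844151f220e02ed4703dd609b5dbe), (30, 1, 0x1d073135d53d1175374bee4a9ce398aba2a71ed6eaac65a8f)⟩,
  ⟨(28, 1, 0xa629d071549612da2ab9d72b9f59ac4e6372da51b4c3ea88aa486c1b1), (28, 1, 0x9298a8ab83922ae116a6aa1621249c4685d0),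
    (28, 1, 0xa629d075226aa22017cd54ef638a88b65ba6c), (28, 1, 0x914c53a0fa334b6412a38b10e9129184d62)⟩,
  ⟨(29, 1, 0x30eb1e43a1934db20f91070eae534db745c86ae), (29, 1, 0x22b3b2479aa8da3e467b8daf3e945e6534dad0),
    (29, 1, 0x741ca30e1ec16441c12a35458e825edbc1930aeac), (29, 1, 0x1b2222a92059f70864d43113acd28bcd66f24db6817d1d2)⟩,
  ⟨(30, 1, 0x71729089243955ae330e41c75c262a4b76), (30, 1, 0x76ca30e1f2f705160a150ee4d3988eac16d2044153fd0ab593732d8),
    (30, 1, 0x69408e83aa131510f89abc918b1879aca656d659eb), (30, 1, 0x12f6c790e87159d92c88389aa8a23a175e9ad0aed016b69)⟩,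
  ⟨(31, 1, 0x28c3ac790ea0978e6578dd474e796a22a9236d7e96a8202f4bead), (62, 1, 0x1104704bc62af7a233a75bcf996d28e),
    (31, 1, 0xbd94c53a0e3c847a1a0d13c595704b92162a95a45a35efec3d4), (62, 1, 0x2d253a0e462a69292a535892a53d2b8af0)⟩,
  ⟨(33, 1, 0x741c220aa017b0cb23894135eaa34ad809f8), (65, 1, 0x14b4247908f43805f1721aa95a3d553b920531),
    (33, 1, 0x365315875844121f4db1e2a929c1f416dd4452cd24e), (65, 1, 0x8d1c8882bd921a6aa12a38b29ecbe2fc51c4ab5ef7e37e)⟩,
  ⟨(32, 1, 0x478ec3ad1154902a92c26196e14f646cb0c60ed00ce11), (67, 1, 0x6821e6568e143ada2ab9d72b98feb53ece61769d6e),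
    (32, 1, 0x1587584411c2aab25e5acf126c4cca25d4a7a1adb58a79d07), (67, 1, 0x741e0198a8f25605a10c5317666a57ad55a285a8d5ded1)⟩,
  ⟨(37, 1, 0x1e49d5154941233721d5d96e567), (36, 1, 0x728c387b041829e1619663cd96791d30d1b9),
    (37, 1, 0x12d298a88aa485410f3e441c3a42cb507143756e2a5), (36, 1, 0x1b9d0719143ab90db2cecd4f7268ccb)⟩,
  ⟨(37, 1, 0x33b298a88b922be8952937623a7c6d230b130e8f62d6e55b), (38, 1, 0x23c8743830b6c8a2c61974684d16cc4e7622b6b550),
    (38, 1, 0x328ab83922a08791c3692846d712), (37, 1, 0x61d63c847a1896d8c20931e90b0a19763a1a5a5a6be6e)⟩,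
  ⟨(74, 1, 0xa628f21d0e087c6be8584592e4277278a6ecd935a3), (39, 1, 0x343c874350cb59e1d41459ba8dcb6865b),
    (74, 7, 0x2653158758441269b644d5473b0a5eacd298b56c77a7765e), (39, 1, 0x4b0eb455c1c9213151f5766a5b690db3b92b4de2a3192bda025cdd8)⟩,
  ⟨(47, 1, 0x7908f4337242890d3552d13676edde6d7bfd4), (40, 1, 0x31408823a84b6190329ee6c16e8db1dc17bf85),
    (47, 1, 0x3c745314220a7acdd87689b3ba452f9e5d169354), (40, 1, 0x3053c22af7a233a1ddedb46be6f54b115402f)⟩,
  ⟨(43, 1, 0x220ae4716bb7612a3545863e1c3aba358c6aec9223b1486), (41, 1, 0x6e485121a2954d26742da91769cb56d7f635),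
    (41, 1, 0x45314e83934db213d66ec372a5d6ae424c671ba79c), (43, 1, 0xc14c5445524407e19c75096c375695f65ba745567bef682fb0)⟩,
  ⟨(44, 1, 0x2ba20b0eb5226aa214b91e4641e2495ebddd2af), (42, 1, 0x69c531608792a4ddb4db222c9edcb5c84edd72d5f7b9),
    (44, 1, 0x14c51e423d0e0879b2b86cb8), (42, 1, 0x14c50882322864a8e2c43bceb2e42851a27d85ad7149)⟩,
  ⟨(50, 1, 0x122c3ac6450d0683baf), (50, 1, 0x58220aa0879a278b26aa3b2c7e5a976b1a5d69b),
    (50, 1, 0x1e43a19b92144868efb764871105be), (50, 1, 0x174a8a63da3da30cb239dd7b6096d73e)⟩,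
  ⟨(46, 1, 0x5314e83a2ae0e48a41a278b2aecd4b6d36c874fc36c34564aed), (45, 1, 0xac4e838f211e866216a393933db76ae4bd4da5b46df86),
    (46, 1, 0x215cd5731f51c9d8a51bd63d8d8525690dfe), (45, 1, 0x29135510a1c2aab25e3995e3751cac79a480ad20d699)⟩,
  ⟨(46, 1, 0x298a462a6928ea12d86e8f3ad155f5155c20b7d0), (46, 1, 0x5314e838f211e87043ce63ba3c0d9e2715b409290bbc77),
    (46, 1, 0x11057238b5dbb055ef44675b7bc55b0e3db3d369c694c5), (46, 1, 0xc3ad489aa88520951c584a9376205da8e0358c6d198b58)⟩,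
  ⟨(52, 1, 0x1861d63c847a1c7989f26d93a76d0673b6a2d7beaf7ce7d), (48, 1, 0x2a92c261964711a490676cda81),
    (51, 1, 0x61d6a821e9eb3761962454b4cc43616bc53), (49, 1, 0xa62f7b9684a88b3155c8e8511edaab6e14b4ff3e628ac9d)⟩,
  ⟨(48, 1, 0x1875c567648d5731f51c9ccf36de68f14c8acd8e04e), (48, 1, 0x2c4531587584418050f5b59c572028b2f2f79ced6d6d90df2),
    (48, 1, 0x298a741c790e86814f4386a2a7513a25b4db21caaa26b74acd5cece), (48, 1, 0x3352a131502f54476290ce4b2157724d98970b8465)⟩,
  ⟨(53, 1, 0x92741d15707245410f8aa4e73fd044bcd6d05b), (50, 1, 0x111549101f8678c4a7825ce5b532a44b5d3a4dc39ef),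
    (50, 1, 0x1d530eb84c547c5c86b3dcabfa17b853693580be39), (53, 1, 0x1a6222a9215043d855f029de8edb0776)⟩,
  ⟨(52, 1, 0xa62a22a923220e2a9a32cd2b5730bab8e57dbd571cb5b31), (52, 1, 0x18758f211e86a821e4a93299b6487479d68aafc3ab24bced),
    (52, 1, 0x1a368a53147908f441c5d44e896d36ce9d6edd721c6e5b7), (52, 1, 0xa5500beae2e495717243bbbd72da4a5eb4de5817f25a135b4)⟩,
  ⟨(55, 1, 0x118758f21d0d72e762c1d62e595d3d15a46b22eb9a8c0d205), (79, 5, 0x19b6dc5315115490b90ec4dcf914d5e2dce16cb0eb7bed8),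
    (55, 2, 0x1ee95a1105caa7282691d372a6b14237), (79, 1, 0x14c53a0e8555d921c8e648dee436f)⟩,
  ⟨(57, 1, 0xc5314220a053d0e1a631d80cee363db1), (56, 1, 0x531422829e18a99baba2c311c4692f4f62170c174),
    (56, 1, 0x69d0728c387b04a84c5443e2a93abee45a2642de1f3af), (57, 1, 0x298a741c704bc758c2f213a6ceeded7b5af96a31)⟩,
  ⟨(58, 1, 0x2d489aa8852e4791911eb4f0a0a4edf7919d5ac3af557dd9669ab0), (83, 1, 0x222a92059f7086254b6b446e90ea9),
    (58, 1, 0x298a2832f3594e4a847163a69ee4705b4c166f2b93acdaee54), (83, 1, 0xe838c8a19a278b1d2dd5a16d7b0dc216ccdf5)⟩,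
  ⟨(60, 5, 0x688d6b198951aa2cdaf38931ac3adb0c2f3c9ae10a94c5ce65c), (60, 5, 0x18e53844184c547a86ca3f4d59d8e8936e8aea4ab5a3825e3c7259),
    (60, 1, 0x1861d6814f43868952d88eaae2e71d65316f58adbd69eb1), (60, 1, 0x12565e3cd04854d5475a035cedc68c837730d6be35)⟩,
  ⟨(65, 1, 0x5317220e09526ec440fb01b1db971a36cf7a), (63, 1, 0x1e298ac3ad489aa8856441c57b56da4c9928d8d2140cead),
    (63, 1, 0x7908f435c8e2d76ec8b3ab149d23262d1404d14ecb), (65, 1, 0xa629a235ac66993d0e58222f1246b341b4221934c5)⟩,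
  ⟨(66, 1, 0xa629a2491845e249a2e733), (64, 1, 0x15aec3ac704bc679aa8ea5335555cce5bb6),
    (66, 1, 0x402f619647504d0da9e5b64c), (64, 1, 0x1be94c5c883845e5ef3b396b60b19143)⟩,
  ⟨(67, 1, 0x540a629d071e43a1aa080bceef5376d09f2466be), (66, 1, 0xe83844180fc33cc9e872c171332ae9b8d69dc68f9a),
    (66, 1, 0x61d68ab8392286419aae63ea393876d8dbbcbdce5b601914c5), (67, 1, 0x2741e2b3b14c6396459d8e9ebcd24a12259d50c9f8)⟩,
  ⟨(70, 1, 0x2208abde88ceb5136c29aca3b5c0ca4c), (71, 1, 0x204415402f1d62e595c2d71a28b2ee4321769b91),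
    (71, 1, 0xa629d071e43a1a904a8f9d8b0c3975d2), (70, 1, 0xc3ac7908f4354262a3c955e3dcabfaf23abab41646a6994c3b6)⟩,
  ⟨(72, 1, 0x790e8832690db3b32dc6cd9514b9408c93a92), (89, 1, 0x969a53d322ea2744b69b67658db3496c36967d452406bb),
    (72, 1, 0x1302e434282c61e6a793ece5294b6b6b52a), (89, 1, 0x165226aa2142cfb8435763ba5eed8e8e99d7eb4621abcd4)⟩,
  ⟨(74, 1, 0x14c51e43a1dc22d30ab23ace5c5a4135b60fb7d), (73, 1, 0x1d07088310acec955d9255d920dd4db49b9bb5c6e662),
    (73, 1, 0x741d7ef65c7621cece16ed2db66a692af5d56e6b7), (74, 7, 0x298ac3ac2e43427c8838731fd0b49b3356d5f6d4)⟩,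
  ⟨(76, 1, 0x220e7024b648355cc7d47274f07146e46becc430eb), (76, 1, 0x7b031d0742aaec92a9a32cd3148ea85baa956f25636e5170),
    (76, 1, 0x5222a9226568e143d5c86da30a3e2c6dd4d9b6826e711), (76, 1, 0xa6290fa6d8f1549497c78bbae42a7a4fcc42b8ad04a8e2c)⟩,
  ⟨(77, 1, 0xb2088301f867310b51c9d99b47cbd5da6d636), (77, 1, 0x1105468924670d0b6b6d9bce027ceb8),
    (77, 1, 0x741c8c54d25ab825cb96b5c9d5649cba6795), (77, 1, 0x8f21d412f1a0855edd2666a6e508a)⟩,
  ⟨(82, 1, 0x4a61e423d0d0aabb246196e9ee5a6ed6d6bcb8), (83, 1, 0x2e1721a12549bb11d7a5a766e3a1dd4dc6ac4d),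
    (83, 1, 0x6aca628f21d0e26af246b3b72b3c7b92f16a41d1), (82, 1, 0x978d8758441547ad850864387da3616d3c2e830eb9ba6e)⟩]

/-- the certificates of the type `t` -/
noncomputable def ct (t : ℕ) : C4 := ntd cs ⟨0, 0, 0, 0⟩ t

/-- the check of the type `t` -/
noncomputable def c4 (t : ℕ) : Bool :=
  c2 (TAB.F22.wd ((t + 58) % 59)) (ct t).a (ct t).b && c2 ((TAB.F22.wd ((t + 58) % 59)).map sw) (ct t).c (ct t).d

theorem ck0 : allL c4 (List.range' 0 5) = true := by decide +kernel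

theorem ck1 : allL c4 (List.range' 5 5) = true := by decide +kernel

theorem ck2 : allL c4 (List.range' 10 5) = true := by decide +kernel

theorem ck3 : allL c4 (List.range' 15 5) = true := by decide +kernel

theorem ck4 : allL c4 (List.range' 20 5) = true := by decide +kernel

theorem ck5 : allL c4 (List.range' 25 5) = true := by decide +kernel

theorem ck6 : allL c4 (List.range' 30 5) = true := by decide +kernel

theorem ck7 : allL c4 (List.range' 35 5) = true := by decide +kernel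

theorem ck8 : allL c4 (List.range' 40 5) = true := by decide +kernel

theorem ck9 : allL c4 (List.range' 45 5) = true := by decide +kernel

theorem ck10 : allL c4 (List.range' 50 5) = true := by decide +kernel

theorem ck11 : allL c4 (List.range' 55 4) = true := by decide +kernel

theorem c4_all {t : ℕ} (ht : t < 59) : c4 t = true := by
  have h : t ∈ List.range' 0 5 ∨ t ∈ List.range' 5 5 ∨ t ∈ List.range' 10 5 ∨ t ∈ List.range' 15 5 ∨
      t ∈ List.range' 20 5 ∨ t ∈ List.range' 25 5 ∨ t ∈ List.range' 30 5 ∨ t ∈ List.range' 35 5 ∨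
      t ∈ List.range' 40 5 ∨ t ∈ List.range' 45 5 ∨ t ∈ List.range' 50 5 ∨ t ∈ List.range' 55 4 := by
    simp only [List.mem_range'_1]
    omega
  rcases h with h | h | h | h | h | h | h | h | h | h | h | h
  exacts [allL_spec ck0 t h, allL_spec ck1 t h, allL_spec ck2 t h, allL_spec ck3 t h,
    allL_spec ck4 t h, allL_spec ck5 t h, allL_spec ck6 t h, allL_spec ck7 t h,
    allL_spec ck8 t h, allL_spec ck9 t h, allL_spec ck10 t h, allL_spec ck11 t h]

/-- the lists `u`, `v` are the values of the odd part of the row `r` of `Fi23` -/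
def Sd (r u v : List ℤ) : Prop := ∀ t < 59, nth r (ct t).a.1 - nth r (ct t).b.1 = 2 * nth u t ∧
  nth r (ct t).c.1 - nth r (ct t).d.1 = 2 * nth v t

/-- **the seeds** -/
theorem seed {r u v : List ℤ} (hr : r ∈ TAB.F23.rows) (h : Sd r u v) : ∃ f, Rp f u v := by
  obtain ⟨T, hH, hT, -⟩ := box
  have := finK
  have := Fintype.ofFinite K
  have h1 := H651.isGeneralizedCharacter_comp_hom K.subtype (TAB.F23.rows_of hH r hr)
  have h2 : ∀ t < 59, (T.ty (xp t : K) = (ct t).a.1 ∧ T.ty (zK * xp t : K) = (ct t).b.1) ∧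
      T.ty (al (xp t) : K) = (ct t).c.1 ∧ T.ty (zK * al (xp t) : K) = (ct t).d.1 := fun t ht => by
    have h3 := c4_all ht
    rw [c4, Bool.and_eq_true] at h3
    rw [xp, al_wd (Nat.mod_lt _ (by norm_num))]
    exact ⟨c2_spec hT h3.1, c2_spec hT h3.2⟩
  refine ⟨_, gen_odd z_mem ext.zz h1, fun x => ?_, fun t ht => ?_, fun t ht => ?_⟩
  · rw [← mul_assoc, ext.zz, one_mul]
    ring
  · simp only [Subgroup.subtype_apply, (h2 t ht).1.1, (h2 t ht).1.2]
    rw [← Int.cast_sub, (h t ht).1, Int.cast_mul, Int.cast_ofNat, mul_div_cancel_left₀ _ two_ne_zero]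
  · simp only [Subgroup.subtype_apply, (h2 t ht).2.1, (h2 t ht).2.2]
    rw [← Int.cast_sub, (h t ht).2, Int.cast_mul, Int.cast_ofNat, mul_div_cancel_left₀ _ two_ne_zero]

end Cfsg.Agent.MO.S.F22T
end

-- part: MO/S/E62X/Dfs
section
/-!
# MO, covers : the count `F6.kk_dfs` for an arbitrary linear family of functions (helper79)

* `Ln F` : `F : List ℤ → X → ℂ` is linear for `TAB.Cov.lin`; `Gd l f` : `f` is a generalized character over `l`;
* `bessel` : soundness of `TAB.Cov.dfs`;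
* `kk_lin` : the count; `kk_lat` : rows `s x * v (ty x) + s2 x * v (ty2 x)`.
-/

set_option autoImplicit false

namespace Cfsg.Agent.MO.S.E62X

open Cfsg Finset Subgroup Cfsg.Agent.TAB.Eng Cfsg.Agent.TAB.Cov Cfsg.Agent.Characters
open Cfsg.Agent.Characters.Core Cfsg.Agent.Characters.Brauer Cfsg.Agent.H447.CTab Cfsg.Agent.MO.S.Cov2
open Cfsg.Agent.MO.S.F6
open scoped ComplexConjugate

/-- **Bessel's inequality and the enumeration**, for a linear family -/
theorem bessel {ι : Type} [Fintype ι] {E : List ℤ → ι → ℝ} {P : List ℤ → Prop} {h : ι → ℝ} {D : Dat}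
    (hP : ∀ c vs, (∀ v ∈ vs, P v) → P (lin c vs))
    (hl : ∀ c vs as, (∀ v ∈ vs, P v) → List.Forall₂ (fun v (a : ℤ) => ∑ x, h x * E v x = a) vs as →
      ∑ x, h x * E (lin c vs) x = TAB.Cov.dot c as)
    (hs : ∀ v w, P v → P w → D.N * ∑ x, E v x * E w x = ip D v w) (hN : 0 < D.N) {L fuel : ℕ}
    {lf : List ℤ → ℕ → Bool} (lv : List Lev) (hv : ∀ l ∈ lv, P l.v ∧ ∃ a : ℤ, ∑ x, h x * E l.v x = a)
    {vs us : List (List ℤ)} {as : List ℤ} {bud : ℕ} {W : ι → ℝ} (hok : okLev D lv vs us = true)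
    (hd : dfs lf (L * D.N) fuel lv as bud = true) (hvs : ∀ v ∈ vs, P v)
    (ha : List.Forall₂ (fun v (a : ℤ) => ∑ x, h x * E v x = a) vs as)
    (hW : ∀ u, P u → (∀ w ∈ us, ip D w u = 0) → ∑ x, W x * E u x = 0)
    (hE : L * ∑ x, (h x - W x) ^ 2 ≤ bud) :
    ∃ (as : List ℤ) (bud : ℕ), lf as bud = true ∧
      List.Forall₂ (fun v (a : ℤ) => ∑ x, h x * E v x = a) ((lv.map Lev.v).reverse ++ vs) as := by
  induction lv generalizing vs us as bud W with
  | nil => exact ⟨as, bud, hd, ha⟩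
  | cons l lv ih =>
    obtain ⟨hl1, a, ha'⟩ := hv l List.mem_cons_self
    change (frL (lin (l.p :: l.r) (l.v :: vs)) fun u => Nat.blt 0 l.p && Nat.blt 0 l.n && decide (ip D u u = l.n) &&
      allL (fun w => decide (ip D w u = 0)) us && okLev D lv (l.v :: vs) (u :: us)) = true at hok
    simp only [frL_eq, Bool.and_eq_true, Nat.blt_eq, decide_eq_true_eq] at hok
    obtain ⟨⟨⟨⟨hp, hn⟩, hu⟩, ho⟩, hok⟩ := hok
    have hvs' : ∀ v ∈ l.v :: vs, P v := List.forall_mem_cons.2 ⟨hl1, hvs⟩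
    have h0 := hP (l.p :: l.r) _ hvs'
    have h1 := hl (l.p :: l.r) _ _ hvs' (List.Forall₂.cons ha' ha)
    rw [show TAB.Cov.dot (l.p :: l.r) (a :: as) = l.p * a + TAB.Cov.dot l.r as from rfl] at h1
    have h2 := hW _ h0 fun w hw => of_decide_eq_true (allL_spec ho w hw)
    have h3 := hs _ _ h0 h0
    rw [hu, Int.cast_natCast] at h3
    generalize lin (l.p :: l.r) (l.v :: vs) = u at h0 h1 h2 h3 hok
    have hd' := dfs_cons hd hp a
    generalize l.p * a + TAB.Cov.dot l.r as = b at h1 hd'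
    have hn' : (0 : ℝ) < l.n := by exact_mod_cast hn
    have hN' : (0 : ℝ) < D.N := by exact_mod_cast hN
    have h4 : ∑ x, (h x - (W x + D.N * b / l.n * E u x)) ^ 2 = ∑ x, (h x - W x) ^ 2 - D.N * b ^ 2 / l.n := by
      have h5 : ∀ x, (h x - (W x + D.N * b / l.n * E u x)) ^ 2 = (h x - W x) ^ 2 +
          (D.N * b / l.n) * (2 * (W x * E u x) - 2 * (h x * E u x) + (D.N * b / l.n) * (E u x * E u x)) :=
        fun x => by ring
      have h6 : ∑ x, E u x * E u x = l.n / D.N := by rw [eq_div_iff hN'.ne', mul_comm, h3]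
      simp only [h5, Finset.sum_add_distrib, Finset.sum_sub_distrib, ← Finset.mul_sum, h1, h2, h6]
      field_simp
      ring
    have h5 : (cost (L * D.N) l.n b.natAbs : ℝ) ≤ L * (D.N * b ^ 2 / l.n) := by
      refine Nat.cast_div_le.trans (le_of_eq ?_)
      simp only [Nat.mul_eq, Nat.cast_mul, Nat.cast_natAbs, Int.cast_abs, abs_mul_abs_self]
      ring
    have h6 : 0 ≤ (L : ℝ) * ∑ x, (h x - (W x + D.N * b / l.n * E u x)) ^ 2 := by (clear * -; positivity)
    have h8 : cost (L * D.N) l.n b.natAbs ≤ bud := by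
      rw [h4] at h6
      have h10 : (cost (L * D.N) l.n b.natAbs : ℝ) ≤ (bud : ℝ) := by linarith only [hE, h5, h6]
      exact_mod_cast h10
    have h9 := ih (fun k hk => hv k (List.mem_cons_of_mem _ hk)) (W := fun x => W x + D.N * b / l.n * E u x)
      hok (hd' h8) hvs' (List.Forall₂.cons ha' ha) (fun w hw1 hw => ?_) (by rw [h4, Nat.cast_sub h8]; linarith only [hE, h5])
    · rwa [List.map_cons, List.reverse_cons, List.append_assoc]
    · have h10 := hs u w h0 hw1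
      rw [hw u List.mem_cons_self, Int.cast_zero, mul_eq_zero] at h10
      simp only [add_mul, Finset.sum_add_distrib, mul_assoc, ← Finset.mul_sum, h10.resolve_left hN'.ne',
        hW w hw1 fun k hk => hw k (List.mem_cons_of_mem _ hk), mul_zero, add_zero]

variable {X : Type} [Group X] {D : Dat} {F : List ℤ → X → ℂ} {l : X → ℂ}

/-- a linear family of functions -/
structure Ln (F : List ℤ → X → ℂ) : Prop where
  nil : F [] = 0
  cons : ∀ (a : ℤ) c v vs, F (lin (a :: c) (v :: vs)) = (a : ℂ) • F v + F (lin c vs)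

/-- a generalized character over `l` -/
def Gd (l f : X → ℂ) : Prop := IsGeneralizedCharacter X f ∧ Lo (center X) l f

theorem Gd.zero : Gd l 0 := ⟨isGeneralizedCharacter_zero, fun _ _ _ => (mul_zero _).symm⟩

theorem Gd.add {f g : X → ℂ} (h : Gd l f) (h' : Gd l g) : Gd l (f + g) :=
  ⟨isGeneralizedCharacter_add h.1 h'.1, fun z hz x => by rw [Pi.add_apply, Pi.add_apply, h.2 z hz, h'.2 z hz, mul_add]⟩

theorem Gd.smul {f : X → ℂ} (h : Gd l f) (a : ℤ) : Gd l ((a : ℂ) • f) :=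
  ⟨isGeneralizedCharacter_mul (gen_const X a) h.1, fun z hz x => by
    rw [Pi.smul_apply, Pi.smul_apply, h.2 z hz, mul_smul_comm]⟩

theorem Ln.gd (H : Ln F) (c : List ℤ) {vs : List (List ℤ)} (h : ∀ v ∈ vs, Gd l (F v)) : Gd l (F (lin c vs)) := by
  induction c generalizing vs with
  | nil => exact H.nil ▸ Gd.zero
  | cons a c ih => cases vs with
    | nil => exact H.nil ▸ Gd.zero
    | cons v vs =>
      rw [H.cons]
      exact ((h v List.mem_cons_self).smul a).add (ih fun w hw => h w (List.mem_cons_of_mem _ hw))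

theorem Ln.ntd (H : Ln F) {vs : List (List ℤ)} (h : ∀ v ∈ vs, Gd l (F v)) (i : ℕ) : Gd l (F (ntd vs [] i)) := by
  rcases ntd_mem vs [] i with h1 | h1
  · rw [h1, H.nil]
    exact Gd.zero
  · exact h _ h1

variable [Fintype X]

/-- the pairings -/
def Pr (F : List ℤ → X → ℂ) (χ : X → ℂ) (vs : List (List ℤ)) (a : List ℤ) : Prop :=
  List.Forall₂ (fun v (b : ℤ) => classInner (F v) χ = b) vs a

theorem Ln.inner_nil (H : Ln F) (χ : X → ℂ) : classInner (F []) χ = 0 := by simp [classInner_def, H.nil]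

theorem Pr.lin (H : Ln F) {χ : X → ℂ} {vs : List (List ℤ)} {a : List ℤ} (h : Pr F χ vs a) (c : List ℤ) :
    classInner (F (lin c vs)) χ = (TAB.Cov.dot c a : ℤ) := by
  induction c generalizing vs a with
  | nil => exact (H.inner_nil χ).trans Int.cast_zero.symm
  | cons b c ih => cases h with
    | nil => exact (H.inner_nil χ).trans Int.cast_zero.symm
    | @cons v x vs a h1 h2 =>
      rw [H.cons, classInner_add_left, classInner_smul_left, h1, ih h2,
        show TAB.Cov.dot (b :: c) (x :: a) = b * x + TAB.Cov.dot c a from rfl, Int.cast_add, Int.cast_mul]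

/-- **Parseval** -/
theorem pars [Fintype (Ir (center X) l)] {f g : X → ℂ} (hu : Gd l f) (hw : Gd l g) :
    ∑ χ : Ir (center X) l, classInner f χ.1 * classInner g χ.1 = classInner f g := by
  classical
  have := finite_irr (G := X)
  have := Fintype.ofFinite (IrrCharacter X)
  rw [inner_sum_mu hu.1 hw.1, ← Finset.sum_subtype (Finset.univ.filter fun χ : IrrCharacter X =>
    ∀ z ∈ center X, (χ : X → ℂ) z = l z * (χ : X → ℂ) 1) (by simp only [_root_.Finset.mem_filter, _root_.Finset.mem_univ, _root_.true_and, _root_.implies_true]) fun χ : IrrCharacter X =>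
      classInner f χ * classInner g χ, Finset.sum_filter, Int.cast_sum]
  refine Finset.sum_congr rfl fun χ _ => ?_
  rw [Int.cast_mul, ← inner_mu, ← inner_mu]
  split_ifs with h
  · rfl
  · rw [inner_zero le_rfl hu.2 χ h, zero_mul]

theorem sum_qf [Fintype (Ir (center X) l)] (H : Ln F)
    (hG : ∀ v w, Gd l (F v) → Gd l (F w) → D.N * classInner (F v) (F w) = ip D v w)
    (Z : List (List ℤ)) {vs : List (List ℤ)} (hv : ∀ u ∈ vs, Gd l (F u))
    {a : Ir (center X) l → List ℤ} (ha : ∀ χ, Pr F χ.1 vs (a χ)) :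
    (D.N : ℂ) * ∑ χ, (qf Z (a χ) : ℂ) = tr D Z vs := by
  induction Z generalizing vs a with
  | nil => simp only [qf, tr, _root_.Int.cast_zero, _root_.Finset.sum_const_zero, _root_.MulZeroClass.mul_zero]
  | cons c Z ih =>
    have h1 : ∀ χ, (qf (c :: Z) (a χ) : ℂ) = classInner (F (ntd vs [] 0)) χ.1 *
        classInner (F (lin c vs)) χ.1 + qf Z (a χ).tail := fun χ => by
      rw [(ha χ).lin H, show qf (c :: Z) (a χ) = nth (a χ) 0 * TAB.Cov.dot c (a χ) + qf Z (a χ).tail from rfl,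
        Int.cast_add, Int.cast_mul]
      congr 2
      have h2 := ha χ
      generalize a χ = b at h2
      cases h2 with
      | nil => exact Int.cast_zero.trans (H.inner_nil _).symm
      | cons h3 _ => exact h3.symm
    simp only [h1, Finset.sum_add_distrib, mul_add]
    rw [pars (H.ntd hv 0) (H.gd c hv), hG _ _ (H.ntd hv 0) (H.gd c hv),
      ih (fun u hu => hv u (List.mem_of_mem_tail hu)) (a := fun χ => (a χ).tail) fun χ => ?_, ← Int.cast_add]
    · rfl
    · have h2 := ha χ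
      generalize a χ = b at h2
      cases h2 with
      | nil => exact List.Forall₂.nil
      | cons _ h3 => exact h3

open Classical in
/-- the pairing with the regular character -/
theorem inner_reg (hl : Fl X l) {f : X → ℂ} {k : ℕ} (hk : k * Nat.card (center X) = Nat.card X)
    (h : ∀ x, f x = if x ∈ center X then k * l x else 0) (χ : Ir (center X) l) :
    classInner f χ.1 = charDegree (χ.1 : X → ℂ) := by
  obtain ⟨d, -, hd, -⟩ := degree_dvd χ.1
  obtain ⟨μ, -, hμ⟩ := hl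
  have h2 : ∀ x, f x * conj ((χ.1 : X → ℂ) x) = if x ∈ center X then (k * d : ℂ) else 0 := fun x => by
    rw [h]
    split_ifs with hx
    · have h4 : l x * conj (l x) = 1 := by
        rw [hμ ⟨x, hx⟩, Complex.mul_conj, Complex.normSq_eq_norm_sq, Complex.norm_eq_one_of_pow_eq_one
          (n := orderOf (⟨x, hx⟩ : center X)) (by
            rw [← Units.val_pow_eq_pow_val, ← map_pow, pow_orderOf_eq_one, map_one, Units.val_one]) (orderOf_pos _).ne']
        simp
      rw [χ.2 x hx, hd, map_mul, map_natCast]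
      linear_combination k * d * h4
    · exact zero_mul _
  rw [show charDegree (χ.1 : X → ℂ) = d by simp [charDegree, hd], classInner_def,
    inv_mul_eq_iff_eq_mul₀ card_ne_zero_complex]
  simp only [h2, ← Finset.sum_filter, Finset.sum_const, nsmul_eq_mul]
  rw [← Fintype.card_subtype, ← Nat.card_eq_fintype_card, ← hk, Nat.cast_mul, mul_left_comm, mul_assoc]

open Classical in
/-- **the count** -/
theorem kk_lin (H : Ln F) (hN : 0 < D.N)
    (hG : ∀ v w, Gd l (F v) → Gd l (F w) → D.N * classInner (F v) (F w) = ip D v w) (hl : Fl X l) {lv : List Lev}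
    (hv : ∀ a ∈ lv, Gd l (F a.v)) (hok : okLev D lv [] [] = true) {cd : List ℤ} {Z : List (List ℤ)}
    {n k p c L fuel : ℕ} {M : ℤ} (hM : M ≠ 0) (hn : Nat.card X = n) (hk : k * Nat.card (center X) = Nat.card X)
    (hc : ∀ x, F (lin cd ((lv.map Lev.v).reverse ++ [])) x = if x ∈ center X then k * l x else 0)
    (hZ : tr D Z ((lv.map Lev.v).reverse ++ []) = D.N * (M * c))
    (hd : dfs (leaf cd Z n p M) (L * D.N) fuel lv [] L = true) : kk p ⊤ (center X) l = c := by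
  have := finite_irr (G := X)
  have := Fintype.ofFinite (Ir (center X) l)
  have hN' : (D.N : ℂ) ≠ 0 := Nat.cast_ne_zero.2 hN.ne'
  have hv' : ∀ u ∈ (lv.map Lev.v).reverse ++ [], Gd l (F u) := fun u hu => by
    rw [List.append_nil, List.mem_reverse] at hu
    obtain ⟨a, ha, rfl⟩ := List.mem_map.1 hu
    exact hv a ha
  have key : ∀ χ : Ir (center X) l, ∃ a, Pr F χ.1 ((lv.map Lev.v).reverse ++ []) a ∧
      qf Z a = if p ∣ charDegree (χ.1 : X → ℂ) then 0 else M := fun χ => by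
    have h1 : ∀ v, ∑ ψ : Ir (center X) l, (if ψ = χ then (1 : ℝ) else 0) * (classInner (F v) ψ.1).re =
        (classInner (F v) χ.1).re := fun v => by simp only [_root_.ite_mul, _root_.one_mul, _root_.MulZeroClass.zero_mul, _root_.Finset.sum_ite_eq', _root_.Finset.mem_univ, ↓ _root_.reduceIte]
    have h2 : ∀ {vs as}, (∀ v ∈ vs, Gd l (F v)) → List.Forall₂ (fun v (a : ℤ) => ∑ ψ : Ir (center X) l,
        (if ψ = χ then (1 : ℝ) else 0) * (classInner (F v) ψ.1).re = a) vs as → Pr F χ.1 vs as := fun hvs h => by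
      rw [Pr, List.forall₂_iff_zip] at *
      refine ⟨h.1, fun {u b} hub => ?_⟩
      obtain ⟨b', h5⟩ := exists_mu (hvs u (List.of_mem_zip hub).1).1 χ.1
      have h6 := h.2 hub
      rw [h1, h5, Complex.intCast_re] at h6
      rw [h5, Int.cast_injective h6]
    obtain ⟨a, bud, h3, h4⟩ := bessel (E := fun v (ψ : Ir (center X) l) => (classInner (F v) ψ.1).re)
      (P := fun v => Gd l (F v)) (h := fun ψ => if ψ = χ then 1 else 0) (W := fun _ => 0) (fun c _ h => H.gd c h)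
      (fun c vs as hvs h => by rw [h1, (h2 hvs h).lin H, Complex.intCast_re]) (fun v w h5 h6 => by
        have h7 := hG v w h5 h6
        rw [← pars h5 h6] at h7
        simp only [inner_mu h5.1, inner_mu h6.1, Complex.intCast_re] at h7 ⊢
        exact_mod_cast h7) hN lv (fun a ha => ⟨hv a ha, (exists_mu (hv a ha).1 χ.1).imp fun b hb => by
        rw [h1, hb, Complex.intCast_re]⟩) hok hd (fun _ h => nomatch h) List.Forall₂.nil (fun _ _ _ => by simp only [_root_.MulZeroClass.zero_mul, _root_.Finset.sum_const_zero]) (by simp only [_root_.sub_zero, _root_.ite_pow, _root_.one_pow, _root_.ne_eq, _root_.OfNat.ofNat_ne_zero, _root_.not_false_eq_true, _root_.zero_pow, _root_.Finset.sum_ite_eq', _root_.Finset.mem_univ, ↓ _root_.reduceIte, _root_.mul_one, _root_.Std.le_refl])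
    have h5 := h2 hv' h4
    refine ⟨a, h5, ?_⟩
    obtain ⟨d, -, h6, h7⟩ := degree_dvd χ.1
    have h8 : charDegree (χ.1 : X → ℂ) = d := by simp [charDegree, h6]
    have h9 := (h5.lin H cd).symm.trans (inner_reg hl hk hc χ)
    rw [h8, ← Int.cast_natCast] at h9
    rw [leaf, frc_eq, Int.cast_injective h9, Int.natAbs_natCast,
      show n.mod d = 0 from Nat.mod_eq_zero_of_dvd (hn ▸ h7)] at h3
    rw [of_decide_eq_true h3, h8]
    split_ifs with h
    · rw [show d.mod p = 0 from Nat.mod_eq_zero_of_dvd h]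
      rfl
    · rw [show (d.mod p).beq 0 = false from
        Bool.eq_false_iff.2 fun e => h (Nat.dvd_of_mod_eq_zero (Nat.eq_of_beq_eq_true e))]
      rfl
  choose a h2 h3 using key
  have h4 := sum_qf H hG Z hv' h2
  simp only [hZ, h3, apply_ite ((↑) : ℤ → ℂ), Int.cast_zero, Finset.sum_ite, Finset.sum_const, smul_zero, zero_add,
    nsmul_eq_mul, Int.cast_mul, Int.cast_natCast, mul_comm (M : ℂ)] at h4
  rw [kk_top, ← Nat.cast_injective (mul_right_cancel₀ (Int.cast_ne_zero.2 hM) (mul_left_cancel₀ hN' h4)),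
    ← Fintype.card_subtype, ← Nat.card_eq_fintype_card]
  exact Nat.card_congr ⟨fun χ => ⟨⟨⟨χ.1, χ.2.1.1⟩, χ.2.2⟩, χ.2.1.2⟩, fun χ => ⟨χ.1.1.1, ⟨χ.1.1.2, χ.2⟩, χ.1.2⟩,
    fun _ => rfl, fun _ => rfl⟩

/-- rows with two columns -/
noncomputable def row2 (s s2 : X → ℂ) (ty ty2 : X → ℕ) (v : List ℤ) (x : X) : ℂ :=
  s x * nth v (ty x) + s2 x * nth v (ty2 x)

omit [Group X] [Fintype X] in
theorem ln_row2 (s s2 : X → ℂ) (ty ty2 : X → ℕ) : Ln (row2 s s2 ty ty2) :=
  ⟨funext fun x => by simp [row2, nth_nil], fun a c v vs => funext fun x => by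
    simp only [row2, nth_lin_cons, Pi.add_apply, Pi.smul_apply, smul_eq_mul]
    push_cast
    ring⟩

/-- the real part is enough -/
theorem inner_of_re {f g : X → ℂ} (hf : Gd l f) (hg : Gd l g) {N : ℕ} {b : ℤ}
    (h : N * (∑ x, f x * conj (g x)).re = Nat.card X * b) : N * classInner f g = b := by
  have := finite_irr (G := X)
  have := Fintype.ofFinite (IrrCharacter X)
  have h1 := inner_sum_mu hf.1 hg.1
  generalize (∑ χ : IrrCharacter X, mu hf.1 χ * mu hg.1 χ : ℤ) = m at h1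
  rw [h1]
  rw [classInner_def, inv_mul_eq_iff_eq_mul₀ card_ne_zero_complex] at h1
  rw [h1, ← Int.cast_natCast (Nat.card X), ← Int.cast_mul, Complex.intCast_re, Int.cast_mul, mul_left_comm] at h
  have h2 := mul_left_cancel₀ (by exact_mod_cast (Nat.card_pos (α := X)).ne') h
  exact_mod_cast h2

open Classical in
/-- **the count for rows with two columns** -/
theorem kk_lat {s s2 : X → ℂ} {ty ty2 : X → ℕ} (hN : 0 < D.N)
    (hG : ∀ v w, D.N * (∑ x, row2 s s2 ty ty2 v x * conj (row2 s s2 ty ty2 w x)).re = Nat.card X * ip D v w)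
    (hl : Fl X l) {lv : List Lev} (hv : ∀ a ∈ lv, Gd l (row2 s s2 ty ty2 a.v)) (hok : okLev D lv [] [] = true)
    {cd : List ℤ} {Z : List (List ℤ)} {n k p c L fuel : ℕ} {M : ℤ} (hM : M ≠ 0) (hn : Nat.card X = n)
    (hk : k * Nat.card (center X) = Nat.card X)
    (hc : ∀ x, row2 s s2 ty ty2 (lin cd ((lv.map Lev.v).reverse ++ [])) x = if x ∈ center X then k * l x else 0)
    (hZ : tr D Z ((lv.map Lev.v).reverse ++ []) = D.N * (M * c))
    (hd : dfs (leaf cd Z n p M) (L * D.N) fuel lv [] L = true) : kk p ⊤ (center X) l = c :=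
  kk_lin (ln_row2 s s2 ty ty2) hN (fun v w h1 h2 => inner_of_re h1 h2 (hG v w)) hl hv hok hM hn hk hc hZ hd

end Cfsg.Agent.MO.S.E62X
end

-- part: MO/S/E62X/Defs
section
/-!
# MO, `6.²E₆(2)` : the interface of the count over a faithful central character (helper80)

`X` is the fibre product of the double cover `C.Y` and the triple cover `G`.

* `opL`, `bO`, `bL`, `exL`, `s3L` : the odd part of a column, the values of the Brauer lift of the module of dimension 27;
* `Link` : these values; `Sd` : the seeds on `X`; `Cert` : the count from the seeds.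
-/

set_option autoImplicit false

namespace Cfsg.Agent.MO.S.E62X

open Cfsg Subgroup Cfsg.Agent.TAB.Eng Cfsg.Agent.MO.S.E62Y
open scoped ComplexConjugate

/-- the odd part of a column, in the numbering `1 3a 3b 3c 5 7a 7b 9a 9b 11 13 15a 15b 17 19 21a 21b 33 35` -/
def opL : List ℕ :=
  [0, 0, 0, 1, 2, 3, 0, 0, 0, 0, 0, 4, 1, 2, 2, 1, 3, 2, 3, 3, 5, 6, 0, 0, 0, 0, 0, 7, 8, 4, 4, 9, 2, 3, 2, 1, 1, 3,
  2, 2, 3, 3, 10, 6, 5, 11, 12, 0, 0, 13, 7, 7, 8, 14, 4, 4, 15, 16, 9, 1, 2, 2, 5, 6, 12, 11, 17, 18]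

/-- the values on the elements of odd order, and `0` on the irrational types -/
def bO : List ℤ := [27, 9, 0, 0, 2, 6, -1, 3, 0, 0, 1, 5, -1, 0, 0, 0, 2, 0, 0]

/-- the values on the columns -/
def bL : List ℤ :=
  [27, 27, 27, 9, 0, 0, 27, 27, 27, 27, 27, 2, 9, 0, 0, 9, 0, 0, 0, 0, 6, -1, 27, 27, 27, 27, 27, 3, 0, 2, 2, 0, 0,
  0, 0, 9, 9, 0, 0, 0, 0, 0, 1, -1, 6, 5, -1, 27, 27, 0, 3, 3, 0, 0, 2, 2, 0, 2, 0, 9, 0, 0, 6, -1, -1, 5, 0, 0]

theorem bL_eq : ∀ t < 68, nth bL t = nth bO (opL.getD t 0) := by decide +kernel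

/-- the irrational columns -/
def exL : List ℕ := [31, 49, 53, 58, 66, 67]

/-- the columns whose order is divisible by `3` -/
def s3L : List ℕ :=
  [3, 4, 5, 12, 13, 14, 15, 16, 17, 18, 19, 27, 28, 32, 33, 34, 35, 36, 37, 38, 39, 40, 41, 45, 46, 50, 51, 52, 56,
  57, 59, 60, 61, 64, 65, 66]

variable {B : Type} [Group B] [Fintype B] (C : Cx B) {G S X : Type} [Group G] [Group S] [Group X]

/-- **the link** : the values of a generalized character of the triple cover as a function of the column -/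
def Link (q : C.Y →* S) (pG : G →* S) (z : G) : Prop :=
  ∀ ω : ℂ, 1 + ω + ω ^ 2 = 0 → ∃ β : G → ℂ, IsGeneralizedCharacter G β ∧ (∀ g, β (z * g) = ω * β g) ∧
    ∀ (y : C.Y) (g : G), q y = pG g → C.ix y < 68 → C.ix y ∉ exL →
      ∃ u : ℂ, u * conj u = 1 ∧ β g = u * nth bL (C.ix y) ∧ (¬ 3 ∣ orderOf g → u = 1)

/-- `v` are the values of a generalized character of the double cover -/
def OY (v : ℕ → ℤ) : Prop := IsGeneralizedCharacter C.Y fun y => C.fn v y

/-- **the seeds** -/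
structure Sd (a : X →* C.Y) (l u : X → ℂ) : Prop where
  nrm : ∀ x, u x * conj (u x) = 1
  cen : ∀ x, x ∈ center X ↔ C.ix (a x) = 0
  val : ∀ x ∈ center X, u x * C.sg (a x) = l x
  p3 : ∀ v, OY C v → (∀ t ∈ s3L, v t = 0) → Gd l fun x => u x * C.fn v (a x)
  be : ∀ v, OY C v → (∀ t ∈ exL, v t = 0) → Gd l fun x => u x * C.fn (fun t => v t * nth bL t) (a x)

/-- **the certificate** -/
def Cert : Prop :=
  ∀ (X : Type) [Group X] [Finite X] (a : X →* C.Y) (l u : X → ℂ), Function.Surjective a → Nat.card a.ker = 3 →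
    Nat.card (center X) = 6 → Fl X l → Sd C a l u → kk 5 ⊤ (center X) l = 20 ∧ kk 7 ⊤ (center X) l = 27

example := And.intro @Link.eq_def @Link.eq_1
example := And.intro @OY.eq_def @OY.eq_1
example := And.intro @Cert.eq_def @Cert.eq_1

end Cfsg.Agent.MO.S.E62X
end

-- part: MO/S/E62X/CkA
section
/-!
# `6.²E₆(2)` : the enumeration of the short vectors of the dual lattice (helper13)
-/

set_option autoImplicit false
set_option Elab.async false

namespace Cfsg.Agent.MO.S.E62X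

open Cfsg.Agent.TAB.Eng Cfsg.Agent.TAB.Cov

theorem Q5.all : dfs lf (1000000 * DX.N) 3 (lvA ++ lvB) [] 1000000 = true :=
  F6.Q5.fast_spec (3 ^ 38) 2 (2 ^ 30) (by delta lf; rewrite [F6.Q5.lz_eq]; decide +kernel)

theorem Q5.part_of {lf : List ℤ → ℕ → Bool} {C fuel : ℕ} {u v : List Lev} {hv : List ℤ} {L J j : ℕ}
    (h : dfs lf C fuel (u ++ v) [] L = true) : part lf C fuel u v hv L J j = true :=
  dfs_all (f := fun _ => dfs lf C fuel v) () (fun a b e => by
    cases Nat.beq (Nat.mod (TAB.Cov.dot hv a).natAbs J) j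
    exacts [rfl, e ()]) fun _ => dfs_app lf C fuel u v ▸ h

theorem pt0 : pt 0 = true := Q5.part_of Q5.all

theorem pt1 : pt 1 = true := Q5.part_of Q5.all

theorem pt2 : pt 2 = true := Q5.part_of Q5.all

end Cfsg.Agent.MO.S.E62X
end

private theorem dce_7eaa226c750f : _root_.True := by
  try have : _root_.True := by simp only [_root_.Cfsg.Agent.MO.S.E62X.row2.eq_1]
  try have : _root_.True := by simp only [_root_.Cfsg.Agent.MO.S.F22T.xp.eq_1]
  try have : _root_.True := by simp only [_root_.Cfsg.Agent.MO.S.F22T.cB.eq_1]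
  try have : _root_.True := by simp only [_root_.Cfsg.Agent.MO.S.F22T.c4.eq_1]
  try have : _root_.True := by simp only [_root_.Cfsg.Agent.MO.S.E62X.Pr.eq_1]
  try have : _root_.True := by simp only [_root_.Cfsg.Agent.MO.S.F22T.lw.eq_1]
  try have : _root_.True := by simp only [_root_.Cfsg.Agent.MO.S.F22T.c2.eq_1]
  exact _root_.True.intro
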