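import Cfsg.Agent.MQ.S.E62N.Main
import Cfsg.Agent.MQ.S.E62Y.Dat
import Cfsg.Agent.TAB.F22.CovB
import Cfsg.Agent.TAB.Use.Defs_m3
import Cfsg.Agent.MQ.S.E62G.Mdl
import Cfsg.Agent.MQ.S.M35.Loc
import Cfsg.Agent.H139.Cusp.Adams
import Cfsg.Agent.MQ.S.E62X.CkA
import Cfsg.Agent.MQ.S.B.Tri
import Cfsg.Agent.FastGrp
import Cfsg.Agent.Prune
set_option linter.all false
prune_inst 0x7ffca8fdeba8bfffff7f7e3ffed4ddfbf1a46fffa4dff9cbffe069bfafdf6b02c9c563ad0be350fe1eb6403410e87bc3fb7eefffea6fdc7ffffd5ff41ffbff8ffdf7b50851948c340fbc6ff783f0778e6f3fffffffffffffffffffffffffffbeffbffbfeffff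
open scoped Cfsg.Agent.FastGrp

-- part: MO/S/E62L/Odd
section
/-!
# MO, the elements of odd order of `2.²E₆(2)` inside of the Baby Monster (helper39)

* `rp i = ev sY (wd i) ^ ex i` : nineteen elements of odd order `oL i`; `rp i * zY` has the type `bL i`;
* `odd_conj` : an element of odd order is conjugate to `rp i` or to its image under the exchange of two arms.
-/

set_option autoImplicit false
set_option maxRecDepth 100000

namespace Cfsg.Agent.MO.S.E62L

open Cfsg Subgroup Cfsg.Agent.MO.S.E62C Cfsg.Agent.MO.S.E62N Cfsg.Agent.TwoESix Cfsg.Agent.TwoESix.Cover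
open Cfsg.Agent.TwoESix.Lift Cfsg.Agent.TwoESix.Cox10 Cfsg.Agent.TwoESix.Phi Cfsg.Agent.BabyU.OutFree
open Cfsg.Agent.H66.TwESixCover Cfsg.Agent.R01.Lifts Cfsg.Agent.Lib Cfsg.Agent.Lib.F2MatGroup Cfsg.Agent.TAB.B.Fin
open Cfsg.Agent.BMy.Chr

/-- the words -/
def wd (i : ℕ) : List (Fin 10) :=
  ([[], [3, 9, 7, 2, 4, 8, 1, 2, 3, 7, 4, 3, 1, 6, 2, 0, 5, 4], [1, 9, 7, 6, 0, 3, 5, 8], [1, 4, 8, 0, 3, 7, 2],
  [3, 0, 2, 4, 1, 5, 8, 3, 7, 4, 9, 6], [3, 0, 2, 4, 1, 5, 8, 3, 7, 4, 9, 6], [7, 3, 8, 0, 1, 5, 6, 2],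
  [5, 1, 3, 2, 4, 3, 8, 1, 7, 2], [1, 4, 8, 0, 3, 7, 2], [3, 9, 7, 2, 4, 8, 1, 2, 3, 7, 4, 3, 1, 6, 2, 0, 5, 4],
  [1, 2, 3, 4, 7, 5, 8, 6], [1, 9, 7, 6, 0, 3, 5, 8], [9, 6, 3, 8, 5, 7],
  [0, 8, 2, 1, 2, 7, 1, 4, 3, 5, 8, 6, 4, 7, 2, 9, 3, 5, 8, 9, 4, 7, 2, 3],
  [2, 9, 7, 3, 4, 8, 1, 0, 5, 3, 1, 7, 8, 2, 6, 1, 3],
  [2, 3, 8, 4, 5, 7, 3, 9, 7, 8, 4, 5, 1, 6, 2, 3, 7, 2, 5, 4, 0, 3, 4, 5, 7], [7, 3, 8, 0, 1, 5, 6, 2],
  [3, 9, 7, 2, 4, 8, 1, 2, 3, 7, 4, 3, 1, 6, 2, 0, 5, 4], [3, 0, 2, 4, 1, 5, 8, 3, 7, 4, 9, 6],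
  [5, 8, 3, 4, 7, 3, 2, 1, 4, 7]] : List (List (Fin 10))).getD i []

/-- the exponents -/
def ex (i : ℕ) : ℕ := [2, 22, 10, 6, 14, 10, 6, 4, 2, 6, 2, 2, 2, 2, 2, 2, 2, 2, 2, 4].getD i 0

/-- the orders -/
def oL (i : ℕ) : ℕ := [1, 3, 3, 3, 5, 7, 7, 9, 9, 11, 13, 15, 15, 17, 19, 21, 21, 33, 35, 9].getD i 0

/-- the types of the products with the central involution -/
def bL (i : ℕ) : ℕ :=
  [1, 19, 20, 22, 47, 75, 76, 90, 174, 107, 126, 133, 134, 144, 150, 157, 158, 171, 172, 90].getD i 0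

/-- the representatives -/
def rp (i : ℕ) : Y := ev sY (wd i) ^ ex i

/-! ### the automorphisms which fix the centre -/

theorem frY : Fr pY sY := ⟨cvY.surj, cvY.ker, zrels_sY.lift, pY_sY⟩

theorem extY : Ext pY zY := by
  refine ⟨cvY.surj, zrels_sY.zz, zY_ne, fun c => ?_, mem_center_iff.1 zY_cen⟩
  rw [← MonoidHom.mem_ker, ker_pY]
  refine ⟨fun ⟨k, hk⟩ => ?_, fun h => h.elim (fun e => e ▸ one_mem _) fun e => e ▸ mem_zpowers _⟩
  have h2 : zY ^ (2 : ℤ) = 1 := by rw [zpow_two, zrels_sY.zz]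
  rw [← hk]
  rcases Int.even_or_odd' k with ⟨j, rfl | rfl⟩
  · exact .inl (by simp only [zpow_mul, h2, one_zpow])
  · exact .inr (by simp only [zpow_add, zpow_mul, h2, one_zpow, zpow_one, one_mul])

theorem ar_zero (x : HB) : ar 0 x = x :=
  DFunLike.congr_fun (MonoidHom.eq_of_eqOn_dense (f := (ar 0).toMonoidHom) (g := MonoidHom.id HB) closure_s0
    (Set.forall_mem_range.2 (ar_s0 0))) x

theorem ar_ev (n : Fin 6) (w : List (Fin 10)) : ar n (ev s0 w) = ev s0 (w.map (P6 n)) :=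
  (ev_map (ar n).toMonoidHom s0 w).trans ((congrArg (ev · w) (funext (ar_s0 n))).trans (ev_comp s0 _ _))

theorem pY_rp (i : ℕ) : pY (rp i) = ev s0 (wd i) ^ ex i := by rw [rp, map_pow, pY_ev]

theorem ar_rp (n : Fin 6) (i : ℕ) : ar n (pY (rp i)) = ev s0 ((wd i).map (P6 n)) ^ ex i := by
  rw [pY_rp, map_pow, ar_ev]

theorem aut_Y (α : MulAut Y) (hα : α zY = zY) : ∃ u n, (n = 0 ∨ n = 3) ∧
    (∀ y, pY u * ar n (pY y) * (pY u)⁻¹ = pY (α y)) ∧ ∀ w, u * ev sY (w.map (P6 n)) * u⁻¹ = α (ev sY w) := by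
  obtain ⟨u, n, h⟩ := frY.perm α
  have h0 : ∀ y, u * ((MulAut.conj u)⁻¹ * α : MulAut Y) y * u⁻¹ = α y := fun y => by simp [mul_assoc]
  obtain ⟨h1, h2⟩ := zero_or_three extY zrels_sY ((MulAut.conj u)⁻¹ * α).toMonoidHom (n := n)
    (fun i => (h _).trans (by rw [pY_sY, pY_sY, ar_s0])) (by
      have h1 := h0 zY
      rw [hα, mul_inv_eq_iff_eq_mul, ← extY.comm] at h1
      exact mul_left_cancel h1)
  refine ⟨u, n, h1, fun y => by rw [← h, ← h0, map_mul, map_mul, map_inv], fun w => ?_⟩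
  rw [← h0, ← ev_comp]
  exact congrArg (u * · * u⁻¹) ((congrArg (ev · w) (funext h2)).symm.trans
    (ev_map ((MulAut.conj u)⁻¹ * α).toMonoidHom sY w).symm)

/-! ### matrices -/

/-- the matrix of a power of a word -/
noncomputable def mw (w : List (Fin 10)) (k : ℕ) : ℕ :=
  F2Mat.force (evW 78 SwapData.Sm (w.map Fin.val)) fun M => npow 78 M k

theorem codes_mw (w : List (Fin 10)) (k : ℕ) : Codes 78 (io (pY (ev sY w ^ k))) (mw w k) := by
  rw [mw, F2Mat.force_eq, map_pow, map_pow, pY_ev]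
  exact (codes_ev w).pow k

theorem mw_lt (w : List (Fin 10)) (k : ℕ) : mw w k < 2 ^ (78 * 78) := by
  rw [mw, F2Mat.force_eq]
  cases k
  exacts [F2Mat.one_lt' (n := 78), F2Mat.mul_lt (n := 78) (by norm_num) _ _]

theorem mw_eq {v w : List (Fin 10)} {k l : ℕ} (h : pY (ev sY v ^ k) = pY (ev sY w ^ l)) : mw v k = mw w l :=
  F2Mat.toMat_inj (mw_lt v k) (mw_lt w l) ((codes_mw v k).symm.trans (h ▸ codes_mw w l))

theorem ord_chk : ∀ i < 20, ex i % 2 = 0 ∧ oL i % 2 = 1 ∧ oL i < 36 ∧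
    Nat.beq (mw (wd i) (ex i / 2 * oL i)) (F2Mat.one 78) = true ∧
    ∀ d < 36, 1 < d → oL i % d = 0 → mw (wd i) (ex i * (oL i / d)) ≠ mw [] 0 := by decide +kernel

theorem ord_rp {i : ℕ} (hi : i < 20) : orderOf (rp i) = oL i := by
  obtain ⟨h1, h2, h3, h4, h5⟩ := ord_chk i hi
  refine orderOf_eq_of_pow_and_pow_div_prime (by omega) ?_ fun p hp h6 h7 => ?_
  · have h6 : ex i * oL i = ex i / 2 * oL i * 2 := by
      rw [mul_right_comm, Nat.div_mul_cancel (Nat.dvd_of_mod_eq_zero h1)]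
    rw [rp, ← pow_mul, h6, pow_mul, pow_two]
    rcases (extY.ker _).1 (io_inj (((codes_mw _ _).eq_one h4).trans (map_one io).symm)) with e | e <;> rw [e]
    · exact mul_one _
    · exact zrels_sY.zz
  · refine h5 p ((Nat.le_of_dvd (by omega) h6).trans_lt h3) hp.one_lt (Nat.mod_eq_zero_of_dvd h6) (mw_eq ?_)
    rw [pow_mul, pow_zero]
    exact congrArg pY h7

theorem odd_rp {i : ℕ} (hi : i < 20) (k : ℕ) : Odd (orderOf (rp i ^ k)) :=
  Odd.of_dvd_nat (by rw [ord_rp hi]; exact Nat.odd_iff.2 (ord_chk i hi).2.1) (orderOf_pow_dvd k)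

theorem rp_pow (i j k : ℕ) (h : wd i = wd j ∧ ex i = ex j * k) : rp i = rp j ^ k := by rw [rp, rp, h.1, h.2, pow_mul]

/-- the trace of a packed matrix -/
def tc (A k : ℕ) : Bool := Nat.rec false (fun i ih => xor ih (A.testBit (78 * i + i))) k

theorem trace_toMat (A : ℕ) : (F2Mat.toMat 78 A).trace = F2Mat.bz (tc A 78) := by
  have h1 : ∀ k, ∑ i ∈ Finset.range k, F2Mat.bz (A.testBit (78 * i + i)) = F2Mat.bz (tc A k) := fun k => by
    induction k with
    | zero => rfl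
    | succ k ih => rw [Finset.sum_range_succ, ih, ← F2Mat.bz_xor]; rfl
  exact (Fin.sum_univ_eq_sum_range (fun i => F2Mat.bz (A.testBit (78 * i + i))) 78).trans (h1 78)

/-- the trace -/
noncomputable def tr (x : HB) : ZMod 2 := (io x : Matrix (Fin 78) (Fin 78) (ZMod 2)).trace

theorem tr_conj {x y : HB} (h : IsConj x y) : tr x = tr y := by
  obtain ⟨u, rfl⟩ := isConj_iff.1 h
  rw [tr, tr, map_mul, map_mul, map_inv, Units.val_mul, Units.val_mul, Matrix.trace_units_conj]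

theorem tr_ar (x : HB) : tr (ar 3 x) = tr x := by
  rw [tr, tr, io_ar, Units.val_mul, Units.val_mul, Matrix.trace_units_conj]

/-- the trace of a power of a representative -/
noncomputable def tp (i k : ℕ) : Bool := F2Mat.force (mw (wd i) (ex i * k)) fun A => tc A 78

theorem tr_rp (i k : ℕ) : tr (pY (rp i ^ k)) = F2Mat.bz (tp i k) := by
  rw [tp, F2Mat.force_eq, rp, ← pow_mul, ← trace_toMat]
  exact congrArg Matrix.trace (codes_mw _ _)

theorem tp_val : tp 17 11 = true ∧ tp 11 5 = false ∧ tp 12 5 = true ∧ tp 15 7 = false ∧ tp 16 7 = true ∧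
    tp 19 1 = true ∧ tp 8 1 = false ∧ tp 7 1 = true := by decide +kernel

/-! ### a group of order eight -/

theorem eight_dvd {G F : Type} [Group G] [Finite G] [Group F] (π : G →* F) {S : Subgroup G} {a b z : G} (ha : a ∈ S)
    (hb : b ∈ S) (hz : z ∈ S) (h1 : ∀ x ∈ ({a, b, z} : Set G), x * x = 1)
    (h2 : ∀ x ∈ ({a, b, z} : Set G), ∀ y ∈ ({a, b, z} : Set G), x * y = y * x) (h3 : z ≠ 1) (h4 : π z = 1)
    (h5 : π a ≠ 1) (h6 : π b ≠ 1) (h7 : π a ≠ π b) : 8 ∣ Nat.card S := by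
  classical
  have : Fact (Nat.Prime 2) := ⟨Nat.prime_two⟩
  have e1 : closure ({a, b, z} : Set G) ≤ centralizer {a, b, z} := (closure_le _).2 fun x hx y hy => h2 y hy x hx
  have e2 : closure ({a, b, z} : Set G) ≤ centralizer (closure ({a, b, z} : Set G)) :=
    (closure_le _).2 fun x hx y hy => (e1 hy x hx).symm
  have e3 : ∀ x ∈ closure ({a, b, z} : Set G), x * x = 1 := fun x hx => by
    induction hx using closure_induction with
    | mem x hx => exact h1 x hx
    | one => exact mul_one _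
    | mul x y hx hy h h' => rw [(show Commute y x from e2 hx y hy).mul_mul_mul_comm, h, h', mul_one]
    | inv x _ h => rw [← mul_inv_rev, h, inv_one]
  obtain ⟨n, hn⟩ := IsPGroup.iff_card.1 (show IsPGroup 2 (closure ({a, b, z} : Set G)) from fun x =>
    ⟨1, Subtype.ext ((pow_two x.1).trans (e3 _ x.2))⟩)
  have e4 : [1, z, a, a * z, b].Nodup := by
    have e5 : π (a * z) = π a := by rw [map_mul, h4, mul_one]
    have e6 : ∀ x y, π x ≠ π y → x ≠ y := fun x y h e => h (congrArg π e)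
    simp only [List.nodup_cons, List.mem_cons, List.not_mem_nil, or_false, not_or, not_false_eq_true, List.nodup_nil,
      and_true]
    exact ⟨⟨h3.symm, e6 _ _ (map_one π ▸ h5.symm), e6 _ _ (map_one π ▸ e5 ▸ h5.symm), e6 _ _ (map_one π ▸ h6.symm)⟩,
      ⟨e6 _ _ (h4 ▸ h5.symm), e6 _ _ (h4 ▸ e5 ▸ h5.symm), e6 _ _ (h4 ▸ h6.symm)⟩,
      ⟨fun e => h3 (left_eq_mul.1 e), e6 _ _ h7⟩, e6 _ _ (e5 ▸ h7)⟩
  have e5 : 5 ≤ Nat.card (closure ({a, b, z} : Set G)) := by
    rw [show 5 = [1, z, a, a * z, b].length from rfl, ← List.toFinset_card_of_nodup e4, ← Set.ncard_coe_finset]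
    refine Set.ncard_le_ncard (t := (closure ({a, b, z} : Set G) : Set G)) (fun x hx => ?_)
    have m1 : a ∈ closure ({a, b, z} : Set G) := subset_closure (by simp)
    have m2 : z ∈ closure ({a, b, z} : Set G) := subset_closure (by simp)
    simp only [List.coe_toFinset, List.mem_cons, List.not_mem_nil, or_false, Set.mem_ofPred_eq] at hx
    rcases hx with rfl | rfl | rfl | rfl | rfl
    exacts [one_mem _, m2, m1, mul_mem m1 m2, subset_closure (by simp)]
  refine Dvd.dvd.trans ?_ (card_dvd_of_le ((closure_le S).2 (show ({a, b, z} : Set G) ⊆ S from ?_)))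
  · rw [hn] at e5 ⊢
    refine pow_dvd_pow 2 (show 3 ≤ n from ?_)
    by_contra h
    have h8 : 2 ^ n ≤ 2 ^ 2 := Nat.pow_le_pow_right (by norm_num) (by omega)
    omega
  · rintro x (rfl | rfl | rfl) <;> assumption

theorem ab_chk : mw ([7, 5, 4, 2, 3, 2, 4, 5, 7] ++ rep 4 (wd 19)) 1 = mw (rep 4 (wd 19) ++ [7, 5, 4, 2, 3, 2, 4, 5, 7]) 1 ∧
    mw ([8, 7, 4, 2, 3, 2, 4, 7, 8] ++ rep 4 (wd 19)) 1 = mw (rep 4 (wd 19) ++ [8, 7, 4, 2, 3, 2, 4, 7, 8]) 1 ∧
    mw ([7, 5, 4, 2, 3, 2, 4, 5, 7] ++ [8, 7, 4, 2, 3, 2, 4, 7, 8]) 1 =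
      mw ([8, 7, 4, 2, 3, 2, 4, 7, 8] ++ [7, 5, 4, 2, 3, 2, 4, 5, 7]) 1 ∧
    mw [7, 5, 4, 2, 3, 2, 4, 5, 7] 1 ≠ mw [] 0 ∧ mw [8, 7, 4, 2, 3, 2, 4, 7, 8] 1 ≠ mw [] 0 ∧
    mw [7, 5, 4, 2, 3, 2, 4, 5, 7] 1 ≠ mw [8, 7, 4, 2, 3, 2, 4, 7, 8] 1 ∧
    chk ((wd 19).map (P6 0)) (wd 19) = true ∧ chk ((wd 19).map (P6 3)) (wd 19) = true := by decide +kernel

theorem comm_of {v w : List (Fin 10)} (hd : Dl sY (ev sY w)) (h : mw (w ++ v) 1 = mw (v ++ w) 1) :
    ev sY w * ev sY v = ev sY v * ev sY w := by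
  have h1 := io_inj ((codes_mw _ _).eq (codes_mw _ _) (Nat.beq_eq ▸ h))
  rw [pow_one, pow_one, ev_append, ev_append, map_mul, map_mul] at h1
  exact (frY.comm hd h1.symm).symm

theorem dl_dw (c : List (Fin 10) × Fin 10) : Dl sY (ev sY (dw c)) :=
  ⟨ev sY c.1, c.2, by rw [dw, ev_append, ev_cons, ev_reverse zrels_sY.lift, mul_assoc]⟩

theorem dl_sq {d : Y} (h : Dl sY d) : d * d = 1 := by
  obtain ⟨g, i, rfl⟩ := h
  rw [conj_mul, sq zrels_sY.lift, mul_one, mul_inv_cancel]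

theorem eight_rp : 8 ∣ Nat.card (centralizer ({rp 19} : Set Y)) := by
  have := finite_Y
  obtain ⟨h1, h2, h3, h4, h5, h6, -⟩ := ab_chk
  have ha : Dl sY (ev sY [7, 5, 4, 2, 3, 2, 4, 5, 7]) := dl_dw ([7, 5, 4, 2], 3)
  have hb : Dl sY (ev sY [8, 7, 4, 2, 3, 2, 4, 7, 8]) := dl_dw ([8, 7, 4, 2], 3)
  have e1 := comm_of ha h1
  have e2 := comm_of hb h2
  have e3 := comm_of ha h3
  rw [ev_rep] at e1 e2
  have e4 : ∀ w, mw w 1 ≠ mw [] 0 → pY (ev sY w) ≠ 1 := fun w h e => h (mw_eq (by rw [pow_one, pow_zero, e, map_one]))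
  refine eight_dvd pY (mem_centralizer_singleton_iff.2 e1) (mem_centralizer_singleton_iff.2 e2)
    (mem_centralizer_singleton_iff.2 (extY.comm _).symm) ?_ ?_ zY_ne extY.mapz (e4 _ h4) (e4 _ h5)
    fun e => h6 (mw_eq (by rw [pow_one, pow_one, e]))
  · rintro x (rfl | rfl | rfl)
    exacts [dl_sq ha, dl_sq hb, zrels_sY.zz]
  · rintro x (rfl | rfl | rfl) y (rfl | rfl | rfl)
    exacts [rfl, e3, extY.comm _, e3.symm, rfl, extY.comm _, (extY.comm _).symm, (extY.comm _).symm, rfl]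

/-! ### the centralizer of the central involution -/

/-- the double cover as a subgroup -/
abbrev YB : Subgroup Spor.BabyMonster := BM.FactsB.HB BM.StageBFinalOf.gB

/-- the centralizer -/
abbrev HC : Subgroup Spor.BabyMonster := centralizer {(zY : Spor.BabyMonster)}

theorem le_HC : YB ≤ HC := fun y hy => mem_centralizer_singleton_iff.2 (congrArg Subtype.val (extY.comm ⟨y, hy⟩))

theorem z_pow (y : Y) {k : ℕ} (hk : Odd k) : ((y : Spor.BabyMonster) * zY) ^ k = (y ^ k : Y) * zY := by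
  obtain ⟨j, rfl⟩ := hk
  have h1 : (y * zY) ^ (2 * j + 1) = y ^ (2 * j + 1) * zY := by
    rw [(show Commute y zY from extY.comm y).mul_pow, pow_succ zY, pow_mul zY, pow_two, zrels_sY.zz, one_pow, one_mul]
  exact congrArg Subtype.val h1

theorem tab_chk : (∀ b < 5, b ≠ 0 → cen b % (2 * 76532479683774853939200) = 0 → b = 1) ∧
    cen 1 = 2 * 76532479683774853939200 * 2 ∧ cen 174 % 16 ≠ 0 ∧
    ∀ b < 175, datF.ord b % 4 = 2 → datF.pwf b (datF.ord b / 2) = 1 → ∃ i < 19, b = bL i ∧ datF.ord b = oL i * 2 := by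
  decide +kernel

variable (c : CT Spor.BabyMonster)

theorem ty_z : c.ty zY = 1 :=
  tab_chk.1 _ (c.sq_eq_one.1 ((pow_two _).trans (congrArg Subtype.val zrels_sY.zz)))
    (fun e => zY_ne (Subtype.ext (c.ty_eq_zero.1 e)))
    (Nat.mod_eq_zero_of_dvd (by rw [← c.cent_all, ← card_Y]; exact card_dvd_of_le le_HC))

include c in
theorem rel_two : YB.relIndex HC = 2 := by
  have h1 := relIndex_mul_relIndex ⊥ YB HC bot_le le_HC
  rw [relIndex_bot_left, relIndex_bot_left, c.cent_all, ty_z, tab_chk.2.1, card_Y] at h1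
  exact Nat.eq_of_mul_eq_mul_left (by norm_num) h1

include c in
theorem aut_of {x : Spor.BabyMonster} (hx : x ∈ HC) :
    ∃ α : MulAut Y, α zY = zY ∧ ∀ y : Y, (α y : Spor.BabyMonster) = x * y * x⁻¹ :=
  ⟨YB.normalizerMonoidHom ⟨x, (normal_subgroupOf_iff_le_normalizer le_HC).1 (normal_of_index_eq_two (rel_two c)) hx⟩,
    Subtype.ext (mul_inv_eq_iff_eq_mul.2 (mem_centralizer_singleton_iff.1 hx)), fun _ => rfl⟩

/-- the type of the product with the central involution -/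
def bt (y : Y) : ℕ := c.ty ((y : Spor.BabyMonster) * zY)

theorem bt_pow (y : Y) {k : ℕ} (hk : Odd k) : bt c (y ^ k) = datF.pwf (bt c y) k := by rw [bt, bt, ← z_pow y hk, c.ty_pow]

theorem bt_mem {y : Y} (h : Odd (orderOf y)) : ∃ i < 19, bt c y = bL i ∧ orderOf y = oL i := by
  have : Fact (Nat.Prime 2) := ⟨Nat.prime_two⟩
  have h1 : orderOf zY = 2 := orderOf_eq_prime ((pow_two _).trans zrels_sY.zz) zY_ne
  have h2 : datF.ord (bt c y) = orderOf y * 2 := by
    rw [← h1, ← (show Commute y zY from extY.comm y).orderOf_mul_eq_mul_orderOf_of_coprime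
      (h1 ▸ Nat.coprime_two_right.2 h), ← orderOf_coe]
    exact (c.ord _).symm
  obtain ⟨i, hi, h3, h4⟩ := tab_chk.2.2.2 (bt c y) (c.lt _) (by have := Nat.odd_iff.1 h; omega) (by
    rw [h2, Nat.mul_div_cancel _ two_pos, ← bt_pow c y h, pow_orderOf_eq_one, bt, coe_one, one_mul, ty_z])
  exact ⟨i, hi, h3, by omega⟩

/-- **conjugacy** -/
theorem conj_cases {y y' : Y} (h : Odd (orderOf y)) (h' : Odd (orderOf y')) (e : bt c y' = bt c y)
    (hd : bt c y' ∉ dblL) : IsConj (pY y') (pY y) ∨ IsConj (ar 3 (pY y')) (pY y) := by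
  obtain ⟨x, hx⟩ := isConj_iff.1 (c.conj e hd)
  have h1 := congrArg (· ^ (orderOf y * orderOf y')) hx
  simp only [conj_pow, z_pow _ (h.mul h')] at h1
  rw [pow_mul y, mul_comm (orderOf y), pow_mul y', pow_orderOf_eq_one, pow_orderOf_eq_one, one_pow, one_pow, coe_one,
    one_mul] at h1
  obtain ⟨α, h2, h3⟩ := aut_of c (mem_centralizer_singleton_iff.2 (mul_inv_eq_iff_eq_mul.1 h1))
  have h4 : α y' = y := Subtype.ext (by
    rw [← conj_mul, h1] at hx
    exact (h3 y').trans (mul_right_cancel hx))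
  obtain ⟨u, n, h5, h6, -⟩ := aut_Y α h2
  have h7 := isConj_iff.2 ⟨_, h4 ▸ h6 y'⟩
  rcases h5 with rfl | rfl
  · exact .inl (ar_zero (pY y') ▸ h7)
  · exact .inr h7

theorem sep {i j k l t : ℕ} (hi : i < 20) (hj : j < 20) (h1 : bt c (rp i ^ k) = t) (h2 : bt c (rp j ^ l) = t)
    (hd : t ∉ dblL) : tp i k = tp j l := by
  refine F2Mat.bz_inj ?_
  rw [← tr_rp, ← tr_rp]
  rcases conj_cases c (odd_rp hj l) (odd_rp hi k) (h1.trans h2.symm) (h1 ▸ hd) with h | h
  · exact tr_conj h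
  · exact (tr_ar _).symm.trans (tr_conj h)

theorem mem_of {i : ℕ} (hi : i < 20) (a b : ℕ) (h : ∀ j < 19, oL i = oL j → bL j = a ∨ bL j = b) :
    bt c (rp i) = a ∨ bt c (rp i) = b := by
  obtain ⟨j, hj, h1, h2⟩ := bt_mem c (pow_one (rp i) ▸ odd_rp hi 1)
  exact h1 ▸ h j hj ((ord_rp hi).symm.trans h2)

theorem bt_nine : bt c (rp 19) = 90 := by
  have := c.finite
  refine (mem_of c (by norm_num) 90 174 (by decide)).resolve_right fun h => tab_chk.2.2.1 (Nat.mod_eq_zero_of_dvd ?_)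
  rw [← h, bt, ← c.cent_all]
  have h1 : centralizer {(rp 19 : Spor.BabyMonster) * zY} ≤ HC := fun x hx => by
    have h1 := (show Commute x _ from mem_centralizer_singleton_iff.1 hx).pow_right (orderOf (rp 19))
    rw [z_pow _ (pow_one (rp 19) ▸ odd_rp (by norm_num) 1), pow_orderOf_eq_one, coe_one, one_mul] at h1
    exact mem_centralizer_singleton_iff.2 h1
  have h2 : ∀ x ∈ HC, x * rp 19 = rp 19 * x → x ∈ centralizer {(rp 19 : Spor.BabyMonster) * zY} := fun x h2 h3 =>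
    mem_centralizer_singleton_iff.2 (Commute.mul_right h3 (mem_centralizer_singleton_iff.1 h2))
  have h3 : ¬ centralizer {(rp 19 : Spor.BabyMonster) * zY} ≤ YB := fun h3 => by
    have h4 : HC ≤ YB := fun x hx => by
      obtain ⟨α, h4, h5⟩ := aut_of c hx
      obtain ⟨u, n, h6, -, h7⟩ := aut_Y α h4
      have h8 : ev sY ((wd 19).map (P6 n)) = ev sY (wd 19) := by
        rcases h6 with rfl | rfl
        exacts [ev_eq_ev zrels_sY.lift ab_chk.2.2.2.2.2.2.1, ev_eq_ev zrels_sY.lift ab_chk.2.2.2.2.2.2.2]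
      have h9 : u * rp 19 * u⁻¹ = α (rp 19) := by rw [rp, map_pow, ← h7, h8, conj_pow]
      have h10 : (u : Spor.BabyMonster) * rp 19 * (u : Spor.BabyMonster)⁻¹ = x * rp 19 * x⁻¹ :=
        (congrArg Subtype.val h9).trans (h5 _)
      refine (mul_mem_cancel_left (inv_mem u.2)).1 (h3 (h2 _ (mul_mem (inv_mem (le_HC u.2)) hx) ?_))
      calc (u : Spor.BabyMonster)⁻¹ * x * rp 19 = (u : Spor.BabyMonster)⁻¹ * (x * rp 19 * x⁻¹) * x := by group
        _ = _ := by rw [← h10]; group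
    have h5 := rel_two c
    rw [relIndex_eq_one.2 h4] at h5
    omega
  have h4 := relIndex_le_of_le_right (H := YB) h1 (by rw [rel_two c]; norm_num)
  have h5 := relIndex_mul_relIndex ⊥ _ _ bot_le (inf_le_right : YB ⊓ centralizer {(rp 19 : Spor.BabyMonster) * zY} ≤ _)
  have h6 : YB.relIndex (centralizer {(rp 19 : Spor.BabyMonster) * zY}) ≠ 0 := index_ne_zero_of_finite
  have h7 := mt relIndex_eq_one.1 h3
  rw [rel_two c] at h4
  rw [relIndex_bot_left, relIndex_bot_left, inf_relIndex_right,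
    show YB.relIndex (centralizer {(rp 19 : Spor.BabyMonster) * zY}) = 2 by omega] at h5
  rw [← h5]
  refine Nat.mul_dvd_mul_right (show 8 ∣ _ from eight_rp.trans ?_) 2
  rw [← card_map_of_injective (f := YB.subtype) (subtype_injective _)]
  refine card_dvd_of_le ?_
  rintro _ ⟨y, hy, rfl⟩
  exact ⟨y.2, h2 _ (le_HC y.2) (congrArg Subtype.val (mem_centralizer_singleton_iff.1 hy))⟩

/-- **the types of the representatives** -/
theorem bt_rp : ∀ i < 19, bt c (rp i) = bL i := by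
  obtain ⟨t1, t2, t3, t4, t5, t6, t7, t8⟩ := tp_val
  have h0 : ∀ i < 20, (∀ j < 19, oL i = oL j → bL j = bL i ∨ bL j = bL i) → bt c (rp i) = bL i := fun i hi h =>
    (mem_of c hi _ _ h).elim id id
  have hp : ∀ {i a : ℕ} (k b : ℕ), bt c (rp i) = a → k % 2 = 1 ∧ datF.pwf a k = b → bt c (rp i ^ k) = b :=
    fun k b h h' => by rw [bt_pow c _ (Nat.odd_iff.2 h'.1), h, h'.2]
  have h17 : bt c (rp 17) = 171 := h0 17 (by norm_num) (by decide)
  have h18 : bt c (rp 18) = 172 := h0 18 (by norm_num) (by decide)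
  have h1 := hp 11 19 h17 (by decide +kernel)
  have h11 : bt c (rp 11) = 133 := (mem_of c (by norm_num) 133 134 (by decide)).resolve_right fun h => by
    have e := sep c (by norm_num) (by norm_num) (hp 5 19 h (by decide +kernel)) h1 (by decide)
    rw [t1, t2] at e
    exact Bool.noConfusion e
  have h2 := hp 5 20 h11 (by decide +kernel)
  have h12 : bt c (rp 12) = 134 := (mem_of c (by norm_num) 133 134 (by decide)).resolve_left fun h => by
    have e := sep c (by norm_num) (by norm_num) (hp 5 20 h (by decide +kernel)) h2 (by decide)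
    rw [t3, t2] at e
    exact Bool.noConfusion e
  have h15 : bt c (rp 15) = 157 := (mem_of c (by norm_num) 157 158 (by decide)).resolve_right fun h => by
    have e := sep c (by norm_num) (by norm_num) (hp 7 19 h (by decide +kernel)) h1 (by decide)
    rw [t1, t4] at e
    exact Bool.noConfusion e
  have h16 : bt c (rp 16) = 158 := (mem_of c (by norm_num) 157 158 (by decide)).resolve_left fun h => by
    have e := sep c (by norm_num) (by norm_num) (hp 7 20 h (by decide +kernel)) h2 (by decide)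
    rw [t5, t2] at e
    exact Bool.noConfusion e
  have h19 := hp 1 90 (bt_nine c) (by decide +kernel)
  have h8 : bt c (rp 8) = 174 := (mem_of c (by norm_num) 90 174 (by decide)).resolve_left fun h => by
    have e := sep c (by norm_num) (by norm_num) (hp 1 90 h (by decide +kernel)) h19 (by decide)
    rw [t7, t6] at e
    exact Bool.noConfusion e
  have h7 : bt c (rp 7) = 90 := (mem_of c (by norm_num) 90 174 (by decide)).resolve_right fun h => by
    have e := sep c (by norm_num) (by norm_num) (hp 1 174 h (by decide +kernel)) (hp 1 174 h8 (by decide +kernel))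
      (by decide)
    rw [t8, t7] at e
    exact Bool.noConfusion e
  intro i hi
  interval_cases i
  exacts [h0 0 (by norm_num) (by decide), rp_pow 1 17 11 (by decide) ▸ h1, rp_pow 2 11 5 (by decide) ▸ h2,
    rp_pow 3 8 3 (by decide) ▸ hp 3 22 h8 (by decide +kernel), h0 4 (by norm_num) (by decide),
    rp_pow 5 18 5 (by decide) ▸ hp 5 75 h18 (by decide +kernel),
    rp_pow 6 16 3 (by decide) ▸ hp 3 76 h16 (by decide +kernel), h7, h8, h0 9 (by norm_num) (by decide),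
    h0 10 (by norm_num) (by decide), h11, h12, h0 13 (by norm_num) (by decide), h0 14 (by norm_num) (by decide),
    h15, h16, h17, h18]

theorem bL_dbl : ∀ i < 19, i ≠ 13 → bL i ∉ dblL := by decide

/-- **the elements of odd order** -/
theorem odd_conj (y : Y) (h : Odd (orderOf y)) : ∃ i < 19, c.ty ((y : Spor.BabyMonster) * zY) = bL i ∧
    orderOf y = oL i ∧ (i ≠ 13 → IsConj (pY (rp i)) (pY y) ∨ IsConj (ar 3 (pY (rp i))) (pY y)) := by
  obtain ⟨i, hi, h1, h2⟩ := bt_mem c h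
  exact ⟨i, hi, h1, h2, fun h3 => conj_cases c h (pow_one (rp i) ▸ odd_rp (by omega) 1) ((bt_rp c i hi).trans h1.symm)
    (bt_rp c i hi ▸ bL_dbl i hi h3)⟩

/-- the same with words -/
theorem odd_word (y : Y) (h : Odd (orderOf y)) : ∃ i < 19, c.ty ((y : Spor.BabyMonster) * zY) = bL i ∧
    orderOf y = oL i ∧ (i ≠ 13 → ∃ w, (w = wd i ∨ w = (wd i).map (P6 3)) ∧ IsConj (ev s0 w ^ ex i) (pY y)) := by
  obtain ⟨i, hi, h1, h2, h3⟩ := odd_conj c y h
  exact ⟨i, hi, h1, h2, fun h4 => (h3 h4).elim (fun e => ⟨_, .inl rfl, pY_rp i ▸ e⟩) fun e => ⟨_, .inr rfl, ar_rp 3 i ▸ e⟩⟩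

end Cfsg.Agent.MO.S.E62L
end

-- part: MO/S/E62L/Full
section
/-!
# MO, the elements of odd order of `2.²E₆(2)`, with the order seventeen (helper39)

* `conj_pow` : elements of prime order `p`, if `p ^ 2` does not divide the order of the group;
* `odd_full` : all nineteen kinds.
-/

set_option autoImplicit false

namespace Cfsg.Agent.MO.S.E62L

open Cfsg Subgroup Cfsg.Agent.MO.S.E62C Cfsg.Agent.TwoESix Cfsg.Agent.TwoESix.Cover Cfsg.Agent.TwoESix.Cox10
open Cfsg.Agent.BabyU.OutFree Cfsg.Agent.H66.TwESixCover Cfsg.Agent.BMy.Chr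

theorem conj_pow {G : Type} [Group G] [Finite G] {p : ℕ} (hp : p.Prime) {x y : G} (hx : orderOf x = p)
    (hy : orderOf y = p) (h : ¬ p * p ∣ Nat.card G) : ∃ k, k.Coprime p ∧ IsConj (x ^ k) y := by
  have : Fact p.Prime := ⟨hp⟩
  have h1 : ∀ u : G, orderOf u = p → ∃ P : Sylow p G, (P : Subgroup G) = zpowers u := fun u hu =>
    ⟨(IsPGroup.of_card (G := zpowers u) (n := 1) (by rw [Nat.card_zpowers, hu, pow_one])).toSylow fun e => h (by
      rw [← (zpowers u).card_mul_index, Nat.card_zpowers, hu]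
      exact Nat.mul_dvd_mul_left p e), rfl⟩
  obtain ⟨P, hP⟩ := h1 x hx
  obtain ⟨Q, hQ⟩ := h1 y hy
  obtain ⟨g, rfl⟩ := MulAction.exists_smul_eq G P Q
  obtain ⟨u, hu, h2⟩ := (hQ ▸ mem_zpowers y : y ∈ ((g • P : Sylow p G) : Subgroup G))
  obtain ⟨k, rfl⟩ := (Submonoid.mem_powers_iff _ _).1 (mem_powers_iff_mem_zpowers.2 (hP ▸ hu))
  replace h2 : g * x ^ k * g⁻¹ = y := h2
  refine ⟨k, (hp.coprime_iff_not_dvd.2 fun e => hp.one_lt.ne' ?_).symm, isConj_iff.2 ⟨g, h2⟩⟩
  rw [← hy, ← h2, orderOf_dvd_iff_pow_eq_one.1 (hx ▸ e), mul_one, mul_inv_cancel, orderOf_one]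

/-- the words and their images under the exchange of two arms -/
def we (i : ℕ) (e : Bool) : List (Fin 10) := cond e ((wd i).map (P6 3)) (wd i)

/-- **the elements of odd order** -/
theorem odd_full (c : CT Spor.BabyMonster) (y : Y) (h : Odd (orderOf y)) : ∃ i < 19,
    c.ty ((y : Spor.BabyMonster) * zY) = bL i ∧ orderOf y = oL i ∧
      ∃ (e : Bool) (k : ℕ), k.Coprime (oL i) ∧ IsConj ((ev s0 (we i e) ^ ex i) ^ k) (pY y) := by
  have := finite_Y
  obtain ⟨i, hi, h1, h2, h3⟩ := odd_word c y h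
  refine ⟨i, hi, h1, h2, ?_⟩
  by_cases h4 : i = 13
  · subst h4
    obtain ⟨k, h5, h6⟩ := conj_pow (p := 17) (by norm_num) (ord_rp (i := 13) (by norm_num)) h2 (by rw [card_Y]; norm_num)
    have h7 := pY.map_isConj h6
    rw [map_pow, pY_rp] at h7
    exact ⟨false, k, h5, h7⟩
  · obtain ⟨_, rfl | rfl, h5⟩ := h3 h4
    exacts [⟨false, 1, Nat.coprime_one_left _, by rwa [pow_one]⟩, ⟨true, 1, Nat.coprime_one_left _, by rwa [pow_one]⟩]

end Cfsg.Agent.MO.S.E62L
end

-- part: MO/S/E62W/Eng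
section
/-!
# MO, the eigenvalues of a matrix over `𝔽₂` and the values of the Brauer lift (helper2)

* `Eig B`, `exists_lift2` : the lift as the sum over the roots of the characteristic polynomial;
* `okR`, `okE`, `roots_eq` : the roots from a certificate;
* `be`, `ok3`, `vals` : the component of a module over `𝔽₄`.
-/

set_option autoImplicit false

namespace Cfsg.Agent.MO.S.E62W

open Cfsg Cfsg.Agent.H139.Cusp Cfsg.Agent.ODD.Red Cfsg.Agent.H860.Rank Cfsg.Agent.TAB.Cov Polynomial Module Matrix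
open Cfsg.Agent.Lib Cfsg.Agent.Lib.F2Mat Cfsg.Agent.Lib.F2MatGroup
open Cfsg.Agent.TAB.Eng (allL allL_spec)

section lin

variable {K : Type} [Field K] {n : ℕ}

theorem ker_mul_le {V : Type} [AddCommGroup V] [Module K V] [FiniteDimensional K V] (a b : End K V) :
    finrank K (LinearMap.ker (a * b)) ≤ finrank K (LinearMap.ker a) + finrank K (LinearMap.ker b) := by
  rw [← (b.domRestrict (LinearMap.ker (a * b))).finrank_range_add_finrank_ker,
    ← Submodule.finrank_map_subtype_eq _ (LinearMap.ker _)]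
  refine add_le_add (Submodule.finrank_mono ?_) (Submodule.finrank_mono ?_)
  · rintro _ ⟨v, rfl⟩
    exact v.2
  · rintro _ ⟨v, hv, rfl⟩
    exact hv

theorem ker_prod_le {V : Type} [AddCommGroup V] [Module K V] [FiniteDimensional K V] (a : End K V) (R : Multiset K) :
    finrank K (LinearMap.ker (aeval a (R.map fun r => X - C r).prod)) ≤ (R.map fun r => a.charpoly.rootMultiplicity r).sum := by
  induction R using Multiset.induction_on with
  | empty => rw [Multiset.map_zero, Multiset.prod_zero, map_one, Module.End.one_eq_id, LinearMap.ker_id, finrank_bot]; exact Nat.zero_le _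
  | cons r R ih =>
    rw [Multiset.map_cons, Multiset.prod_cons, map_mul, Multiset.map_cons, Multiset.sum_cons]
    refine (ker_mul_le _ _).trans (add_le_add ?_ ih)
    rw [map_sub, aeval_X, aeval_C, Algebra.algebraMap_eq_smul_one, ← Module.End.eigenspace_def]
    exact a.finrank_eigenspace_le r

theorem card_le_ker {P Pi F : Matrix (Fin n) (Fin n) K} (h : P * Pi = 1) (S : Fin n → Prop) [DecidablePred S]
    (hS : ∀ i, S i → P i ᵥ* F = 0) : (Finset.univ.filter S).card ≤ finrank K (LinearMap.ker (toLin' F)) := by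
  classical
  have h1 : diagonal (fun i => if S i then (1 : K) else 0) * P * F = 0 := by
    ext i j
    rw [mul_assoc, diagonal_mul]
    split_ifs with hi
    · rw [one_mul]
      exact congrFun (hS i hi) j
    · exact zero_mul _
  have h2 := rank_add_rank_le_card_of_mul_eq_zero h1
  rw [rank_mul_eq_left_of_isUnit_det _ _ ((isUnit_iff_isUnit_det _).1 (IsUnit.of_mul_eq_one _ h)), rank_diagonal,
    Fintype.card_subtype, Fintype.card_fin] at h2
  have h3 := (toLin' F).finrank_range_add_finrank_ker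
  rw [finrank_fin_fun] at h3
  have h4 : F.rank = finrank K (LinearMap.range (toLin' F)) := rfl
  rw [Finset.filter_congr (q := S) fun i _ => by simp] at h2
  omega

/-- the monic polynomial with the lower coefficients `l` -/
noncomputable def pl (K : Type) [Field K] (l : List Bool) : K[X] := l.foldr (fun b ih => cond b 1 0 + X * ih) 1

theorem pl_cons (b : Bool) (l : List Bool) : pl K (b :: l) = cond b 1 0 + X * pl K l := rfl

theorem pl_deg (l : List Bool) : (pl K l).IsMonicOfDegree l.length := by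
  induction l with
  | nil => exact isMonicOfDegree_zero_iff.2 rfl
  | cons b l ih =>
    rw [pl_cons, List.length_cons, add_comm l.length]
    exact IsMonicOfDegree.add_left (by cases b <;> simp) ((isMonicOfDegree_X K).mul ih)

theorem pl_sq [CharP K 2] (l : List Bool) (x : K) : (pl K l).eval (x ^ 2) = (pl K l).eval x ^ 2 := by
  induction l with
  | nil => simp [pl]
  | cons b l ih =>
    rw [pl_cons, eval_add, eval_add, eval_mul, eval_mul, eval_X, eval_X, ih, add_pow_char, mul_pow]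
    cases b <;> simp

end lin

/-! ### the certificates -/

/-- the value of `pl l` at a code -/
noncomputable def pM (n : ℕ) (l : List Bool) (A : ℕ) : ℕ :=
  List.rec (F2Mat.one n) (fun b _ ih => force (F2Mat.mul n A ih) fun t => cond b (Nat.xor (F2Mat.one n) t) t) l

/-- the power `2 ^ (k + 1) - 1` -/
noncomputable def pq (n M k : ℕ) : ℕ := Nat.rec M (fun _ ih => force ih fun t => F2Mat.mul n (F2Mat.mul n t t) M) k

/-- the eigenvalues of `C` have the order `N` -/
noncomputable def okR (d N C : ℕ) : Bool :=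
  Nat.blt 0 d && Nat.blt 0 N && Nat.beq (npow d C N) (F2Mat.one d) && allL (fun q => Nat.blt q 2 || Nat.blt 0 (N % q) ||
    force (Nat.xor (npow d C (N / q)) (F2Mat.one d)) fun M => Nat.beq (pq d M (d - 1)) (F2Mat.one d)) (List.range (N + 1))

/-- the orbit of an exponent -/
def orb (N : ℕ) (o : ℕ × List Bool) : List ℕ := (List.range o.2.length).map fun i => o.1 * 2 ^ i % N

/-- The rows `i` of `P` with `lab i = o` are killed by the polynomial `o`, whose roots are the powers `orb N o`. -/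
noncomputable def okE (n d N C A P Pi : ℕ) (os : List (ℕ × List Bool)) (lab E : List ℕ) : Bool :=
  Nat.beq (F2Mat.mul n P Pi) (F2Mat.one n) && Nat.beq E.length n &&
  allL (fun o => Nat.beq (pM d (os.getD o (0, [])).2 (npow d C (os.getD o (0, [])).1)) 0 &&
    decide (orb N (os.getD o (0, []))).Nodup && force (pM n (os.getD o (0, [])).2 A) fun F =>
      allL (fun i => cond (Nat.beq (lab.getD i 0) o) (Nat.beq (vmul n (Nat.shiftRight P (n * i)) F) 0) true) (List.range n))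
    (List.range os.length) &&
  allL (fun e => Nat.blt e N && (List.range os.length).any fun o => (orb N (os.getD o (0, []))).contains e &&
    Nat.ble (E.count e * (os.getD o (0, [])).2.length) (∑ i ∈ Finset.range n, if lab.getD i 0 = o then 1 else 0)) E

section

variable {K : Type} [Field K] [Algebra (ZMod 2) K] {n d N C : ℕ}

variable (K) in
/-- the matrix of a code -/
noncomputable def mK (n A : ℕ) : Matrix (Fin n) (Fin n) K := (algebraMap (ZMod 2) K).mapMatrix (toMat n A)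

theorem mK_one : mK K n (F2Mat.one n) = 1 := by rw [mK, toMat_one, map_one]

theorem mK_zero : mK K n 0 = 0 := by
  ext i j
  simp [mK, toMat_apply, bz_false]

theorem mK_mul (A B : ℕ) : mK K n (F2Mat.mul n A B) = mK K n A * mK K n B := by rw [mK, toMat_mul, map_mul, mK, mK]

theorem mK_xor (A B : ℕ) : mK K n (Nat.xor A B) = mK K n A + mK K n B :=
  (congrArg _ (F2Rank.toMat_xor n A B)).trans (map_add _ _ _)

theorem mK_npow (A k : ℕ) : mK K n (npow n A k) = mK K n A ^ k := by rw [mK, toMat_npow, map_pow, mK]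

theorem mK_pM (l : List Bool) (A : ℕ) : mK K n (pM n l A) = aeval (mK K n A) (pl K l) := by
  induction l with
  | nil => exact mK_one.trans (map_one _).symm
  | cons b l ih =>
    rw [pl_cons, map_add, map_mul, aeval_X, ← ih, ← mK_mul]
    rw [show pM n (b :: l) A = _ from force_eq (F2Mat.mul n A (pM n l A)) fun t => cond b (Nat.xor (F2Mat.one n) t) t]
    cases b
    · exact (zero_add _).symm.trans (congrArg (· + _) (map_zero _).symm)
    · exact (mK_xor _ _).trans (congrArg (· + _) (mK_one.trans (map_one _).symm))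

theorem mK_pq (M k : ℕ) : ∃ Y, mK K n (pq n M k) = Y * mK K n M := by
  cases k with
  | zero => exact ⟨1, (one_mul _).symm⟩
  | succ k => exact ⟨_, by
      rw [show pq n M (k + 1) = _ from force_eq (pq n M k) fun t => F2Mat.mul n (F2Mat.mul n t t) M, mK_mul]⟩

/-- an eigenvalue -/
def Ev (d C : ℕ) (r : K) : Prop := End.HasEigenvalue (toLin' (mK K d C)) r

theorem Ev.eval {r : K} (h : Ev d C r) (a : ℕ) {p : K[X]} {Y : Matrix (Fin d) (Fin d) K}
    (hY : Y * aeval (mK K d C ^ a) p = 1) : p.eval (r ^ a) ≠ 0 := fun h0 => by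
  obtain ⟨u, hu⟩ := h.exists_hasEigenvector
  have h1 := End.aeval_apply_of_hasEigenvector (p := p.comp (X ^ a)) hu
  have h2 := aeval_algHom_apply (toLinAlgEquiv' (n := Fin d) (R := K)) (mK K d C) (p.comp (X ^ a))
  rw [eval_comp, eval_pow, eval_X, h0, zero_smul] at h1
  rw [aeval_comp (mK K d C), map_pow, aeval_X] at h2
  have h3 : aeval (mK K d C ^ a) p *ᵥ u = 0 := (congrFun (congrArg DFunLike.coe h2) u).symm.trans h1
  exact hu.2 (by rw [← one_mulVec u, ← hY, ← mulVec_mulVec, h3, mulVec_zero])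

theorem Ev.root {r : K} (h : Ev d C r) (a : ℕ) {p : K[X]} (hY : aeval (mK K d C ^ a) p = 0) : p.eval (r ^ a) = 0 := by
  by_contra h0
  refine h.eval a (p := p - Polynomial.C (p.eval (r ^ a))) (Y := scalar _ (-(p.eval (r ^ a))⁻¹)) ?_ (by simp)
  rw [map_sub, hY, aeval_C, zero_sub, Matrix.algebraMap_eq_diagonal, mul_neg, scalar_apply, diagonal_mul_diagonal,
    diagonal_neg, ← diagonal_one]
  exact congrArg _ (funext fun _ => by simp [h0])

theorem Ev.prim {r : K} (h : Ev d C r) (hc : okR d N C = true) : IsPrimitiveRoot r N := by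
  have : CharP K 2 := charP_of_injective_algebraMap (algebraMap (ZMod 2) K).injective 2
  simp only [okR, Bool.and_eq_true, Nat.blt_eq, force_eq] at hc
  obtain ⟨⟨⟨-, h1⟩, h2⟩, h3⟩ := hc
  have h4 := h.root N (p := X - 1) (by
    rw [map_sub, aeval_X, map_one, ← mK_npow, Nat.eq_of_beq_eq_true h2, mK_one, sub_self])
  rw [eval_sub, eval_X, eval_one, sub_eq_zero] at h4
  rw [← orderOf_eq_of_pow_and_pow_div_prime h1 h4 fun q hq hd h5 => ?_]
  · exact IsPrimitiveRoot.orderOf r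
  have h6 := allL_spec h3 q (List.mem_range.2 (Nat.lt_succ_of_le (Nat.le_of_dvd h1 hd)))
  simp only [Bool.or_eq_true, Nat.blt_eq, Nat.mod_eq_zero_of_dvd hd, lt_self_iff_false, or_false, hq.two_le.not_gt,
    false_or] at h6
  obtain ⟨Y, hY⟩ := mK_pq (K := K) (n := d) (Nat.xor (npow d C (N / q)) (F2Mat.one d)) (d - 1)
  rw [Nat.eq_of_beq_eq_true h6, mK_one, mK_xor, mK_npow, mK_one] at hY
  refine h.eval (N / q) (p := X + 1) (Y := Y) (by rw [map_add, aeval_X, map_one, ← hY]) ?_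
  rw [eval_add, eval_X, eval_one, h5, CharTwo.add_self_eq_zero]

theorem exists_ev (hd : 0 < d) (hs : ((toMat d C).charpoly.map (algebraMap (ZMod 2) K)).Splits) : ∃ r : K, Ev d C r := by
  obtain ⟨r, hr⟩ := hs.exists_eval_eq_zero (degree_ne_of_natDegree_ne (by
    rw [natDegree_map, charpoly_natDegree_eq_dim, Fintype.card_fin]
    exact hd.ne'))
  refine ⟨r, (End.hasEigenvalue_iff_isRoot_charpoly _ _).2 ?_⟩
  rwa [charpoly_toLin', mK, RingHom.mapMatrix_apply, charpoly_map]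

/-- **the roots of the characteristic polynomial** -/
theorem roots_eq {r : K} (h : Ev d C r) (hr : IsPrimitiveRoot r N) {A P Pi : ℕ} {os : List (ℕ × List Bool)} {lab E : List ℕ}
    (hc : okE n d N C A P Pi os lab E = true) (hs : ((toMat n A).charpoly.map (algebraMap (ZMod 2) K)).Splits) :
    ((toMat n A).charpoly.map (algebraMap (ZMod 2) K)).roots = (E : Multiset ℕ).map (r ^ ·) := by
  classical
  have : CharP K 2 := charP_of_injective_algebraMap (algebraMap (ZMod 2) K).injective 2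
  simp only [okE, Bool.and_eq_true, force_eq] at hc
  obtain ⟨⟨⟨h1, h2⟩, h3⟩, h4⟩ := hc
  have h5 : ∀ e ∈ E, e < N := fun e he => Nat.blt_eq.mp (Bool.and_eq_true_iff.1 (allL_spec h4 e he)).1
  set χ := (toMat n A).charpoly.map (algebraMap (ZMod 2) K) with hχ
  have h6 : ∀ x, χ.roots.count (x ^ 2) = χ.roots.count x := fun x => by
    conv_lhs => rw [hχ, Subsingleton.elim (algebraMap (ZMod 2) K) ((frobenius K 2).comp (algebraMap (ZMod 2) K)),
      ← Polynomial.map_map, hs.roots_map]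
    exact Multiset.count_map_eq_count' _ _ (frobenius K 2).injective x
  refine (Multiset.eq_of_le_of_card_le (Multiset.le_iff_count.2 fun x => ?_) ?_).symm
  swap
  · rw [Multiset.card_map, Multiset.coe_card, Nat.eq_of_beq_eq_true h2]
    refine (card_roots' _).trans ?_
    rw [natDegree_map, charpoly_natDegree_eq_dim, Fintype.card_fin]
  by_cases hx : x ∈ (E : Multiset ℕ).map (r ^ ·)
  swap
  · rw [Multiset.count_eq_zero.2 hx]
    exact Nat.zero_le _
  obtain ⟨e, he, rfl⟩ := Multiset.mem_map.1 hx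
  rw [Multiset.count_map_eq_count (r ^ ·) (E : Multiset ℕ) (fun a ha b hb => hr.pow_inj (h5 a ha) (h5 b hb)) e he,
    Multiset.coe_count]
  obtain ⟨o, ho, h7⟩ := List.any_eq_true.1 (Bool.and_eq_true_iff.1 (allL_spec h4 e he)).2
  have h8 := allL_spec h3 o ho
  simp only [Bool.and_eq_true, List.contains_iff_mem, Nat.ble_eq, decide_eq_true_eq] at h7 h8
  generalize os.getD o (0, []) = q at h7 h8
  obtain ⟨⟨h9, h10⟩, h11⟩ := h8
  have h12 : ∀ j ∈ orb N q, j < N ∧ (pl K q.2).eval (r ^ j) = 0 ∧ χ.roots.count (r ^ j) = χ.roots.count (r ^ q.1) := by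
    intro j hj
    obtain ⟨i, -, rfl⟩ := List.mem_map.1 hj
    refine ⟨Nat.mod_lt _ ((Nat.zero_le e).trans_lt (h5 e he)), ?_⟩
    rw [← pow_eq_pow_mod _ hr.pow_eq_one, pow_mul]
    clear hj
    induction i with
    | zero =>
      rw [pow_zero, pow_one]
      exact ⟨h.root _ (by rw [← mK_npow, ← mK_pM, Nat.eq_of_beq_eq_true h9, mK_zero]), rfl⟩
    | succ i ih => rw [pow_succ, pow_mul, pl_sq, h6, ih.1, ih.2]; exact ⟨zero_pow two_ne_zero, rfl⟩
  have h13 : ((orb N q).map (r ^ ·)).Nodup := h10.map_on fun a ha b hb => hr.pow_inj (h12 a ha).1 (h12 b hb).1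
  have h14 : (orb N q).length = q.2.length := by rw [orb, List.length_map, List.length_range]
  have h15 := roots_eq_of_natDegree_le_card_of_ne_zero (p := pl K q.2) (S := ⟨((orb N q).map (r ^ ·) : List K), h13⟩)
    (fun x hx => by
      obtain ⟨j, hj, rfl⟩ := List.mem_map.1 hx
      exact (h12 j hj).2.1)
    ((pl_deg _).natDegree_eq.trans (h14.symm.trans (List.length_map _).symm)).le (pl_deg _).ne_zero
  change _ = (((orb N q).map (r ^ ·) : List K) : Multiset K) at h15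
  have h16 := ker_prod_le (toLin' (mK K n A)) (pl K q.2).roots
  rw [prod_multiset_X_sub_C_of_monic_of_roots_card_eq (pl_deg _).monic (by
    rw [h15, (pl_deg _).natDegree_eq, Multiset.coe_card, List.length_map, h14]), h15, charpoly_toLin', mK,
    RingHom.mapMatrix_apply, charpoly_map, ← hχ, Multiset.map_coe, Multiset.sum_coe, List.map_map,
    List.map_congr_left (g := fun _ => χ.roots.count (r ^ e)) (fun j hj => by
      rw [Function.comp, ← count_roots, (h12 j hj).2.2, (h12 e h7.1).2.2]),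
    List.map_const', List.sum_replicate, h14, smul_eq_mul] at h16
  have h17 := card_le_ker (P := mK K n P) (Pi := mK K n Pi) (F := mK K n (pM n q.2 A))
    (by rw [← mK_mul, Nat.eq_of_beq_eq_true h1, mK_one]) (fun i => lab.getD i 0 = o) fun i hi => by
      have h18 := allL_spec h11 i (List.mem_range.2 i.2)
      rw [hi, Nat.beq_refl, cond_true] at h18
      have h19 := toVec_vmul n (Nat.shiftRight P (n * i)) (pM n q.2 A)
      rw [Nat.eq_of_beq_eq_true h18, show toVec n (Nat.shiftRight P (n * i)) = toMat n P i from funext fun j =>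
        congrArg bz (Nat.testBit_shiftRight _)] at h19
      funext j
      have h20 := (algebraMap (ZMod 2) K).map_vecMul (toMat n (pM n q.2 A)) (toMat n P i) j
      rw [← h19, toVec_apply, Nat.zero_testBit, bz_false, map_zero] at h20
      exact h20.symm
  rw [Finset.card_filter, Fin.sum_univ_eq_sum_range (fun i => if lab.getD i 0 = o then 1 else 0), mK_pM] at h17
  have h18 := aeval_algHom_apply (toLinAlgEquiv' (n := Fin n) (R := K)) (mK K n A) (pl K q.2)
  refine Nat.le_of_mul_le_mul_right (h7.2.trans (h17.trans ((congrArg (finrank K <| LinearMap.ker ·) h18).ge.trans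
    (h16.trans (mul_comm _ _).le)))) (h14 ▸ List.length_pos_of_mem h7.1)

end

/-! ### the lift -/

variable {n : ℕ} {B : GL (Fin n) (ZMod 2) → ℂ}

/-- the values of the lift from the certificates -/
def Eig (B : GL (Fin n) (ZMod 2) → ℂ) : Prop := ∀ d N C, d ≤ n → okR d N C = true → ∃ ζ : ℂ, IsPrimitiveRoot ζ N ∧
  ∀ x A P Pi os lab E, Codes n x A → okE n d N C A P Pi os lab E = true → ∀ k, B (x ^ k) = (E.map fun e => ζ ^ (e * k)).sum

/-- **the Brauer lift** (the proof of `Lift` is that of `TAB.Cov.exists_lift`, helper31) -/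
theorem exists_lift2 (hn : n ≠ 0) : ∃ B : GL (Fin n) (ZMod 2) → ℂ, Lift B ∧ Eig B := by
  classical
  obtain ⟨K, _, _, _, -, θ, hθ, hK, -⟩ := exists_extension (ZMod 2) (GaloisField 2 n)
  rw [GaloisField.finrank 2 hn] at hK
  have : CharP K 2 := charP_of_injective_algebraMap (algebraMap (ZMod 2) K).injective 2
  have hs : ∀ x : Matrix (Fin n) (Fin n) (ZMod 2), (x.charpoly.map (algebraMap (ZMod 2) K)).Splits := fun x =>
    hK _ x.charpoly_monic (by rw [Matrix.charpoly_natDegree_eq_dim, Fintype.card_fin])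
  have hp : ∀ (x : Matrix (Fin n) (Fin n) (ZMod 2)) (k : ℕ), lb K θ (x ^ k).charpoly =
      ((x.charpoly.map (algebraMap (ZMod 2) K)).roots.map fun r => θ r ^ k).sum := fun x k => by
    rcases eq_or_ne k 0 with rfl | hk
    · simp only [pow_zero, Multiset.map_const', Multiset.sum_replicate, nsmul_eq_mul, mul_one]
      rw [← (hs x).natDegree_eq_card_roots, natDegree_map, Matrix.charpoly_natDegree_eq_dim, Matrix.charpoly_one,
        lb_pow θ (by monicity), lb_X_sub_one, mul_one]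
    · have h1 := lb_pow_eq K θ (Matrix.toLin' x) (by rw [Matrix.charpoly_toLin']; exact hs x) hk
      rw [← Matrix.toLin'_pow, Matrix.charpoly_toLin', Matrix.charpoly_toLin'] at h1
      exact h1.symm
  refine ⟨fun x => lb K θ (x : Matrix (Fin n) (Fin n) (ZMod 2)).charpoly, ⟨?_, fun x => ?_,
    fun x y h => by rw [h], fun τ hτ x => ?_, fun x m hm hx => ?_⟩, fun d N C hd hc => ?_⟩
  · have h1 := isGeneralizedCharacter_comp (Matrix.GeneralLinearGroup.toLin (n := Fin n) (R := ZMod 2)).toMonoidHom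
      (lb_generalized K θ hθ hK (Fin n → ZMod 2) (Module.finrank_fin_fun _).le)
    refine (funext fun x => ?_ : _ = fun x : GL (Fin n) (ZMod 2) =>
      lb K θ (x : Matrix (Fin n) (Fin n) (ZMod 2)).charpoly) ▸ h1
    rw [← Matrix.charpoly_toLin']
    rfl
  · rw [Units.val_pow_eq_pow_val, hp, lb]
    conv_rhs => rw [Subsingleton.elim (algebraMap (ZMod 2) K) ((frobenius K 2).comp (algebraMap (ZMod 2) K)),
      ← Polynomial.map_map, (hs _).roots_map, Multiset.map_map]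
    exact congrArg _ (Multiset.map_congr rfl fun r _ => (map_pow θ r 2).symm)
  · have := Fintype.ofFinite K
    obtain ⟨k, -, hk⟩ := FiniteField.card K 2
    have h1 : Odd (Fintype.card K - 1) := by
      rw [hk]
      exact Nat.Even.sub_odd Nat.one_le_two_pow (even_two.pow_of_ne_zero k.ne_zero) odd_one
    rw [lb, map_multiset_sum, Multiset.map_map]
    refine congrArg _ (Multiset.map_congr rfl fun r _ => ?_)
    rcases eq_or_ne r 0 with rfl | hr
    · simp
    · exact hτ _ _ h1 (by rw [← map_pow, FiniteField.pow_card_sub_one_eq_one r hr, map_one])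
  · simp only [Units.val_pow_eq_pow_val, hp]
    rw [sum_geom hθ, count_roots, ← map_one (algebraMap (ZMod 2) K),
      ← eq_rootMultiplicity_map (algebraMap (ZMod 2) K).injective]
    · have h1 := congrArg (Nat.cast : ℕ → ℂ) (mult_one hm hx)
      push_cast at h1
      rw [← h1]
      ring
    · intro r hr
      rw [← Matrix.charpoly_map, ← Matrix.charpoly_toLin'] at hr
      refine H877.PQ.pow_of_mem_roots ?_ hr
      rw [← Matrix.toLin'_pow, ← RingHom.mapMatrix_apply, ← map_pow, ← Units.val_pow_eq_pow_val, hx, Units.val_one,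
        map_one, Matrix.toLin'_one]
      rfl
  · obtain ⟨r, hr⟩ := exists_ev (K := K) (C := C) (Nat.blt_eq.mp (by
      simp only [okR, Bool.and_eq_true] at hc
      exact hc.1.1.1)) (hK _ (toMat d C).charpoly_monic (by rwa [Matrix.charpoly_natDegree_eq_dim, Fintype.card_fin]))
    refine ⟨θ r, (hr.prim hc).map_of_injective hθ, fun x A P Pi os lab E hx he k => ?_⟩
    beta_reduce
    rw [Units.val_pow_eq_pow_val, hp, show (x : Matrix (Fin n) (Fin n) (ZMod 2)) = _ from hx,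
      roots_eq hr (hr.prim hc) he (hs _), Multiset.map_map, Multiset.map_coe, Multiset.sum_coe]
    exact congrArg _ (List.map_congr_left fun e _ => by rw [Function.comp, map_pow, pow_mul])

/-! ### modules over `𝔽₄` -/

variable {G : Type} [Group G] (ρ : G →* GL (Fin n) (ZMod 2)) (z : G)

variable (B) in
/-- the component on which `z` acts as `w` -/
noncomputable def be (w : ℂ) (x : G) : ℂ := (B (ρ x) + w ^ 2 * B (ρ (z * x)) + w * B (ρ (z * (z * x)))) / 3

/-- the exponents of `z ^ j * g` on the module over `𝔽₂` -/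
def e3 (N j : ℕ) (E : List ℕ) : List ℕ :=
  E.map (fun e => (e + j * (N / 3)) % N) ++ E.map fun e => 2 * (e + j * (N / 3)) % N

/-- the certificate for the three lifts -/
noncomputable def ok3 (n d N C Z A m P Pi : ℕ) (c : List (List (ℕ × List Bool) × List ℕ)) (E : List ℕ) : Bool :=
  okR d N C && Nat.ble d n && Nat.beq (N % 6) 3 && force A fun A => Nat.beq (npow n A m) (F2Mat.one n) &&
    (Nat.beq (m % 3) 0 || allL (fun e => Nat.beq (e * m % N) 0) E) &&
    allL (fun j => force (F2Mat.mul n (npow n Z j) A) fun X =>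
      okE n d N C X P Pi (c.getD j ([], [])).1 (c.getD j ([], [])).2 (e3 N j E)) (List.range 3)

variable {ρ z}

/-- **the values of the component at the powers of an element** -/
theorem vals (hB : Lift B) (hE : Eig B) (hz : ∀ x, z * x = x * z) (h3 : z ^ 3 = 1) {w : ℂ} (hw : 1 + w + w ^ 2 = 0)
    {d N C Z A m P Pi : ℕ} {c : List (List (ℕ × List Bool) × List ℕ)} {E : List ℕ} {g : G} (cz : Codes n (ρ z) Z)
    (cg : Codes n (ρ g) A) (h : ok3 n d N C Z A m P Pi c E = true) : ρ g ^ m = 1 ∧ ∃ ζ : ℂ, IsPrimitiveRoot ζ N ∧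
      ζ ^ (N / 3) = w ∧ ∀ k, k.Coprime m → be B ρ z w (g ^ k) = (E.map fun e => ζ ^ (e * k)).sum := by
  simp only [ok3, force_eq, Bool.and_eq_true, Bool.or_eq_true, Nat.ble_eq, Nat.beq_eq] at h
  obtain ⟨⟨⟨h1, h2⟩, h4⟩, ⟨h5, h6⟩, h7⟩ := h
  have h8 : ρ g ^ m = 1 := (cg.pow m).eq_one (Nat.beq_eq ▸ h5)
  have hw3 : w ^ 3 = 1 := by linear_combination (w - 1) * hw
  obtain ⟨ζ, hζ, h9, h10⟩ : ∃ ζ : ℂ, IsPrimitiveRoot ζ N ∧ ζ ^ (N / 3) = w ∧ ∀ j < 3, ∀ k,
      B (ρ (z ^ j * g) ^ k) = ((e3 N j E).map fun e => ζ ^ (e * k)).sum := by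
    obtain ⟨ζ, hζ, h9⟩ := hE d N C h2 h1
    have h10 := fun j (hj : j < 3) => h9 (ρ (z ^ j * g)) _ _ _ _ _ _ (by
      rw [map_mul, map_pow]
      exact (cz.pow j).mul cg) (allL_spec h7 j (List.mem_range.2 hj))
    have hN : 0 < N := by
      simp only [okR, Bool.and_eq_true, Nat.blt_eq] at h1
      exact h1.1.1.2
    have h11 := hζ.pow hN (Nat.div_mul_cancel (Nat.dvd_of_mod_eq_zero (show N % 3 = 0 by omega))).symm
    have h12 : (ζ ^ (N / 3) - w) * ((ζ ^ (N / 3)) ^ 2 - w) = 0 := by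
      have h13 := h11.geom_sum_eq_zero (by norm_num)
      simp only [Finset.sum_range_succ, Finset.sum_range_zero] at h13
      linear_combination h11.pow_eq_one - w * h13 + hw
    rcases mul_eq_zero.1 h12 with h13 | h13
    · exact ⟨ζ, hζ, sub_eq_zero.1 h13, h10⟩
    refine ⟨ζ ^ 2, hζ.pow_of_coprime 2 ?_, by rw [← pow_mul, mul_comm, pow_mul, sub_eq_zero.1 h13], fun j hj k => ?_⟩
    · exact Nat.coprime_two_left.2 (Nat.odd_iff.2 (by omega))
    · rw [← hB.sq, ← pow_mul, h10 j hj]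
      exact congrArg _ (List.map_congr_left fun e _ => by rw [← pow_mul, mul_comm 2, mul_assoc])
  refine ⟨h8, ζ, hζ, h9, ?_⟩
  have h11 : ∀ j < 3, ∀ k, B (ρ (z ^ (j * k) * g ^ k)) = w ^ (j * k) * (E.map fun e => ζ ^ (e * k)).sum +
      w ^ (2 * (j * k)) * (E.map fun e => ζ ^ (e * (2 * k))).sum := fun j hj k => by
    rw [pow_mul z, ← ((show Commute z g from hz g).pow_left j).mul_pow, map_pow, h10 j hj, e3, List.map_append,
      List.sum_append, List.map_map, List.map_map, ← List.sum_map_mul_left, ← List.sum_map_mul_left, ← h9]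
    congr 2 <;> refine List.map_congr_left fun e _ => ?_ <;>
      rw [Function.comp, pow_mul ζ, ← pow_eq_pow_mod _ hζ.pow_eq_one] <;> ring
  have h12 : ∀ k, ¬ 3 ∣ k → be B ρ z w (g ^ k) = (E.map fun e => ζ ^ (e * k)).sum := fun k hk => by
    have e0 := h11 0 (by decide) k
    have e1 := h11 1 (by decide) k
    have e2 := h11 2 (by decide) k
    rw [zero_mul, pow_zero, one_mul, mul_zero, pow_zero, one_mul, one_mul] at e0
    rw [pow_eq_pow_mod _ h3, pow_eq_pow_mod _ hw3, pow_eq_pow_mod (2 * _) hw3] at e1 e2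
    rw [be, ← mul_assoc, ← pow_two, e0]
    obtain h | h : k % 3 = 1 ∨ k % 3 = 2 := by omega
    · rw [show 1 * k % 3 = 1 by omega, show 2 * (1 * k) % 3 = 2 by omega, pow_one, pow_one] at e1
      rw [show 2 * k % 3 = 2 by omega, show 2 * (2 * k) % 3 = 1 by omega, pow_one] at e2
      rw [e1, e2]
      linear_combination (2 * (E.map fun e => ζ ^ (e * k)).sum + w * (E.map fun e => ζ ^ (e * (2 * k))).sum) / 3 * hw3 +
        (E.map fun e => ζ ^ (e * (2 * k))).sum / 3 * hw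
    · rw [show 1 * k % 3 = 2 by omega, show 2 * (1 * k) % 3 = 1 by omega, pow_one] at e1
      rw [show 2 * k % 3 = 1 by omega, show 2 * (2 * k) % 3 = 2 by omega, pow_one, pow_one] at e2
      rw [e1, e2]
      linear_combination (2 * (E.map fun e => ζ ^ (e * k)).sum + w * (E.map fun e => ζ ^ (e * (2 * k))).sum) / 3 * hw3 +
        (E.map fun e => ζ ^ (e * (2 * k))).sum / 3 * hw
  intro k hk
  by_cases h13 : 3 ∣ k
  swap
  · exact h12 k h13
  have h14 : m % 3 ≠ 0 := fun h => by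
    have := Nat.eq_one_of_dvd_coprimes hk h13 (Nat.dvd_of_mod_eq_zero h)
    omega
  have h15 : ∀ x, ρ (x * g ^ (k + m)) = ρ (x * g ^ k) := fun x => by
    rw [pow_add, ← mul_assoc, map_mul, map_pow, h8, mul_one]
  have h16 := h12 (k + m) (by omega)
  rw [be, ← mul_assoc, h15, h15, ← one_mul (g ^ (k + m)), h15, one_mul, mul_assoc] at h16
  refine h16.trans (congrArg _ (List.map_congr_left fun e he => ?_))
  rw [mul_add, pow_add, pow_eq_pow_mod (e * m) hζ.pow_eq_one,
    Nat.eq_of_beq_eq_true (allL_spec (h6.resolve_left h14) e he), pow_zero, mul_one]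

end Cfsg.Agent.MO.S.E62W
end

-- part: MO/S/E62W/Val
section
/-!
# MO, the values of the Brauer lift on a rational class (helper2)

* `sb`, `sum_sb` : sums of roots of unity over subgroups;
* `Ce`, `okT`, `typ` : the values at all lifts of the generators of a cyclic group from a certificate.
-/

set_option autoImplicit false

namespace Cfsg.Agent.MO.S.E62W

open Cfsg Cfsg.Agent.TAB.Cov Cfsg.Agent.Lib Cfsg.Agent.Lib.F2Mat Cfsg.Agent.Lib.F2MatGroup
open Cfsg.Agent.TAB.Eng (allL allL_spec)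
open scoped ComplexConjugate

/-- the subgroups of the orders `L` -/
def sb (N : ℕ) (L : List ℕ) : List ℕ := L.flatMap fun p => (List.range p).map (· * (N / p))

theorem sum_sb {N : ℕ} {ζ : ℂ} (hζ : IsPrimitiveRoot ζ N) (hN : 0 < N) :
    ∀ L : List ℕ, (∀ p ∈ L, N % p = 0) → ((sb N L).map (ζ ^ ·)).sum = L.count 1
  | [], _ => by simp [sb]
  | p :: L, h => by
    have h1 := h p List.mem_cons_self
    have h2 := hζ.pow hN (Nat.div_mul_cancel (Nat.dvd_of_mod_eq_zero h1)).symm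
    rw [sb, List.flatMap_cons, List.map_append, List.sum_append, ← sb, sum_sb hζ hN L fun q hq => h q (List.mem_cons_of_mem _ hq),
      List.map_map, List.count_cons, ← List.sum_toFinset _ List.nodup_range, List.toFinset_range,
      Finset.sum_congr rfl (g := fun i => (ζ ^ (N / p)) ^ i) fun i _ => by rw [Function.comp, mul_comm, pow_mul]]
    rcases eq_or_ne p 1 with rfl | hp
    · simp [add_comm]
    · rw [h2.geom_sum_eq_zero (by rcases p with _ | _ | p <;> omega)]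
      simp [hp]

/-- the data of a class -/
structure Ce where
  d : ℕ
  N : ℕ
  C : ℕ
  j : ℕ
  q : ℕ
  P : ℕ
  Pi : ℕ
  c : List (List (ℕ × List Bool) × List ℕ)
  E : List ℕ
  U : List ℕ
  V : List ℕ

/-- The lift `z ^ j * g` has the order `m` and the rational value `v`; `q` is the part of `m` prime to `3`. -/
noncomputable def okT (n Z A m : ℕ) (v : ℤ) (T : Ce) : Bool :=
  force (F2Mat.mul n (npow n Z T.j) A) fun A => ok3 n T.d T.N T.C Z A m T.P T.Pi T.c T.E && Nat.beq (T.N % m) 0 &&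
    allL (fun p => Nat.beq (T.N % p) 0) (T.U ++ T.V) && decide (v = (T.V.count 1 : ℤ) - T.U.count 1) &&
    allL (fun k => !Nat.beq (k.gcd m) 1 || (T.E.map (· * k % T.N) ++ sb T.N T.U).isPerm (sb T.N T.V)) (List.range T.N) &&
    (!Nat.beq (m % 3) 0 || Nat.beq (9 * T.q % m) 0 && force (npow n A T.q) fun A =>
      allL (fun s => !Nat.beq A (npow n Z s)) (List.range 3))

variable {n : ℕ} {B : GL (Fin n) (ZMod 2) → ℂ} {G : Type} [Group G] {ρ : G →* GL (Fin n) (ZMod 2)} {z : G}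

theorem npow_lt (hn : 0 < n) (A k : ℕ) : npow n A k < 2 ^ (n * n) := by
  cases k
  · exact one_lt'
  · exact mul_lt hn _ _

theorem be_z (h3 : z ^ 3 = 1) {w : ℂ} (hw : w ^ 3 = 1) (j : ℕ) (x : G) : be B ρ z w (z ^ j * x) = w ^ j * be B ρ z w x := by
  induction j with
  | zero => rw [pow_zero, pow_zero, one_mul, one_mul]
  | succ j ih =>
    rw [pow_succ', mul_assoc, pow_succ', mul_assoc, ← ih]
    generalize z ^ j * x = y
    rw [be, be, show z * (z * (z * y)) = y by rw [← mul_assoc, ← mul_assoc, ← pow_three', h3, one_mul]]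
    linear_combination -B (ρ (z * y)) / 3 * hw

/-- **the values on a rational class** -/
theorem typ (hn : 0 < n) (hB : Lift B) (hE : Eig B) (hρ : Function.Injective ρ) (hz : ∀ x, z * x = x * z) (ho : orderOf z = 3)
    {w : ℂ} (hw : 1 + w + w ^ 2 = 0) {Z A m : ℕ} {v : ℤ} {T : Ce} {g : G} (cz : Codes n (ρ z) Z) (cg : Codes n (ρ g) A)
    (h : okT n Z A m v T = true) (k j : ℕ) (hk : k.Coprime m) :
    be B ρ z w (z ^ j * g ^ k) * conj (be B ρ z w (z ^ j * g ^ k)) = (v : ℂ) ^ 2 ∧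
      (¬ 3 ∣ orderOf (z ^ j * g ^ k) → be B ρ z w (z ^ j * g ^ k) = v) := by
  simp only [okT, force_eq, Bool.and_eq_true, Bool.or_eq_true, Nat.beq_eq, decide_eq_true_eq] at h
  obtain ⟨⟨⟨⟨⟨h1, h2⟩, h4⟩, h5⟩, h6⟩, h7⟩ := h
  have h3 : z ^ 3 = 1 := ho ▸ pow_orderOf_eq_one z
  have hw3 : w ^ 3 = 1 := by linear_combination (w - 1) * hw
  have cx : Codes n (ρ (z ^ T.j * g)) (F2Mat.mul n (npow n Z T.j) A) := by
    rw [map_mul, map_pow]
    exact (cz.pow _).mul cg
  have hc : ∀ x, Commute z x := hz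
  have h8 : z ^ j * g ^ k = z ^ (j + 2 * (T.j * k)) * (z ^ T.j * g) ^ k := by
    rw [((hc g).pow_left _).mul_pow, ← mul_assoc, ← pow_mul, ← pow_add, show j + 2 * (T.j * k) + T.j * k = j + 3 * (T.j * k) by ring,
      pow_add, pow_mul, h3, one_pow, mul_one]
  rw [h8]
  generalize z ^ T.j * g = x at cx
  generalize j + 2 * (T.j * k) = t
  obtain ⟨h9, ζ, hζ, -, h10⟩ := vals hB hE hz h3 hw cz cx h1
  have hN : 0 < T.N := by
    simp only [ok3, Bool.and_eq_true, Nat.beq_eq] at h1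
    omega
  have h11 : be B ρ z w (x ^ k) = v := by
    have h12 := allL_spec h6 _ (List.mem_range.2 (Nat.mod_lt k hN))
    rw [show (k % T.N).gcd m = 1 from by
      rw [Nat.gcd_comm, Nat.gcd_rec, Nat.mod_mod_of_dvd _ (Nat.dvd_of_mod_eq_zero h2), ← Nat.gcd_rec]
      exact hk.symm, Nat.beq_refl, Bool.not_true, Bool.false_or, List.isPerm_iff] at h12
    have h13 := (h12.map (ζ ^ ·)).sum_eq
    rw [List.map_append, List.sum_append, List.map_map,
      sum_sb hζ hN _ fun p hp => Nat.eq_of_beq_eq_true (allL_spec h4 p (List.mem_append_left _ hp)),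
      sum_sb hζ hN _ fun p hp => Nat.eq_of_beq_eq_true (allL_spec h4 p (List.mem_append_right _ hp))] at h13
    rw [h10 k hk, h5, Int.cast_sub, Int.cast_natCast, Int.cast_natCast, ← h13, add_sub_cancel_right]
    exact congrArg _ (List.map_congr_left fun e _ => by
      rw [Function.comp, Nat.mul_mod_mod, ← pow_eq_pow_mod _ hζ.pow_eq_one])
  rw [be_z h3 hw3, h11]
  refine ⟨?_, fun h12 => ?_⟩
  · have h1 : w * conj w = 1 := by
      rw [Complex.mul_conj, Complex.normSq_eq_norm_sq, Complex.norm_eq_one_of_pow_eq_one hw3 three_ne_zero]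
      simp
    rw [map_mul, map_pow, map_intCast, mul_mul_mul_comm, ← mul_pow, h1, one_pow, one_mul, pow_two]
  have h13 : x ^ m = 1 := hρ (by rw [map_pow, h9, map_one])
  have h14 : ∀ a b, (z ^ t * x ^ k) ^ (3 ^ a * b) = 1 → z ^ (t * b) * (x ^ b) ^ k = 1 := fun a b h => by
    rw [pow_mul, ← pow_mul x, mul_comm b, pow_mul, ← (((hc x).pow_left t).pow_right k).mul_pow, ← orderOf_dvd_iff_pow_eq_one]
    exact (((Nat.prime_three.coprime_iff_not_dvd.2 h12).pow_left a).symm).dvd_of_dvd_mul_left (orderOf_dvd_iff_pow_eq_one.2 h)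
  have h15 : (z ^ t * x ^ k) ^ (3 * m) = 1 := by
    rw [(((hc x).pow_left t).pow_right k).mul_pow, ← pow_mul, ← pow_mul, mul_left_comm, pow_mul, h3, one_pow, one_mul, ← mul_assoc,
      mul_comm, pow_mul, h13, one_pow]
  by_cases h16 : m % 3 = 0
  · obtain ⟨h17, h18⟩ := h7.resolve_left (by rw [h16]; decide)
    obtain ⟨b, hb⟩ := Nat.dvd_of_mod_eq_zero h17
    have h19 := h14 3 T.q (by rw [show 3 ^ 3 * T.q = 3 * m * b by rw [mul_assoc, ← hb]; ring, pow_mul, h15, one_pow])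
    have h20 : x ^ T.q ∈ Subgroup.zpowers z := by
      have h20 : (x ^ T.q) ^ k ∈ Subgroup.zpowers z := by
        rw [eq_inv_of_mul_eq_one_right h19]
        exact inv_mem (Subgroup.npow_mem_zpowers z _)
      have h21 : (x ^ T.q) ^ m = 1 := by rw [← pow_mul, mul_comm, pow_mul, h13, one_pow]
      obtain ⟨a, ha⟩ := exists_pow_eq_self_of_coprime (hk.coprime_dvd_right (orderOf_dvd_of_pow_eq_one h21))
      exact ha ▸ pow_mem h20 a
    rw [← (isOfFinOrder_iff_pow_eq_one.2 ⟨3, by decide, h3⟩).mem_powers_iff_mem_zpowers] at h20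
    obtain ⟨s, hs⟩ := h20
    have h21 := allL_spec h18 _ (List.mem_range.2 (Nat.mod_lt s three_pos))
    have h22 := cx.pow T.q
    have h23 := cz.pow (s % 3)
    rw [← map_pow, ← pow_eq_pow_mod _ h3, show z ^ s = _ from hs, map_pow] at h23
    rw [toMat_inj (npow_lt hn _ _) (npow_lt hn _ _) (h22.symm.trans h23), Nat.beq_refl] at h21
    exact absurd h21 (by decide)
  · have h17 := h14 1 m (by rwa [pow_one])
    rw [h13, one_pow, mul_one, ← orderOf_dvd_iff_pow_eq_one, ho] at h17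
    obtain ⟨s, rfl⟩ := (Nat.prime_three.dvd_mul.1 h17).resolve_right (by omega)
    rw [pow_mul, hw3, one_pow, one_mul]

end Cfsg.Agent.MO.S.E62W
end

-- part: MO/S/E62W/Dat
section
/-!
# MO, `3.²E₆(2)` : the eigenvalues of the rational elements of odd order (helper2, generated by `tools/P3/h2/e62w.py`)
-/

set_option autoImplicit false
set_option maxRecDepth 100000
set_option Elab.async false
set_option exponentiation.threshold 5000

namespace Cfsg.Agent.MO.S.E62W

open Cfsg.Agent.Lib Cfsg.Agent.Lib.F2MatGroup Cfsg.Agent.MO.S.E62G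

/-- the words of the 19 kinds -/
def wL : List (List (Fin 10)) :=
  [[],
   [3, 9, 7, 2, 4, 8, 1, 2, 3, 7, 4, 3, 1, 6, 2, 0, 5, 4],
   [1, 9, 7, 6, 0, 3, 5, 8],
   [1, 4, 8, 0, 3, 7, 2],
   [3, 0, 2, 4, 1, 5, 8, 3, 7, 4, 9, 6],
   [3, 0, 2, 4, 1, 5, 8, 3, 7, 4, 9, 6],
   [7, 3, 8, 0, 1, 5, 6, 2],
   [5, 1, 3, 2, 4, 3, 8, 1, 7, 2],
   [1, 4, 8, 0, 3, 7, 2],
   [3, 9, 7, 2, 4, 8, 1, 2, 3, 7, 4, 3, 1, 6, 2, 0, 5, 4],
   [1, 2, 3, 4, 7, 5, 8, 6],
   [1, 9, 7, 6, 0, 3, 5, 8],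
   [9, 6, 3, 8, 5, 7],
   [0, 8, 2, 1, 2, 7, 1, 4, 3, 5, 8, 6, 4, 7, 2, 9, 3, 5, 8, 9, 4, 7, 2, 3],
   [2, 9, 7, 3, 4, 8, 1, 0, 5, 3, 1, 7, 8, 2, 6, 1, 3],
   [2, 3, 8, 4, 5, 7, 3, 9, 7, 8, 4, 5, 1, 6, 2, 3, 7, 2, 5, 4, 0, 3, 4, 5, 7],
   [7, 3, 8, 0, 1, 5, 6, 2],
   [3, 9, 7, 2, 4, 8, 1, 2, 3, 7, 4, 3, 1, 6, 2, 0, 5, 4],
   [3, 0, 2, 4, 1, 5, 8, 3, 7, 4, 9, 6]]

/-- the exponents -/
def exL : List ℕ := [2, 22, 10, 6, 14, 10, 6, 4, 2, 6, 2, 2, 2, 2, 2, 2, 2, 2, 2]

/-- the orders -/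
def oL : List ℕ := [1, 3, 3, 3, 5, 7, 7, 9, 9, 11, 13, 15, 15, 17, 19, 21, 21, 33, 35]

/-- the rational kinds -/
def rL : List ℕ := [0, 1, 2, 3, 4, 5, 6, 7, 8, 10, 11, 12, 15, 16]

/-- the values on the rational kinds -/
def bo : List ℤ := [27, 9, 0, 0, 2, 6, -1, 3, 0, 0, 1, 5, -1, 0, 0, 0, 2, 0, 0]

/-- the exchange of two arms -/
def sw : Fin 10 → Fin 10 := ![0, 1, 2, 3, 7, 8, 9, 4, 5, 6]

/-- the word of a kind, or its image -/
def wE (i : ℕ) (e : Bool) : List (Fin 10) := cond e ((wL.getD i []).map sw) (wL.getD i [])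

/-- the test -/
noncomputable def okI (i : ℕ) (e : Bool) (T : Ce) : Bool :=
  okT 54 (mg 10) (npow 54 (mw ((wE i e).map Fin.val)) (exL.getD i 0)) (oL.getD i 0) (bo.getD i 0) T

/-- the data of kind `0` -/
def c0a : Ce :=
  ⟨2, 3, 0xe, 0, 1,
    0x800000000000010000000000000200000000000004000000000000080000000000001000000000000020000000000000400000000000008000000000000100000000000002000000000000040000000000000800000000000010000000000000200000000000004000000000000080000000000001000000000000020000000000000400000000000008000000000000100000000000002000000000000040000000000000800000000000010000000000000200000000000004000000000000080000000000001000000000000020000000000000400000000000008000000000000100000000000002000000000000040000000000000800000000000010000000000000200000000000004000000000000080000000000001000000000000020000000000000400000000000008000000000000100000000000002000000000000040000000000000800000000000010000000000000200000000000004000000000000080000000000001,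
    0x800000000000010000000000000200000000000004000000000000080000000000001000000000000020000000000000400000000000008000000000000100000000000002000000000000040000000000000800000000000010000000000000200000000000004000000000000080000000000001000000000000020000000000000400000000000008000000000000100000000000002000000000000040000000000000800000000000010000000000000200000000000004000000000000080000000000001000000000000020000000000000400000000000008000000000000100000000000002000000000000040000000000000800000000000010000000000000200000000000004000000000000080000000000001000000000000020000000000000400000000000008000000000000100000000000002000000000000040000000000000800000000000010000000000000200000000000004000000000000080000000000001,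
    [([(0, [true])], [0, 0, 0, 0, 0, 0, 0, 0, 0, 0, 0, 0, 0, 0, 0, 0, 0, 0, 0, 0, 0, 0, 0, 0, 0, 0, 0, 0, 0, 0, 0, 0, 0, 0, 0, 0, 0, 0, 0, 0, 0, 0, 0, 0, 0, 0, 0, 0, 0, 0, 0, 0, 0, 0]), ([(1, [true, true])], [0, 0, 0, 0, 0, 0, 0, 0, 0, 0, 0, 0, 0, 0, 0, 0, 0, 0, 0, 0, 0, 0, 0, 0, 0, 0, 0, 0, 0, 0, 0, 0, 0, 0, 0, 0, 0, 0, 0, 0, 0, 0, 0, 0, 0, 0, 0, 0, 0, 0, 0, 0, 0, 0]), ([(1, [true, true])], [0, 0, 0, 0, 0, 0, 0, 0, 0, 0, 0, 0, 0, 0, 0, 0, 0, 0, 0, 0, 0, 0, 0, 0, 0, 0, 0, 0, 0, 0, 0, 0, 0, 0, 0, 0, 0, 0, 0, 0, 0, 0, 0, 0, 0, 0, 0, 0, 0, 0, 0, 0, 0, 0])],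
    [0, 0, 0, 0, 0, 0, 0, 0, 0, 0, 0, 0, 0, 0, 0, 0, 0, 0, 0, 0, 0, 0, 0, 0, 0, 0, 0], [], [1, 1, 1, 1, 1, 1, 1, 1, 1, 1, 1, 1, 1, 1, 1, 1, 1, 1, 1, 1, 1, 1, 1, 1, 1, 1, 1]⟩

/-- the data of kind `0` -/
def c0b : Ce :=
  ⟨2, 3, 0xe, 0, 1,
    0x800000000000010000000000000200000000000004000000000000080000000000001000000000000020000000000000400000000000008000000000000100000000000002000000000000040000000000000800000000000010000000000000200000000000004000000000000080000000000001000000000000020000000000000400000000000008000000000000100000000000002000000000000040000000000000800000000000010000000000000200000000000004000000000000080000000000001000000000000020000000000000400000000000008000000000000100000000000002000000000000040000000000000800000000000010000000000000200000000000004000000000000080000000000001000000000000020000000000000400000000000008000000000000100000000000002000000000000040000000000000800000000000010000000000000200000000000004000000000000080000000000001,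
    0x800000000000010000000000000200000000000004000000000000080000000000001000000000000020000000000000400000000000008000000000000100000000000002000000000000040000000000000800000000000010000000000000200000000000004000000000000080000000000001000000000000020000000000000400000000000008000000000000100000000000002000000000000040000000000000800000000000010000000000000200000000000004000000000000080000000000001000000000000020000000000000400000000000008000000000000100000000000002000000000000040000000000000800000000000010000000000000200000000000004000000000000080000000000001000000000000020000000000000400000000000008000000000000100000000000002000000000000040000000000000800000000000010000000000000200000000000004000000000000080000000000001,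
    [([(0, [true])], [0, 0, 0, 0, 0, 0, 0, 0, 0, 0, 0, 0, 0, 0, 0, 0, 0, 0, 0, 0, 0, 0, 0, 0, 0, 0, 0, 0, 0, 0, 0, 0, 0, 0, 0, 0, 0, 0, 0, 0, 0, 0, 0, 0, 0, 0, 0, 0, 0, 0, 0, 0, 0, 0]), ([(1, [true, true])], [0, 0, 0, 0, 0, 0, 0, 0, 0, 0, 0, 0, 0, 0, 0, 0, 0, 0, 0, 0, 0, 0, 0, 0, 0, 0, 0, 0, 0, 0, 0, 0, 0, 0, 0, 0, 0, 0, 0, 0, 0, 0, 0, 0, 0, 0, 0, 0, 0, 0, 0, 0, 0, 0]), ([(1, [true, true])], [0, 0, 0, 0, 0, 0, 0, 0, 0, 0, 0, 0, 0, 0, 0, 0, 0, 0, 0, 0, 0, 0, 0, 0, 0, 0, 0, 0, 0, 0, 0, 0, 0, 0, 0, 0, 0, 0, 0, 0, 0, 0, 0, 0, 0, 0, 0, 0, 0, 0, 0, 0, 0, 0])],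
    [0, 0, 0, 0, 0, 0, 0, 0, 0, 0, 0, 0, 0, 0, 0, 0, 0, 0, 0, 0, 0, 0, 0, 0, 0, 0, 0], [], [1, 1, 1, 1, 1, 1, 1, 1, 1, 1, 1, 1, 1, 1, 1, 1, 1, 1, 1, 1, 1, 1, 1, 1, 1, 1, 1]⟩

/-- the data of kind `1` -/
def c1a : Ce :=
  ⟨2, 3, 0xe, 2, 1,
    0x80819bcc6e37710202b0dd81f83228142d1b4c7ac400ca6e4949b90803322122d2ec10090a6697df2010332faad6f5c010053002924400212f0005997c00497100200a600092f1ba12e6000132fee942e08002ded2f820110a08849244d1b22822e2e04d010400a2a4ffc8e2080005930da9e8180f07c7ff4a00183c21203890001055c800c8f4002107c001a9cc004548ccc5efb00084cb33a72d800140b4cffefb800001c03f8b7900000700562a4200001c021d678400000007ce3a080001c0532e9010000001c7d3a020001c051477804000400049a30080010012368c010003005f807002000004d1ce8004003018a30700080100123224001004000dc890002000010c4a800040400884a3000080c04198b400010301071470000210011068c00004400074bd0000080001d80000001100000890000020041cc4000000080074160000001005a800000000206fd400000000431f4e8000000091337a0000000113e0a8000000020597a,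
    0x9f99f98200007204ad49d000034464e64820000e42667661800014bb539989b080cb088c8bd80000d542302640000171d2b49a26082ae38219c1850069cd6aaf60e020637b7e8486c4011a95490e0550a1667a4dc3a1404705de4ae044004d7ff8f2d42a8552f1b749e140098afda752a2220113944c59d10042140562488a203bf39142790042eb2fb8122a8a011f13b82322000fbbffa0407c000294204044e440efceed0046d101109118004cfc0ef0ef3000ced0195c55dc00003cbca6cad00000a68851879800019d50850520000d493bb5b2380010d04e44360000c180dd0c500001cc096afa99a00c2043acda43202af77eed186a00c1715354410201636cb19855740bcb01a611b81a21d90c9c12b0c0a82817d15142a1e670437241c2202fc2fe4089a214ab2bb1100c0a063b63bc082e88944e4d9085c04015715700003204a3ea34002a940905d05c0801a81025024008735011391180081340aa9aab000a43011551540002280,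
    [([(0, [true]), (1, [true, true])], [0, 0, 0, 0, 0, 0, 0, 0, 0, 0, 0, 0, 0, 0, 0, 0, 0, 0, 0, 0, 0, 0, 0, 0, 0, 0, 0, 0, 0, 0, 1, 1, 1, 1, 1, 1, 1, 1, 1, 1, 1, 1, 1, 1, 1, 1, 1, 1, 1, 1, 1, 1, 1, 1]), ([(0, [true]), (1, [true, true])], [1, 1, 1, 1, 1, 1, 1, 1, 1, 1, 1, 1, 1, 1, 1, 1, 1, 1, 1, 1, 1, 1, 1, 1, 1, 1, 1, 1, 1, 1, 0, 0, 0, 0, 0, 0, 0, 0, 0, 0, 0, 0, 1, 1, 1, 1, 1, 1, 1, 1, 1, 1, 1, 1]), ([(0, [true]), (1, [true, true])], [1, 1, 1, 1, 1, 1, 1, 1, 1, 1, 1, 1, 1, 1, 1, 1, 1, 1, 1, 1, 1, 1, 1, 1, 1, 1, 1, 1, 1, 1, 1, 1, 1, 1, 1, 1, 1, 1, 1, 1, 1, 1, 0, 0, 0, 0, 0, 0, 0, 0, 0, 0, 0, 0])],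
    [0, 0, 0, 0, 0, 0, 0, 0, 0, 0, 0, 0, 0, 0, 0, 1, 1, 1, 1, 1, 1, 2, 2, 2, 2, 2, 2], [], [1, 1, 1, 1, 1, 1, 1, 1, 1, 3, 3, 3, 3, 3, 3]⟩

/-- the data of kind `1` -/
def c1b : Ce :=
  ⟨2, 3, 0xe, 1, 1,
    0x800054d10708110a028053f3e872003c93e6d3f70400a0a43e0ae2080051900aa0081805210b03c59018114413caa98010552000ca0d0021046001a834004107c0da227000900503d8a38001107c0e00a08082376f9f72f5020c0db244c022003a372bfd654400cab68aefab080205012202201005a108034490100148108422801005100290a600212ce00598e000480200200a200084818af671c00168fe2ad0a08000014070a509000005014701220000140637948400000014ff00080001001ff84c10000000c93190200014011156c04000500080020080010053ad0c010001005fe11002000004d052400400100880080008014013f048001005000de120002000010dd64000405018d7520000804040512000010101077510000214011152c00004600000ae0000080001d800000011000008c0000020040044000000080074130000001040f564000000214ca4900000004724c6400000009035490000000117f8640000000300810,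
    0x8b97b97000006704a9489800024a64a24260000046673671000010fe125cd17400c358b588100000844260226000006e04f0e142c028e046268389806115610700490067e037b484cc011309a889449021e6b24bc1092844f067168a570040973f735020a560868848000889c2f92f5282aa029f2ce85861284402642260000002880002621502e29f2b120a0a013dd1b423a034010114104012003f87f1004548c0f76f670046dc01155144004d800f68f6b000ce00205f95d9000005aca3ca920000b79878841000008850c50420000851821c7031800434414422000024c0cd0c1000008fe15e5a0910025780f0d8430838b23aa9182a40d93797384102216b16377850700a30f61f51a0182162e72a1290c2b00d55c55042898007247240020069ae9a80818214e64f67100c0a049089080804089097000085c040151d51c0003004bb4bbe002a91081001000800801460461008720011551740081340b23b21000a43011191180002280,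
    [([(0, [true]), (1, [true, true])], [0, 0, 0, 0, 0, 0, 0, 0, 0, 0, 0, 0, 0, 0, 0, 0, 0, 0, 0, 0, 0, 0, 0, 0, 0, 0, 0, 0, 0, 0, 1, 1, 1, 1, 1, 1, 1, 1, 1, 1, 1, 1, 1, 1, 1, 1, 1, 1, 1, 1, 1, 1, 1, 1]), ([(0, [true]), (1, [true, true])], [1, 1, 1, 1, 1, 1, 1, 1, 1, 1, 1, 1, 1, 1, 1, 1, 1, 1, 1, 1, 1, 1, 1, 1, 1, 1, 1, 1, 1, 1, 0, 0, 0, 0, 0, 0, 0, 0, 0, 0, 0, 0, 1, 1, 1, 1, 1, 1, 1, 1, 1, 1, 1, 1]), ([(0, [true]), (1, [true, true])], [1, 1, 1, 1, 1, 1, 1, 1, 1, 1, 1, 1, 1, 1, 1, 1, 1, 1, 1, 1, 1, 1, 1, 1, 1, 1, 1, 1, 1, 1, 1, 1, 1, 1, 1, 1, 1, 1, 1, 1, 1, 1, 0, 0, 0, 0, 0, 0, 0, 0, 0, 0, 0, 0])],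
    [0, 0, 0, 0, 0, 0, 0, 0, 0, 0, 0, 0, 0, 0, 0, 1, 1, 1, 1, 1, 1, 2, 2, 2, 2, 2, 2], [], [1, 1, 1, 1, 1, 1, 1, 1, 1, 3, 3, 3, 3, 3, 3]⟩

/-- the data of kind `2` -/
def c2a : Ce :=
  ⟨2, 3, 0xe, 0, 1,
    0x800140a350826100400246b8064200003051220744040026a9806408100089a2019010404752a23f40200038c81637404004b10049e90081002da201f00140020e88064002140a0508260002440849d2d8000510a177c8f000084c37dcef90000838011f3f400008600479c700000ac005bdb400001500005108401127452c62d0005288554f96240122011a2cf8500161017ba79080000075511900815c804e6b3e01000054102a6402058805a2bbe004000130400000085288154f9600100050a3a26400300001420800002100178c0900002a0800002c0000040015d2000000050041b90000000c005a9f400000039444648000000a0000010400c85025b3420000315220a784400c83825b340900320d016cd01400c400259aa028131005a72e80100000c0000000211303f35fa80040c8028db34000903005f9638001400003b71000023103f72ea80002880016f1000005003a2019000002000076000000074001d818000003000007c,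
    0x584036200000006000080054000508af39fbbefa12000d80020000d0201010098000962bcc5efbbe81d5c1910179aa0d90ac65c3c7a83c724ee4804972008098c006000584010100190039b6ae74c016a84eb88ab13635511ff32ad49a9771fd01ea3066250f1c45a951825c1f2e1c54b6e6bdb5d81a925c27f0b8a402840b14dc0db00105c27f14a49c7c1657b07db37bd2198ab14a75c69f65c9192b61ed81ecc47bfa594381da81ef09655d076a7000340010000182100088040000982012101d0000f96ac64c3e6a8c06024301500010100080052400cbc2b95f029aa1b50b7f2685d402158434cb2b1000f210280809431800002001900021000800404000c1843c4b06101b01a7da645c6373a6836c279ef001600a82c21c303c80228f0a10c7dd37bd21986814285c2d965e71bc931b791c8c714685c05b65e71c1a360ac8527702d202a030a641c14d60fc052670b89016c40930425620f3240d47095843ccb035040001000380001,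
    [([(0, [true]), (1, [true, true])], [0, 0, 0, 0, 0, 0, 0, 0, 0, 0, 0, 0, 0, 0, 0, 0, 0, 0, 1, 1, 1, 1, 1, 1, 1, 1, 1, 1, 1, 1, 1, 1, 1, 1, 1, 1, 1, 1, 1, 1, 1, 1, 1, 1, 1, 1, 1, 1, 1, 1, 1, 1, 1, 1]), ([(0, [true]), (1, [true, true])], [1, 1, 1, 1, 1, 1, 1, 1, 1, 1, 1, 1, 1, 1, 1, 1, 1, 1, 0, 0, 0, 0, 0, 0, 0, 0, 0, 0, 0, 0, 0, 0, 0, 0, 0, 0, 1, 1, 1, 1, 1, 1, 1, 1, 1, 1, 1, 1, 1, 1, 1, 1, 1, 1]), ([(0, [true]), (1, [true, true])], [1, 1, 1, 1, 1, 1, 1, 1, 1, 1, 1, 1, 1, 1, 1, 1, 1, 1, 1, 1, 1, 1, 1, 1, 1, 1, 1, 1, 1, 1, 1, 1, 1, 1, 1, 1, 0, 0, 0, 0, 0, 0, 0, 0, 0, 0, 0, 0, 0, 0, 0, 0, 0, 0])],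
    [0, 0, 0, 0, 0, 0, 0, 0, 0, 1, 1, 1, 1, 1, 1, 1, 1, 1, 2, 2, 2, 2, 2, 2, 2, 2, 2], [], [3, 3, 3, 3, 3, 3, 3, 3, 3]⟩

/-- the data of kind `2` -/
def c2b : Ce :=
  ⟨2, 3, 0xe, 0, 1,
    0x8000140015d281000010406748020027026e63e9c4000005923044080004000802801004a18b0cc4202026426f1663804085059c108d0080053466da80010050003008000200400080280004934d10344d00081c1237c98000187000096c4000095364e9a9000000208334cd000000081dd08000000004100008000414116d02d0000006c1000020011250099c94400147207b42b08001080000080100509733c1450200003c8413a80400c59455d180080002125d228010042043002000200001080000004005e4a76450008200d3a757400104540e66af000201d03bca2c000200a0420ca0000082208dbb800001004000a480810252dc6ecd000000480000010810248dc6ecc22020020a504004000058c5db8c0a04090166fb30100205867bbcc01000000300000020000008000000440803c0b1000080043031a8c0012800d6ce500002200050284000010100274a30000102009d3180000200007600000004000402100000028017462,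
    0x8860d218040000208098203800080d96ba111d7c2010290400000000000218001800ea53fcd3f146433d1dfe3b5d7c066bc112ec483dd14d866f5d1c6c20810840002000820021800180066f2c8a4f88a90037606a18252f03d6906798176802cf23955124a7b81997283910d14dd425f836fd22c74895c0260faa9aa2d46475801810000406029194e27a131f90208008000020bc75b11b198277c465088126c84a006000180000032408d11a0c18a81f2e66bc317dd2002d800280000000500004000220110a4161464402090080000000000002000200fb53b9d2038651621b4ac049464914d4466c815ed038800e690066082002180010000001002000200d1b4d21cab317c219140a0d4462d1eb062c0d36f7663f10d1b4ddd380e0e074004012309006794266d9563053a3061142718193788ed08004200100025221b48c0c04600000400010000a0ee6d325181e200e61209a51028008000204000081d6e6625317c1221f48c040465,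
    [([(0, [true]), (1, [true, true])], [0, 0, 0, 0, 0, 0, 0, 0, 0, 0, 0, 0, 0, 0, 0, 0, 0, 0, 1, 1, 1, 1, 1, 1, 1, 1, 1, 1, 1, 1, 1, 1, 1, 1, 1, 1, 1, 1, 1, 1, 1, 1, 1, 1, 1, 1, 1, 1, 1, 1, 1, 1, 1, 1]), ([(0, [true]), (1, [true, true])], [1, 1, 1, 1, 1, 1, 1, 1, 1, 1, 1, 1, 1, 1, 1, 1, 1, 1, 0, 0, 0, 0, 0, 0, 0, 0, 0, 0, 0, 0, 0, 0, 0, 0, 0, 0, 1, 1, 1, 1, 1, 1, 1, 1, 1, 1, 1, 1, 1, 1, 1, 1, 1, 1]), ([(0, [true]), (1, [true, true])], [1, 1, 1, 1, 1, 1, 1, 1, 1, 1, 1, 1, 1, 1, 1, 1, 1, 1, 1, 1, 1, 1, 1, 1, 1, 1, 1, 1, 1, 1, 1, 1, 1, 1, 1, 1, 0, 0, 0, 0, 0, 0, 0, 0, 0, 0, 0, 0, 0, 0, 0, 0, 0, 0])],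
    [0, 0, 0, 0, 0, 0, 0, 0, 0, 1, 1, 1, 1, 1, 1, 1, 1, 1, 2, 2, 2, 2, 2, 2, 2, 2, 2], [], [3, 3, 3, 3, 3, 3, 3, 3, 3]⟩

/-- the data of kind `3` -/
def c3a : Ce :=
  ⟨2, 3, 0xe, 0, 1,
    0x80000b969a0795000203bde6f7b20000b5face38c40024474977c90800005a7e2194100210da6dfa302008adc0a4cac04023c329d8a7008004fb583be801025f987adaf002081535cbb440042089baeaaa000883522ae21800101350d65ac000297261734b000060d9f93d9200005fc358480c0000e1fefd92a80000fc64980290000de334d56720002d4963c5004000b7324d69f08013d4406c5001000c30d85c26020017c2553d5c0404d01114408008103ab95a78c010022b46ca9d002136ab5b75280040941a9bb4e000932e4982fc80014b123d303b00023aa96c7f540002ff0242507000068c81531f4000000426f9a880000cf2ad26090020b888365fe20082eeed74fbc4020a5b19468508000c2ebbfe4c1020a58282c8502082c01973f1004201b71f49d50088263f794f4c012036cd26f3d0028042d1f17f8004085ac8f9f8000422dd4811f000080bfc2993b00012024c3015c0002b8fd68593000043773cfa1400004f68b4926,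
    0x7be009a13dd68a241f3fb97daf21672723d5fe8c22c12482d34c86ce76130818a5d1d2d97cf243128e9c44c351db110cd1b384e4280ecf5450a218d584f4b1bd0be01ba5a14c3d115572f67a577516ba80b5031839ad5e9da5fe7ac244ecbcbd01dd18bc991c53aaaf936eff3c57cf704019ce4df7adbe0fb18d88c8d98deeeec022c57bcd5cf6c07e92568892aa4b09718838d193dcbd6df666bc0238381b622572c884d797996d78c9b1cecfff292c94facb967ba5127369dc1f50204b11ecf89f8f5bb6a2e885014aa59265ee5622b4910f783a371e77c0c83981d26ce0cb4dedbff7daed7f9b2ec11c429da8588807f88941bdaae32ea3074223a01d5c263b3a32fc810c845fb9d0f461c681888a6012108c6513b00688109a420cacc04510d4cf70106600ee88ad3fdec0bd63b014e8df1c768b14408af76df9d4d234156c9078419ada84d6c8981e167032c9add6744198bf856bf2e02e2daa15684a930be870032c6db2146245c3b03,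
    [([(0, [true]), (1, [true, true])], [0, 0, 0, 0, 0, 0, 0, 0, 0, 0, 0, 0, 0, 0, 0, 0, 0, 0, 1, 1, 1, 1, 1, 1, 1, 1, 1, 1, 1, 1, 1, 1, 1, 1, 1, 1, 1, 1, 1, 1, 1, 1, 1, 1, 1, 1, 1, 1, 1, 1, 1, 1, 1, 1]), ([(0, [true]), (1, [true, true])], [1, 1, 1, 1, 1, 1, 1, 1, 1, 1, 1, 1, 1, 1, 1, 1, 1, 1, 0, 0, 0, 0, 0, 0, 0, 0, 0, 0, 0, 0, 0, 0, 0, 0, 0, 0, 1, 1, 1, 1, 1, 1, 1, 1, 1, 1, 1, 1, 1, 1, 1, 1, 1, 1]), ([(0, [true]), (1, [true, true])], [1, 1, 1, 1, 1, 1, 1, 1, 1, 1, 1, 1, 1, 1, 1, 1, 1, 1, 1, 1, 1, 1, 1, 1, 1, 1, 1, 1, 1, 1, 1, 1, 1, 1, 1, 1, 0, 0, 0, 0, 0, 0, 0, 0, 0, 0, 0, 0, 0, 0, 0, 0, 0, 0])],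
    [0, 0, 0, 0, 0, 0, 0, 0, 0, 1, 1, 1, 1, 1, 1, 1, 1, 1, 2, 2, 2, 2, 2, 2, 2, 2, 2], [], [3, 3, 3, 3, 3, 3, 3, 3, 3]⟩

/-- the data of kind `3` -/
def c3b : Ce :=
  ⟨2, 3, 0xe, 0, 1,
    0x800003c7cf01ad000206ff1dc2c20001e1f5f65d04002056f28c3e08001d670cd518100065208e60f020018cc893ccc040034422875800801fc880a284010229b1bc02500208b42b53380004032434cc640008836ef52790001248e999a0a00029e117d310000047b944887600005083ae88ec00009f8150f2e8000670c08d6250000a70bf8a0720004f008ae63c4001a42899bb1080060afe5fe701000281a085160200469513b3640401b6b2499c500804313b290880101b04065bf400204c379a6278004024f6c9e0c000828d9f6134c001102279ed0100026859ff93c400058b59619b6000087f79ef188000053278eb5f8000221dfa5d410001e115eab2d20005b7d597db04001881de671008005b6d957db01000890300903020041714be148040021284be130080212421d06c01018c59793590020222fe3d560004029d72e35b0008607b6a200400108d462fd0a00025b4890d9f800050d472f9400000c8310b5c60000013046eefd,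
    0x6062ea08b4840864c5b02f3a478d0741cfb383980ef80f7683722273427d6738edee9d9420fde0e60ce6aab5cd6119bb982eba4c131132219870853637a20c51382e7edaf0937e91708df87cfe1a2c0107f8409f2e884f28bf1271a557994d48e927dd9d7b8c691172349a1a3b812f58c86e21346e69ba89285427d107c5038c97c62185191d2575b765b27e37e2351d0e1760d42571b5d42622129d0aaf6ab20a066057134ea2d6df942a1617bcc7569573e572900bf98b49bfb5f758db675d10daf240f5a65c70d8466ce010a594e764b42e27130e8623e8f5627b3611992a57a814b8a064c2ed7544117fd82bca596314e7e5a32f284590280b6380d220829b608c2889bc2a68a0ec53219ec78aa2ad6893f000a4333d4d8510620c4c9f720718a41045ba972fa14c2dde1d43458398c4c2a309248554d135c2183d2e8093e3e210f1d2c05ccb8a1eeb4618d392c08526f100b6584286a45abd5a6513331ec0ebb60b0184b571684d51446,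
    [([(0, [true]), (1, [true, true])], [0, 0, 0, 0, 0, 0, 0, 0, 0, 0, 0, 0, 0, 0, 0, 0, 0, 0, 1, 1, 1, 1, 1, 1, 1, 1, 1, 1, 1, 1, 1, 1, 1, 1, 1, 1, 1, 1, 1, 1, 1, 1, 1, 1, 1, 1, 1, 1, 1, 1, 1, 1, 1, 1]), ([(0, [true]), (1, [true, true])], [1, 1, 1, 1, 1, 1, 1, 1, 1, 1, 1, 1, 1, 1, 1, 1, 1, 1, 0, 0, 0, 0, 0, 0, 0, 0, 0, 0, 0, 0, 0, 0, 0, 0, 0, 0, 1, 1, 1, 1, 1, 1, 1, 1, 1, 1, 1, 1, 1, 1, 1, 1, 1, 1]), ([(0, [true]), (1, [true, true])], [1, 1, 1, 1, 1, 1, 1, 1, 1, 1, 1, 1, 1, 1, 1, 1, 1, 1, 1, 1, 1, 1, 1, 1, 1, 1, 1, 1, 1, 1, 1, 1, 1, 1, 1, 1, 0, 0, 0, 0, 0, 0, 0, 0, 0, 0, 0, 0, 0, 0, 0, 0, 0, 0])],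
    [0, 0, 0, 0, 0, 0, 0, 0, 0, 1, 1, 1, 1, 1, 1, 1, 1, 1, 2, 2, 2, 2, 2, 2, 2, 2, 2], [], [3, 3, 3, 3, 3, 3, 3, 3, 3]⟩

/-- the data of kind `4` -/
def c4a : Ce :=
  ⟨4, 15, 0x3842, 1, 5,
    0x80000f20e92a2d000012d726bff20000a9d227de84000373da169c080004b172403810000e08b6dfa020009cea365d404001c30180a500800051250ce0010015ce9781e00200ef3015c3000403aea83c7000080be423463c0010040eff4d000020a68c9b0d800043dfc84716000088da96e50800011c56a8f3b0000298e20428800006b35b1f64800025bef92fa1000000420c47a200006019a49fc40009cd9760cb080000082672d8100004801f975020005ab7b28e40400017df5a7a008027449c175801000707b17f8002007fadec3b00040149f5ba3e000823fd11427000101d07c6672000225055e53cc0004875d886690000810fe92e7c000111e441cb5000011860545840000304d4d7da80017cd506a1dd000568214557720001748d0e3ac40056612bcfe708021990ef30dc1005c8574de2b0201118a9625300401290718de700839efdb746780109ba2c1e8eb0021f76bf524380048c616e5deb00097b9f2148080016e819cebdf,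
    0x458bd5a8c69f06d647c29ca7ff89f105dc15e630570d1397786a7a031e333b6638abba72c81cdf2bba89cd49055e39b890eb184bc954d3dbf35dd8e6860854afb290f271b83ea7450bce7ba37bc03d07a4f5554d700e225c8a1728c53206508528055ae0d0883c41a1d51221ca286dd4fb1766befe9e0f475e0129e56a79c78e589df16c308e5e37c997a22a4de88215923229a13cbf627efe6b50909b079d68e94d19ec0e4fc6fd11cd15b5dcc690d8942b595d2d01f6b8b05d46f36c22e5f32e84100f83aa237ebdb44b2520c68c474de839183de9abe701eec1820f19cc5e1b76114f3f0b2d3b2108693dbeed51ce01a20d32a19725b940fb6dc8f83a34ee6ebd3a7388b98592e1eb9b402b5588301ddd8655e94500a3e66f7b64911052c541bd4cb38b5e97795a83bfc55d8fd667bbb4e454e5fef393ae00d9f39e3975b24eaf9d9f589e04940211dd1018759b7249a89f4f861370fe48027a8d4360d68cbdf8d6bc01d7e57c747174a26,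
    [([(0, [true]), (3, [true, true, true, true])], [0, 0, 0, 0, 0, 0, 0, 0, 0, 0, 0, 0, 0, 0, 1, 1, 1, 1, 1, 1, 1, 1, 1, 1, 1, 1, 1, 1, 1, 1, 1, 1, 1, 1, 1, 1, 1, 1, 1, 1, 1, 1, 1, 1, 1, 1, 1, 1, 1, 1, 1, 1, 1, 1]), ([(1, [true, true, false, false]), (5, [true, true]), (7, [true, false, false, true])], [1, 1, 1, 1, 1, 1, 1, 1, 1, 1, 1, 1, 1, 1, 0, 0, 0, 0, 0, 0, 0, 0, 0, 0, 0, 0, 0, 0, 0, 0, 0, 0, 0, 0, 2, 2, 2, 2, 2, 2, 2, 2, 2, 2, 2, 2, 2, 2, 2, 2, 2, 2, 2, 2]), ([(1, [true, true, false, false]), (5, [true, true]), (7, [true, false, false, true])], [1, 1, 1, 1, 1, 1, 1, 1, 1, 1, 1, 1, 1, 1, 2, 2, 2, 2, 2, 2, 2, 2, 2, 2, 2, 2, 2, 2, 2, 2, 2, 2, 2, 2, 0, 0, 0, 0, 0, 0, 0, 0, 0, 0, 0, 0, 0, 0, 0, 0, 0, 0, 0, 0])],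
    [0, 0, 0, 0, 0, 0, 0, 3, 3, 3, 3, 3, 6, 6, 6, 6, 6, 9, 9, 9, 9, 9, 12, 12, 12, 12, 12], [], [1, 1, 5, 5, 5, 5, 5]⟩

/-- the data of kind `4` -/
def c4b : Ce :=
  ⟨4, 15, 0x3842, 2, 5,
    0x800013ed7ef26100025261abdbc2000179410c8fc4002563481f81080016503d25dc10005744eb28d0200135b692ef404004519d14e50080019a2464f001001e4d20638002013fa65ee8c004005404e80b000800b517a76800100f94a61840002021d7195cc0004441d9adf0000043eb0287bc000093101a05000000cdf49859400000002a013e80000661a82a510002480616ff32000124d0e6338400221ae5670e080014ea3d18141000002dcad2c02009cedad4548040042aef57a100800461bf7fe001005ba325b4c002088aee4afd0004043ae75f290008106c56505c00104190299ac00020269b767780004001dfa7dd00004021548aa40000882162371000001acc1e3d800000056e68178049afbfe5a8e101040c30ad16220410c7f095170410699a6cb2380841297aa373001022c7db580ad02091f01a0ff4005225899be99200c1af53c9c55800a003b83ef4200111155b9a05c0014033211a500003a444d777040001408ea0546,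
    0xaf85e9850db7b36b79ce07628a3870a6b0298174f58da99eca2864a78ea2de6482445cfe909665456cdce174405bb9a3544372565425d9c1f0aa0bd3c1e10b9ed4b40c8b2d51910dc23e47ca4a97442eb0d699cad1757b9e2f25db61879821ef1ede3c8c09ae9cd82034ec9e6f65e05f8c6ab0ac12f5eb17f302b8b7ce84ce51cfeb8820348df229768943b8bd101b0ea3b7ee20cb9799bd8c904f022311c166de2de9a92bd983546249e0b5622d1f99167d5a6c1cb0daa4f7fc22256ae5b8b4a6d8afb24e0cc756763aba01636e610ce7acd2bcb17427cfa89c585c8d2d36dd8d328955f4671823ba636cbc2124861ce940f0789baeb2c193fe97f0cf5c96626333c74fe217cb8a4ab75d6d3f9905265fe173fb606ff6d6573d0b03be1ee33f1d8bd69fe5334f85b447d01e1e3ca66efe6cc0ecc6f10bb6cf4ef20f5bd07af0ffbc5f856b1d988c58e3a05c5de19e92454f10f2ba7254b734695a59a591e442be4f5904b75bf2b3ec906d3b4,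
    [([(0, [true]), (3, [true, true, true, true])], [0, 0, 0, 0, 0, 0, 0, 0, 0, 0, 0, 0, 0, 0, 1, 1, 1, 1, 1, 1, 1, 1, 1, 1, 1, 1, 1, 1, 1, 1, 1, 1, 1, 1, 1, 1, 1, 1, 1, 1, 1, 1, 1, 1, 1, 1, 1, 1, 1, 1, 1, 1, 1, 1]), ([(1, [true, true, false, false]), (5, [true, true]), (7, [true, false, false, true])], [1, 1, 1, 1, 1, 1, 1, 1, 1, 1, 1, 1, 1, 1, 0, 0, 0, 0, 0, 0, 0, 0, 0, 0, 0, 0, 0, 0, 0, 0, 0, 0, 0, 0, 2, 2, 2, 2, 2, 2, 2, 2, 2, 2, 2, 2, 2, 2, 2, 2, 2, 2, 2, 2]), ([(1, [true, true, false, false]), (5, [true, true]), (7, [true, false, false, true])], [1, 1, 1, 1, 1, 1, 1, 1, 1, 1, 1, 1, 1, 1, 2, 2, 2, 2, 2, 2, 2, 2, 2, 2, 2, 2, 2, 2, 2, 2, 2, 2, 2, 2, 0, 0, 0, 0, 0, 0, 0, 0, 0, 0, 0, 0, 0, 0, 0, 0, 0, 0, 0, 0])],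
    [0, 0, 0, 0, 0, 0, 0, 3, 3, 3, 3, 3, 6, 6, 6, 6, 6, 9, 9, 9, 9, 9, 12, 12, 12, 12, 12], [], [1, 1, 5, 5, 5, 5, 5]⟩

/-- the data of kind `5` -/
def c5a : Ce :=
  ⟨6, 21, 0x5e0408102, 2, 7,
    0x80000183317e25000ac983fc84220023382a76c90400258c9f9f3108000184e769e8100094536ec580202812571f750040858514843900821007cfd76001089a05bf117002085353f3bbc0048905d69828000a1182e26fc8001089d52ff9600013314dca774000108002d90000000f56e8a43c000000245014c800219c8e6a4350000fd1d5c071200202c861317c400026bb8e9fb080016cdccac881000479fad0a5020012090f720c0408ac14bd44c00800429d6e8b00100dc8d46b39002013607f11740040401fb0cd3000a06c35384b00018e8106f89300010f6659059400021008734be00005dc1be58b000000046ad0a0800102b60a8f21000421c541bb7200114b4c7f0ec40045b4ede54108012955a215b41004535bb8fde02011e10c735ac0404440b1ef4200812ce2f728040100cc02ae21500200c94ba02f400446e00197a200093ea3fa49f8001064df4a0680003278355b558000232df8a187000048600f12c00000002e49bdd,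
    0x9f0ed602d470559243275c80f378d357a0544522811d932b6c9b075cb0cdce36389827d0c21833fb4b204d0b6ef2dfc7d9683cb276b3fa482ea5f405c9d90572618118840e7beadfba710839855465d6cdadd87bba7433bbf04f0d4d3c566486ffd1fcbc11a13765888b7159afb8e356422e268dc1ca455a4de2c02d9578495e0a78060bc9257e1056f2d05db1413f7dfeb52c5a70711f70c1db21a6e64c4a8d7cc86de20ebcf5711ed81aa9da87f726410a1585e17259b3d9629fc394cf5703c3cc059f2dc95fbbe532bfa92673f5666c71d7ccce0c2ef909dd8402919d4f85d12cd8b36ba24cc12af56e716218da6b18bb494fe410ad40d50082919ff0afd568579b791f5b3c3fe93fad1015ddfad4921b8b2b95994048b8cbba23ad79e86e40cf307af10e574437d55bff1f82926f377942f5a3cab0c6b8f0b03047f4409f5d909365d38304b25c14adaabbea6ca030fb7ba256b0221542ea5d82e74e1aa9ec83771a4312e62dd5dd9b150,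
    [([(0, [true]), (3, [true, false, true]), (9, [true, true, false])], [0, 0, 0, 0, 0, 0, 0, 0, 0, 0, 0, 0, 0, 0, 0, 0, 0, 0, 1, 1, 1, 1, 1, 1, 1, 1, 1, 1, 1, 1, 1, 1, 1, 1, 1, 1, 2, 2, 2, 2, 2, 2, 2, 2, 2, 2, 2, 2, 2, 2, 2, 2, 2, 2]), ([(1, [true, true, true, false, true, false]), (5, [true, false, true, false, true, true]), (7, [true, true])], [2, 2, 2, 2, 2, 2, 2, 2, 2, 2, 2, 2, 2, 2, 2, 2, 2, 2, 1, 1, 1, 1, 1, 1, 1, 1, 1, 1, 1, 1, 1, 1, 1, 1, 1, 1, 0, 0, 0, 0, 0, 0, 0, 0, 0, 0, 0, 0, 0, 0, 0, 0, 0, 0]), ([(1, [true, true, true, false, true, false]), (5, [true, false, true, false, true, true]), (7, [true, true])], [2, 2, 2, 2, 2, 2, 2, 2, 2, 2, 2, 2, 2, 2, 2, 2, 2, 2, 1, 1, 1, 1, 1, 1, 1, 1, 1, 1, 1, 1, 1, 1, 1, 1, 1, 1, 0, 0, 0, 0, 0, 0, 0, 0, 0, 0, 0, 0, 0, 0, 0, 0, 0, 0])],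
    [0, 0, 0, 0, 0, 0, 0, 0, 0, 3, 3, 3, 6, 6, 6, 9, 9, 9, 12, 12, 12, 15, 15, 15, 18, 18, 18], [], [1, 1, 1, 1, 1, 1, 7, 7, 7]⟩

/-- the data of kind `5` -/
def c5b : Ce :=
  ⟨6, 21, 0x5e0408102, 1, 7,
    0x808029811d30010001868c39b9b20804ac35f00d842021ba5a536a08806fc3746cb81000850908c360280002b0811e00400040025b90004007824b5e98008a32098ed790010014110e6540029960925fa600064d624dc4a4000405046e2850000114130c474000000440d19e000000052b4ac000000002a013e8003374e808b05000e0593731a32000020dd98b7c4002648a31930080015a1d87f5010004509253100200ae000df18c04044400000000082244259e2ac0104900a55abb00228a62dc35880044450000000000b21015586f0001c0c0544f7600005023883738000000566609f00000000202220000000000888a800003a7fe15ed0882108dde7d020000687e5575848822290c231408002387477f941000120265881010000053022200200d00970e620040330421ac5c00400400292b10008342422288400104e8b7f4530002278001ac840004000b78451000043a42200f80000011bf4dcc000000164f190000000037f7517,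
    0x9541477ff09fe5a65ce7203328238dcbfb1fe42feac23a9e60462119d62f1faae52426e7f5487e57aaab8f0ca46ad1a32580100a32a0adbfd0ee7ed950a48305cf8b5ee3765215b8b1f8e2288acdd495de1845bb5e5f6ce6c1f9b023005a38409d712fd9b4094680111895de74e13be4a9b83ce3e2b12322fe7b4f968e70168ee2200acddc95de6e960590c792acc510e1343416d38dca9d4d9f76c8430adcce32a031d6c55f42459c10d0accdea77e35e48087136ba73de0a9d51929590618e3aea9e25abb089d8f88e06f9d4491e7f2d50ba00d0dd3f97a521c9047820759c85e20ea19cf0023404000244a924885d508dd7251e6961c8028a03a77861be54900252b370adb0bab4e849e9b74e46fbea310ec66eb0a28197cb8030104eb735adb0b68472f457dadd6a582a312c0a773fb2084ff1d8701232b772adb094983a2613c32a4a708811f68f89abb0acd8b10f500048044502449bdb9a88bf19ff00066b773aff41ad69005a1af55,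
    [([(0, [true]), (3, [true, false, true]), (9, [true, true, false])], [0, 0, 0, 0, 0, 0, 0, 0, 0, 0, 0, 0, 0, 0, 0, 0, 0, 0, 1, 1, 1, 1, 1, 1, 1, 1, 1, 1, 1, 1, 1, 1, 1, 1, 1, 1, 2, 2, 2, 2, 2, 2, 2, 2, 2, 2, 2, 2, 2, 2, 2, 2, 2, 2]), ([(1, [true, true, true, false, true, false]), (5, [true, false, true, false, true, true]), (7, [true, true])], [2, 2, 2, 2, 2, 2, 2, 2, 2, 2, 2, 2, 2, 2, 2, 2, 2, 2, 1, 1, 1, 1, 1, 1, 1, 1, 1, 1, 1, 1, 1, 1, 1, 1, 1, 1, 0, 0, 0, 0, 0, 0, 0, 0, 0, 0, 0, 0, 0, 0, 0, 0, 0, 0]), ([(1, [true, true, true, false, true, false]), (5, [true, false, true, false, true, true]), (7, [true, true])], [2, 2, 2, 2, 2, 2, 2, 2, 2, 2, 2, 2, 2, 2, 2, 2, 2, 2, 1, 1, 1, 1, 1, 1, 1, 1, 1, 1, 1, 1, 1, 1, 1, 1, 1, 1, 0, 0, 0, 0, 0, 0, 0, 0, 0, 0, 0, 0, 0, 0, 0, 0, 0, 0])],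
    [0, 0, 0, 0, 0, 0, 0, 0, 0, 3, 3, 3, 6, 6, 6, 9, 9, 9, 12, 12, 12, 15, 15, 15, 18, 18, 18], [], [1, 1, 1, 1, 1, 1, 7, 7, 7]⟩

/-- the data of kind `6` -/
def c6a : Ce :=
  ⟨6, 21, 0x5e0408102, 0, 7,
    0x8000106d0134d100004075004b72000003bd87488400041cca66ca0800100bbfbab010000023f56050200005ed319c8040001e6a4c75008000691b49200100411f04e4f002010010cd3cc00400126f0cc10008101cd23b00001000b0def1f0002004c35ec680004418e14baf000080624676c8000101000004300002024c41ea4000021800024100000446c9e86000000823dd18d00000108757d380000031f34e6f800000427030f9000001e0a59342000009c678bd840000256e549b080000989c4dc8100002c054147020000350c2bb0040000d290dd4008000198625d4010002f78c59d0020009fe5df480040027303c580008006c30d3e40010029d9a30a000200f889037c0004006ae0b1500008039a4746c000102880b20b000020475bcac000004380000210000081fedd64800001080000a6000002ca6d25440000065a5891381e44a081ad801035b00609945010bdaa0320e04026eaa0085ed50043d8a02cadc000b5b000e9d440,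
    0xd1f79051f78802c17013c1700808ab800aab800023e85127e850800f40379d75a3b6ef18d2ff18a808c02b48e02aa03f887af93c09cd0eff3c1ec29420056bbc4dc6349019d6a0580ef0be77023ca81b0592b2111763d88a6766b2357618a2352282c01d61f906df3ff2eb0d62842d69e8de173478d33f22a8134f3e2244e6b201c54d556a201952a54a4d49053c53718a0dbb7eb08800689645b8270adc03e912690034d80034dc0132d93a42f957ecf121f511a1dbfad43d3ad43a809cf8809cf88000a280d0a280a8052e07052e068000e5ca55f0751a5ef1c45ef1c2018063d18063a8042d84356587129ca92f9ae8ef4c01bb730586f30802cd305b9698bdf636cd2e454195518400f18e1be59da0eacc421f9ce983f3ae88d9a03cb8e83e52a0a00623c1cf869fafef82956f38e43e78802234c13bdded6b2cfcb3461933f3a88107333c558e846444d92547821105e039e1ae8c5480119040119400cf06de510eddbe0eda0306da011,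
    [([(0, [true]), (3, [true, false, true]), (9, [true, true, false])], [0, 0, 0, 0, 0, 0, 1, 1, 1, 1, 1, 1, 1, 1, 1, 1, 1, 1, 1, 1, 1, 1, 1, 1, 1, 1, 1, 1, 1, 1, 2, 2, 2, 2, 2, 2, 2, 2, 2, 2, 2, 2, 2, 2, 2, 2, 2, 2, 2, 2, 2, 2, 2, 2]), ([(1, [true, true, true, false, true, false]), (5, [true, false, true, false, true, true]), (7, [true, true])], [2, 2, 2, 2, 2, 2, 1, 1, 1, 1, 1, 1, 1, 1, 1, 1, 1, 1, 1, 1, 1, 1, 1, 1, 1, 1, 1, 1, 1, 1, 0, 0, 0, 0, 0, 0, 0, 0, 0, 0, 0, 0, 0, 0, 0, 0, 0, 0, 0, 0, 0, 0, 0, 0]), ([(1, [true, true, true, false, true, false]), (5, [true, false, true, false, true, true]), (7, [true, true])], [2, 2, 2, 2, 2, 2, 1, 1, 1, 1, 1, 1, 1, 1, 1, 1, 1, 1, 1, 1, 1, 1, 1, 1, 1, 1, 1, 1, 1, 1, 0, 0, 0, 0, 0, 0, 0, 0, 0, 0, 0, 0, 0, 0, 0, 0, 0, 0, 0, 0, 0, 0, 0, 0])],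
    [0, 0, 0, 3, 3, 3, 3, 6, 6, 6, 6, 9, 9, 9, 9, 12, 12, 12, 12, 15, 15, 15, 15, 18, 18, 18, 18], [1], [7, 7, 7, 7]⟩

/-- the data of kind `6` -/
def c6b : Ce :=
  ⟨6, 21, 0x5e0408102, 0, 7,
    0x800000632e80ad00000114b9f5f2000001d35836040000022268640800006a790ab4100001afd98520200002f2aec8c0400032833067008000a2fc24400100020f3c704002000db13004800400201b458400080029a075ac001001231d042000200c5ae5f60000400d31e292000080fd00b17c000103ddfa7bb0000205e846a94000042dec6243000008fe450d2c00001231ec49d00000214d611580000071f7eccb8000028826b17500000182e8c8d20000068d15930400001ae878b50800004a70a8281000022d4bed70200000539bd2804000027b5aba0080006fe98adc0100030c0007c00200285aca2cc00400a2fc6ed0000802ae74366c001002144f519000200471b5cc400040bac3944b000080600bd9780001091296002000022e633d3d80000423fd8eca000008c9c6b4e40000198bc77db00000109ee209c0000004448e0f8a8f8209f7b5413aca28315c1502c0aa009d651406078000034200010f2014f1404001a1000c3b200,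
    0xdd2b405d2b41030c512a0c512402330e80330e802df5e0a9f5e00071163ca53534d344948354948403e90c03c90c100cf3a0121a2a1c02b2e44c806c40b4e3ac0054a8bb1041ab02b39094ed5981586b55b79928107369afcf4df24181d5a9bae62085a819cf1bed421e858c73d1076bcf87139b089ceb85bf4975383d9e12b43fb09e08b8587463bebcc434b5aba1bebc60b90fd9427a7a05b473495ef911f0f39864405feea79f874f9d0ea505a9cc69a93601fb3a235d90235d9040b3082ab30828013a5e013a5e0004b27a24b27a101922d55279a5cbe891e2e891e0027ed70a7ed70404307686f65882570fad0fa1a718eef5051fbbcefd2f76f7b15efaae2a7ff9801d770eea882156506d56c35bdd43fa889e558f5ef32fc1b823b5558f247ebecd3ea4dd41d41276f97fb52f36b42abc54818cc5279e13fbb2ccfb8ee55ac6a8d96f78a2c6717bc357fe99e5d9421b6f00dbc50223b4533646a91762b70f4ed5ef26bf7e52bb42d42,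
    [([(0, [true]), (3, [true, false, true]), (9, [true, true, false])], [0, 0, 0, 0, 0, 0, 1, 1, 1, 1, 1, 1, 1, 1, 1, 1, 1, 1, 1, 1, 1, 1, 1, 1, 1, 1, 1, 1, 1, 1, 2, 2, 2, 2, 2, 2, 2, 2, 2, 2, 2, 2, 2, 2, 2, 2, 2, 2, 2, 2, 2, 2, 2, 2]), ([(1, [true, true, true, false, true, false]), (5, [true, false, true, false, true, true]), (7, [true, true])], [2, 2, 2, 2, 2, 2, 1, 1, 1, 1, 1, 1, 1, 1, 1, 1, 1, 1, 1, 1, 1, 1, 1, 1, 1, 1, 1, 1, 1, 1, 0, 0, 0, 0, 0, 0, 0, 0, 0, 0, 0, 0, 0, 0, 0, 0, 0, 0, 0, 0, 0, 0, 0, 0]), ([(1, [true, true, true, false, true, false]), (5, [true, false, true, false, true, true]), (7, [true, true])], [2, 2, 2, 2, 2, 2, 1, 1, 1, 1, 1, 1, 1, 1, 1, 1, 1, 1, 1, 1, 1, 1, 1, 1, 1, 1, 1, 1, 1, 1, 0, 0, 0, 0, 0, 0, 0, 0, 0, 0, 0, 0, 0, 0, 0, 0, 0, 0, 0, 0, 0, 0, 0, 0])],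
    [0, 0, 0, 3, 3, 3, 3, 6, 6, 6, 6, 9, 9, 9, 9, 12, 12, 12, 12, 15, 15, 15, 15, 18, 18, 18, 18], [1], [7, 7, 7, 7]⟩

/-- the data of kind `7` -/
def c7a : Ce :=
  ⟨6, 9, 0x260408102, 0, 1,
    0x8e4d050fcfa35d2067bcec23cd428778563c26e14784dc29b327ae85348532f3ea0901a90b2800740106aaac80d48580b05fee2af63f8000000021578d000000001bb7e200000002171f8400000009aa6b08000000262ea4100000000a0dd0200000027aa400400000098aec0080000000048001000000036dd0020000020cea4004000001a1d5000800000610c0001000009e67e000200002300dc00040000109580000800024cf340001000099d9e0000200024df9000004000807920000080001b31400001000933ec000002002159b400000400936e50000008005a39000000100845b60000002024dfb4000000408b5c10000000826fa68000000101baf300000002276f50000000049056d00000000a6ce800000000195577000000001014a0000000002ea118053903591ac210140562fddf19200a920111e0784025efc7cc5fc088932c020208c116d83d02c811021879f37992b004041184c41b50029a2ff9a81ec0018c414c24ad,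
    0x44f7eb7e2c77f2e8e1cb9368955c8e7413d38284a90ddf7420fb0738391da834082690cdd2adc8347c25ba6ff6f38f0ce1a3d7c4d28cf96887b12c01f3cc125fd4f1f996258a15154c2861fcdcaf3a28bf1a91f4cd6101aa59623dd6a9e617af2a078543192f1bd3a5f3c04a4623a3836423b8098c27277b5ce980aaeb5c961f78b68ded242c93067b9c0c5442b7980a86a291af060130d4b4e173b050eae2894a1fb0dc01b5cba648ed6d0c8114fea262189a660659f598fde224a3ae5fd189709d350eaf0696f193fc0661f80ac0532fcae84b6d04c07966901813945a0e91e7041b1167c289b05c1a3a3661d80222104af188e2d103dcde9b1298d0ebff8807e458a4bb6fee0fc2043194cfa44253e30aa150b3fe835200a961c5d791502a2de834882ac90813a104f656b1f29b6d2d2a18c0a0254b485c5292bf7d40a88926fecac9b22281810408a301c1a064316dbac28a41d4d44b14176cdc8c082e2328e4f0ee6128480e0cbb11036,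
    [([(0, [true]), (1, [true, false, false, true, false, false]), (3, [true, true])], [0, 0, 0, 0, 0, 0, 0, 0, 0, 0, 1, 1, 1, 1, 1, 1, 1, 1, 1, 1, 1, 1, 1, 1, 1, 1, 1, 1, 1, 1, 1, 1, 1, 1, 1, 1, 1, 1, 1, 1, 1, 1, 1, 1, 1, 1, 2, 2, 2, 2, 2, 2, 2, 2]), ([(0, [true]), (1, [true, false, false, true, false, false]), (3, [true, true])], [2, 2, 2, 2, 2, 2, 2, 2, 2, 2, 1, 1, 1, 1, 1, 1, 1, 1, 1, 1, 1, 1, 1, 1, 1, 1, 1, 1, 1, 1, 1, 1, 1, 1, 1, 1, 1, 1, 1, 1, 1, 1, 1, 1, 1, 1, 0, 0, 0, 0, 2, 2, 2, 2]), ([(0, [true]), (1, [true, false, false, true, false, false]), (3, [true, true])], [2, 2, 2, 2, 2, 2, 2, 2, 2, 2, 1, 1, 1, 1, 1, 1, 1, 1, 1, 1, 1, 1, 1, 1, 1, 1, 1, 1, 1, 1, 1, 1, 1, 1, 1, 1, 1, 1, 1, 1, 1, 1, 1, 1, 1, 1, 2, 2, 2, 2, 0, 0, 0, 0])],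
    [0, 0, 0, 0, 0, 1, 1, 1, 2, 2, 2, 3, 3, 4, 4, 4, 5, 5, 5, 6, 6, 7, 7, 7, 8, 8, 8], [3], [1, 1, 1, 9, 9, 9]⟩

/-- the data of kind `7` -/
def c7b : Ce :=
  ⟨6, 9, 0x260408102, 0, 1,
    0x887c85c25222e1017e28c55592c1046b74851054c0b5e816c32dc589ceee4cc3db652a8436ee8b1112cbfd68658c2e879e707165feb4800000008338790000000023ee72000000083eb484000000223ee1080000000a42801000000225b700200000088a4940400000022b900080000009aac0010000000be260020000083cdb0004000002d3300008000083ee1000100000021e4000200000a1560000400020fe150000800001f8c000010000238960000200083975c00004000032bb0000080001f854000010000f46a0000020001a744000004020746d0000008081f44c000001000f860000000208234700000004029da60000000888b19400000010036360000000203c980000000042be3f0000000043c8c0000000008cc6c00000000119dd40000000017a54808773c613ffbd0283995c60ec52085f7b3353980402be7ac150f508800115196428109c47dbf4aa5022bdbc5bbfefc06911cbca97cd0049a43436c61c0043ceb8cdae4,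
    0x82beaca78d09ab16388d41b894b7e04fec07049985237625d0ff54e9992a67f4bdec6e951548114616a6e886d90199a05ed658570bb30f002528527f12cc79bcc8fd6d85e5a215e546f7d3e0334dfcb0c4ffd1005ee3bfa5259ef63ef16c3393284c8189b71f8596c57b52ae2c842b461f85736f943f6b9b2534502c8f1a3316b510ff6eda1b0c03a029ea9fb928337053163cc7f7d51791a4c5de19867cf2d918bf0adc33324b779a0906ecc19779773248f7de04440cdb100156ad31af748a9bbfb1d4a204494941c61ed1bbc0c7291ebd28adf031f8c8e72178c130181f1611872376c6132e0d63153edec2a57f8da498c081fd2fc81cc6b1e28652c87fde99a970b3642eb8c686bd39567ef794e13b6b10a216d308d3ab78c4b286d4e770fcf496fe83d3e3e40c4737494b5a80fe7c62a1708e58c4d419a83009dcc07ea97962eb930b78a0f0743c30a595e08498388ce25d8e14710201576d4b9c1826332f36286da0f884045fea1183c,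
    [([(0, [true]), (1, [true, false, false, true, false, false]), (3, [true, true])], [0, 0, 0, 0, 0, 0, 0, 0, 0, 0, 1, 1, 1, 1, 1, 1, 1, 1, 1, 1, 1, 1, 1, 1, 1, 1, 1, 1, 1, 1, 1, 1, 1, 1, 1, 1, 1, 1, 1, 1, 1, 1, 1, 1, 1, 1, 2, 2, 2, 2, 2, 2, 2, 2]), ([(0, [true]), (1, [true, false, false, true, false, false]), (3, [true, true])], [2, 2, 2, 2, 2, 2, 2, 2, 2, 2, 1, 1, 1, 1, 1, 1, 1, 1, 1, 1, 1, 1, 1, 1, 1, 1, 1, 1, 1, 1, 1, 1, 1, 1, 1, 1, 1, 1, 1, 1, 1, 1, 1, 1, 1, 1, 0, 0, 0, 0, 2, 2, 2, 2]), ([(0, [true]), (1, [true, false, false, true, false, false]), (3, [true, true])], [2, 2, 2, 2, 2, 2, 2, 2, 2, 2, 1, 1, 1, 1, 1, 1, 1, 1, 1, 1, 1, 1, 1, 1, 1, 1, 1, 1, 1, 1, 1, 1, 1, 1, 1, 1, 1, 1, 1, 1, 1, 1, 1, 1, 1, 1, 2, 2, 2, 2, 0, 0, 0, 0])],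
    [0, 0, 0, 0, 0, 1, 1, 1, 2, 2, 2, 3, 3, 4, 4, 4, 5, 5, 5, 6, 6, 7, 7, 7, 8, 8, 8], [3], [1, 1, 1, 9, 9, 9]⟩

/-- the data of kind `8` -/
def c8a : Ce :=
  ⟨6, 9, 0x260408102, 0, 1,
    0x897d3fd6b887c9257a1856e5da9206d75241b2a90603e2dec16195046fde6a3ca59802d0869036ba980b46e219c72b90c7d9b95e7982213d5f200c56d02a4367a4f684c0611fabc9ca378018ada10aff4d80000000164df10000000119a172000000054a7b84000000003d060800000006fd481000000103d0602000000123bfc0400000012ec600800000100e700100000109fd7002000005057c4004000004a9ba00080000443f7c00100000405320002000010585000040001408cf000080000672500001000048ad40000200052ed4c000040001a34c000008005019e400001000100b50000020012fe0000000401497170000008016e970000001010be5c0000002052cd040000004059f3f0000000850d1b40000001103145000000025014a0000000054b24600000000822f5c00000000881bf000000000e9ab80000000004bee8814401d41d441098da844e6710207988003b144060c000138851006b18803eb254007628810d0950,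
    0x5265d64401a903e12daf9007c80f43de862a00d006df0ca320100007582568e18d47af42114a812c0170d910a21bf03ef82c27b50ec48268ddc32bf882a7a009d187411a7b5551708e01246ebae02506155b3d5e4d7ee44cec84ef5c104b8917bc96a588261d976edb4288c80a60196f107485874fb0d1e6a4fe8feeef5a7b02c0315cdbf37d9e6b389254ba39277238d2c794506d9c66b624f6ed2c0225592235cc5eb96dbe50b16bf63f2898f18d89417baa81a1ae1fa750300045c0b15f8f2c809b031c814b5a86d4086d22b2401c50085b1e7be223e861726cf0005903c2b7db78802c0b251c4962c2e2efa7f8846f39f8ce2ea301a8d0a2ee5c25172138b6fe0c82125418cae1c6807ad2afa3108c316a3761ba909921d7ea079b10da71d97055a4ee848d1c31890d63d875d31189b6898711acf014f9d27715ab37e078604a4b48b418980dead332566dd53e169924806bf9587c1282d168659566a790c32cb7279b813243b01c9bbd8,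
    [([(0, [true]), (1, [true, false, false, true, false, false]), (3, [true, true])], [0, 0, 0, 0, 0, 0, 1, 1, 1, 1, 1, 1, 1, 1, 1, 1, 1, 1, 1, 1, 1, 1, 1, 1, 1, 1, 1, 1, 1, 1, 1, 1, 1, 1, 1, 1, 1, 1, 1, 1, 1, 1, 2, 2, 2, 2, 2, 2, 2, 2, 2, 2, 2, 2]), ([(0, [true]), (1, [true, false, false, true, false, false]), (3, [true, true])], [2, 2, 2, 2, 2, 2, 1, 1, 1, 1, 1, 1, 1, 1, 1, 1, 1, 1, 1, 1, 1, 1, 1, 1, 1, 1, 1, 1, 1, 1, 1, 1, 1, 1, 1, 1, 1, 1, 1, 1, 1, 1, 0, 0, 0, 0, 0, 0, 2, 2, 2, 2, 2, 2]), ([(0, [true]), (1, [true, false, false, true, false, false]), (3, [true, true])], [2, 2, 2, 2, 2, 2, 1, 1, 1, 1, 1, 1, 1, 1, 1, 1, 1, 1, 1, 1, 1, 1, 1, 1, 1, 1, 1, 1, 1, 1, 1, 1, 1, 1, 1, 1, 1, 1, 1, 1, 1, 1, 2, 2, 2, 2, 2, 2, 0, 0, 0, 0, 0, 0])],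
    [0, 0, 0, 1, 1, 1, 2, 2, 2, 3, 3, 3, 4, 4, 4, 5, 5, 5, 6, 6, 6, 7, 7, 7, 8, 8, 8], [], [9, 9, 9]⟩

/-- the data of kind `8` -/
def c8b : Ce :=
  ⟨6, 9, 0x260408102, 0, 1,
    0x8101690623400d016da51379c1020b1159380ab2446ac57960f1820aedb24b63b9dc190a5e7d56d938aea632f42702d21e313bf8c0ff2291befc23c36c43ebedb77ff3604169cdc00632404740913cd10380000000811d8900000000036e020000000804058400000020bf1608000000827f241000000201016020000008000000400000211d950080000082557c010000001ad3f002000008583d8004000020ba5d0008000086ba700010000213eca0002000006ef5400040000001100000800087b70c000100020115f0000200087963c0000400014daf0000080001282c0000100013c310000020087b27c000004000494800000080003c7c000001000585500000020079614000000400ce940000000885d3d800000012000000000000204ce500000000413d3d000000004040580000000089456000000001746780000000026b2b85ac8007000c41052b806f1ef0020b62a1a4bd8005355a00136e400c63200db3fd4009b7200b5c500,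
    0x35fc840880f703f1ea479005700534a398200c40205f32232073408c186de86946054d21e608031000996319ca1ca0346417111f896fd3853e30e984662c2e6ed7a2d3c0d670adac908223d80147b2dc17fc984faf94ce5d63579840c9f0d72b9d79ca621437e09a1ea5030720786e2fa79fb77c09285f6984f1f8038cc3042fe3c91d251f0c02771e37e13300575f20d4339d1e85ba22128100898d0a0a0720a2acb272d6da7283064bfcc74925837415900bf4a848923df758005980069af2448008002658467286280336e764c005f0242e8623f213450996119ca1ca016b78a07a841803ad117fb6c2294eeb14e6df4ac76835902da1c2368f60829727ab5921bc2a7f971a41c99ec73a73695283f00096c5c65585106a0c5379ba0718c94467a7a72fa132a53f983345812223ae3e8924824931293b183d114bd69b2210f1bfb373c20a1eec164aed40808528190154b84286a8380ea0d513325fb5851ccb01875a8c9c93914474d6914,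
    [([(0, [true]), (1, [true, false, false, true, false, false]), (3, [true, true])], [0, 0, 0, 0, 0, 0, 1, 1, 1, 1, 1, 1, 1, 1, 1, 1, 1, 1, 1, 1, 1, 1, 1, 1, 1, 1, 1, 1, 1, 1, 1, 1, 1, 1, 1, 1, 1, 1, 1, 1, 1, 1, 2, 2, 2, 2, 2, 2, 2, 2, 2, 2, 2, 2]), ([(0, [true]), (1, [true, false, false, true, false, false]), (3, [true, true])], [2, 2, 2, 2, 2, 2, 1, 1, 1, 1, 1, 1, 1, 1, 1, 1, 1, 1, 1, 1, 1, 1, 1, 1, 1, 1, 1, 1, 1, 1, 1, 1, 1, 1, 1, 1, 1, 1, 1, 1, 1, 1, 0, 0, 0, 0, 0, 0, 2, 2, 2, 2, 2, 2]), ([(0, [true]), (1, [true, false, false, true, false, false]), (3, [true, true])], [2, 2, 2, 2, 2, 2, 1, 1, 1, 1, 1, 1, 1, 1, 1, 1, 1, 1, 1, 1, 1, 1, 1, 1, 1, 1, 1, 1, 1, 1, 1, 1, 1, 1, 1, 1, 1, 1, 1, 1, 1, 1, 2, 2, 2, 2, 2, 2, 0, 0, 0, 0, 0, 0])],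
    [0, 0, 0, 1, 1, 1, 2, 2, 2, 3, 3, 3, 4, 4, 4, 5, 5, 5, 6, 6, 6, 7, 7, 7, 8, 8, 8], [], [9, 9, 9]⟩

/-- the data of kind `10` -/
def c10a : Ce :=
  ⟨12, 39, 0x78f800400200100080040020010008004002, 0, 13,
    0x80000077c223ed00000523d76ed2000014b27fbf0400001f0b0fc60800001180323010000460fb8c40200007747c01c040000404fde60080002174d3dc010001bc31c360020006dd8e49400400412dd2db0008000a69a5bc00100168c05e80002001fe4a71800040548610aa000081664ee24400010141bdcc50000215b839e8c000040b5c43f50000095deb720c000014946dd6f0000035adcd478000003df6dbf180000076f25eb90000018afc9522000006908e5dc4000119663b9f0800042f6ccb2c10001063f2b8602000044edefd4040001253422d00800058ec2d94010010590791b00200062486bec004011e32e4170008002e9264500010009a4b7a50002043123d020000400af28e240000847db8905400011189a57d5000020692945900000515a44609000008486f68200000083a98bab0000013da0676800000294076b88c30908bc4da91032bc381b8ddd2c7ed874338194713f6e70425c002a3ffe63c68f4074911392c067,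
    0x78821b66b663694d0bb9e5f442642dac2be83e6fac414e226871f753eb30eb4fe7f84b020d12fd75be037a907da422baeab27e2eb4ccc31ea5fbf1d9de7223c2f4211ec23c5bb196147cc9a494781fe480592cd47f3c54a37f3b97fbabb6293835ba34c09f513dafe78bd497d007381cb90f129575c2d349112579f15450677408daeb8047a7aa99b489adbf83e0fb483772fc56bfaa4ee18c9b5bb1c591f771ba5407eb203c5f94d18541f59a92e490b0541c80c18305ea77c8e88cff1c1ccc0228f36291581ac4e639b35450b2861005974f319006201234e85ecc55cce4ccaf4cabaca9d5be6794a6d444ed6db319093fd4e2c103da6597f96921f91db1419d579b3ccb94a5601a41aa51a0eb57b3c394bab81b017e6447373d94613847a538ddb92c05c813784f768bc86410c7542171182d31cc63b851ae9073c65498865e1778257a1ee85b7acd8a83297e06b8763916b8f5ecdac16976dc6a5d190187947a6db2cbb7e0d3206966d6,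
    [([(0, [true]), (3, [true, true, true, true, true, true, true, true, true, true, true, true])], [0, 0, 0, 0, 0, 0, 1, 1, 1, 1, 1, 1, 1, 1, 1, 1, 1, 1, 1, 1, 1, 1, 1, 1, 1, 1, 1, 1, 1, 1, 1, 1, 1, 1, 1, 1, 1, 1, 1, 1, 1, 1, 1, 1, 1, 1, 1, 1, 1, 1, 1, 1, 1, 1]), ([(1, [true, true, true, true, false, false, false, true, true, true, true, false]), (7, [true, false, true, true, true, true, false, false, false, true, true, true]), (13, [true, true])], [2, 2, 2, 2, 2, 2, 0, 0, 0, 0, 0, 0, 0, 0, 0, 0, 0, 0, 0, 0, 0, 0, 0, 0, 0, 0, 0, 0, 0, 0, 1, 1, 1, 1, 1, 1, 1, 1, 1, 1, 1, 1, 1, 1, 1, 1, 1, 1, 1, 1, 1, 1, 1, 1]), ([(1, [true, true, true, true, false, false, false, true, true, true, true, false]), (7, [true, false, true, true, true, true, false, false, false, true, true, true]), (13, [true, true])], [2, 2, 2, 2, 2, 2, 1, 1, 1, 1, 1, 1, 1, 1, 1, 1, 1, 1, 1, 1, 1, 1, 1, 1, 1, 1, 1, 1, 1, 1, 0, 0, 0, 0, 0, 0, 0, 0, 0, 0, 0, 0, 0, 0, 0,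 0, 0, 0, 0, 0, 0, 0, 0, 0])],
    [0, 0, 0, 3, 3, 6, 6, 9, 9, 12, 12, 15, 15, 18, 18, 21, 21, 24, 24, 27, 27, 30, 30, 33, 33, 36, 36], [], [1, 13, 13]⟩

/-- the data of kind `10` -/
def c10b : Ce :=
  ⟨12, 39, 0x78f800400200100080040020010008004002, 0, 13,
    0x800000077ba4590000163c34ecb20000198f0014c400004421a87b0800008ef451901000167aaccde0200050ca22be40400104f5c70e00800410b41b700100163e79c070020010de208300040126a7df710008049ba231800010025698b6e00020582223e080004023187bdf0000818f01b6c40001143eb86a00000211dfdca100000524c457b400000c1924552400000c35bc90600000059ce6950000000a1a666c80000054c303dd0000037715c35200000d11df738400001eca06b6080000356796e810000257703f6020000b8319b980400019c86436008000104dc9c0010000daa46f50020000ab461240040031faec81000800311a16c0001002f8331290002000a28f924000401d2db47d0000805272750c00010155ab5500000208b335840000042ab9c4b0000008f2f00918000013d80b61b00000214140400000007a0dc74189b70082c2f0e907fc40021861c208b0011fb91e041f023137047c0430c388b9fa70096d307e47ede,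
    0xbc56603c56650094b09d47afb0e6809d5a2918fe782a582cc34f51cc732987d77446dc6383db5cc927514aece54a7b26e662bae4645c976d489186c30db37f45b27f540a3b69f6fee4dcbfc3da2f2ecd114a9d002fd1d76a3aba227b5a04401a519cddfcac9931cbcdc79fd5df1981c90e861ff85a99de879e02e9bdbe6d3ecc0f51c59e22355225785a01c39229f69338f802491f79c446a678a9a8f5c025c4328eaa53fc075f3da81bb636feb60acd7d8384a23f399f09519f0951c0baf927560af4eb0e5f428b8f058420419babb00f04725e7a5d993c95e157d41e424348f009b45e1efa3fa880ef64ba81618bef3189accc3f46cc3f420129f0c4765299720d112d86e08f0a2ba8b9a34eb3e699fdc079712ea34bfbfce9a17ac46ad72193cdfbddcf1c35ee27bdd948abcece1c1f533057ce385c1aa0a80551941530c527b413b1094b7bf1f464f0e60ff532ec81ef573c3198016eb92e954e2fa2368c3eb7331531be1e3b93cad8f1e,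
    [([(0, [true]), (3, [true, true, true, true, true, true, true, true, true, true, true, true])], [0, 0, 0, 0, 0, 0, 1, 1, 1, 1, 1, 1, 1, 1, 1, 1, 1, 1, 1, 1, 1, 1, 1, 1, 1, 1, 1, 1, 1, 1, 1, 1, 1, 1, 1, 1, 1, 1, 1, 1, 1, 1, 1, 1, 1, 1, 1, 1, 1, 1, 1, 1, 1, 1]), ([(1, [true, true, true, true, false, false, false, true, true, true, true, false]), (7, [true, false, true, true, true, true, false, false, false, true, true, true]), (13, [true, true])], [2, 2, 2, 2, 2, 2, 0, 0, 0, 0, 0, 0, 0, 0, 0, 0, 0, 0, 0, 0, 0, 0, 0, 0, 0, 0, 0, 0, 0, 0, 1, 1, 1, 1, 1, 1, 1, 1, 1, 1, 1, 1, 1, 1, 1, 1, 1, 1, 1, 1, 1, 1, 1, 1]), ([(1, [true, true, true, true, false, false, false, true, true, true, true, false]), (7, [true, false, true, true, true, true, false, false, false, true, true, true]), (13, [true, true])], [2, 2, 2, 2, 2, 2, 1, 1, 1, 1, 1, 1, 1, 1, 1, 1, 1, 1, 1, 1, 1, 1, 1, 1, 1, 1, 1, 1, 1, 1, 0, 0, 0, 0, 0, 0, 0, 0, 0, 0, 0, 0, 0, 0, 0,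 0, 0, 0, 0, 0, 0, 0, 0, 0])],
    [0, 0, 0, 3, 3, 6, 6, 9, 9, 12, 12, 15, 15, 18, 18, 21, 21, 24, 24, 27, 27, 30, 30, 33, 33, 36, 36], [], [1, 13, 13]⟩

/-- the data of kind `11` -/
def c11a : Ce :=
  ⟨4, 15, 0x3842, 0, 5,
    0x8127982b959af10644f1e065a4b28b7ed2dc7ec7c62838a7bda5de0591abfd0e00d80a12ef01440ca00714fa3f72a0400328a01425de85b32fdef51a39040fc969b316324b31a7fadcf3c548eae55dbe930833f256db4d8c0a105601445ed00714fe3f289880032a081420ac72869c8f79530025301239434e466a0d8017300902e6012369c6e48040ad4905bc5920b78b6436a7c1d1762c3f9f8f00b62950e8bb16853a800af4510121b503682056c1d176d43f9f9180b62960e8bb6a84324ccb9df0e504c00016ce2002d039e7332052c74c4598fe270b0217cbfea61898024dcf7bdc68a00714f23f7207c0032b681425c18590e19e5b3f0d045cc1e4f8c8f24b0d1dc59dfc0405c19d89b9b10d0700358b5af00a106701445f000714023f283f000329f01420ce6105948121df4044170036803500900320d016cd01417120e877b40284948050cb000142400e9b42400347680fd374000301201424e40002c480514a900000200007600,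
    0x74aa000702e003e12027d03a000db26b689fe2bbb6d1c3de7e4c00322900865e2738c83efdee9eeeecaede00fabde7b579bacd623f0e7062298512f088460c3fc5665ce7429098652e7ec3a1f9d462158c1720756053bf5b7e022636e62c81d01c8a0c02fe5d4c484998abfe56323ce432bdaf328f5133e8b1b6964467696525756835137a871b3d5778a2b4cf2c892ca28d143fa3b4e7983b4a8c095272e89537df1c07e001c077780c678880c65de05050330d050015e94002bd5400e9610682571002778bbdd571b9e9dcb09f555f002312001d0319fb8caae9f302ee7995b940054297067c1551cb418f148c459cdd4405f8ed098efe87ed5d2019d015435fae85dceef606f83eebb7c790cb98f5c678decee87c11110347094535312351502549d2ca28d153fe7d167ce6e0cf4520a23fd34b36b670e7ce7c14f45c99e911d5915b7079144777a2d1a9e299dadf56e6c6545465602c06c754004c7431191f533111f0c40404044040400,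
    [([(0, [true]), (1, [true, true, false, false]), (3, [true, true, true, true]), (5, [true, true]), (7, [true, false, false, true])], [0, 0, 0, 0, 0, 0, 0, 0, 0, 0, 1, 1, 1, 1, 1, 1, 1, 1, 1, 1, 1, 1, 1, 1, 1, 1, 2, 2, 2, 2, 2, 2, 2, 2, 3, 3, 3, 3, 4, 4, 4, 4, 4, 4, 4, 4, 4, 4, 4, 4, 4, 4, 4, 4]), ([(0, [true]), (1, [true, true, false, false]), (3, [true, true, true, true]), (5, [true, true]), (7, [true, false, false, true])], [3, 3, 3, 3, 3, 3, 3, 3, 3, 3, 2, 2, 2, 2, 2, 2, 2, 2, 4, 4, 4, 4, 4, 4, 4, 4, 1, 1, 1, 1, 4, 4, 4, 4, 0, 0, 3, 3, 1, 1, 1, 1, 1, 1, 1, 1, 2, 2, 2, 2, 2, 2, 2, 2]), ([(0, [true]), (1, [true, true, false, false]), (3, [true, true, true, true]), (5, [true, true]), (7, [true, false, false, true])], [3, 3, 3, 3, 3, 3, 3, 3, 3, 3, 4, 4, 4, 4, 4, 4, 4, 4, 2, 2, 2, 2, 2, 2, 2, 2, 4, 4, 4, 4, 1, 1, 1, 1, 3, 3, 0, 0, 2, 2, 2, 2, 2, 2, 2, 2, 1, 1, 1, 1, 1, 1, 1, 1])],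
    [0, 0, 0, 0, 0, 1, 1, 2, 2, 3, 4, 4, 5, 6, 7, 7, 8, 8, 9, 10, 11, 11, 12, 13, 13, 14, 14], [3, 5], [1, 1, 1, 1, 1, 15, 15]⟩

/-- the data of kind `11` -/
def c11b : Ce :=
  ⟨4, 15, 0x3842, 0, 5,
    0x817ec8075e4901208244b92a604203eac37d1e528611a6480000040503a943f9e9ac083190f77490a0086193d7d51100000020c234cd8186ec8e3c7cf50328e51092d922105ba6f3d2ad84031b2d857993080ab175113cf01445c903cea18028c3140a22e480080208c036ee81dcd48910c18122183064ad6c49982948918108123021068a1084887e081a08d00114e4db45455831d01bec05e970c0bd2e18ffa8358d476eb959879915ff9ac9591a61d01eea05e96980bd2d30ffaad3814064a40fa65d20b297b87dbbc207d32f427aac8611b1580000610503f6c0f13ae0099810f60904a00ec25fd223ff00000308c2364a81d8400d61800103182491c54642106ed8ccbbe9c411820591a600084085b54249241445c503ce882028c6100a22e280080120c0346d8481020a19b54122464a6b55bf41810c0000cd1000a055a0161b300040148004008000801000300840008508306ca900012d20d4ce7000022400542a500000200007600,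
    0xb6d30ea963300342fc218b364003691a6cbf23bb8919c003f68c0000d80ecd10023cd82d5b2fd25e7d0d8a862c7abbabb8b3d4defe9a8cef8e07e5725a4a4419a4e4036d0d80ecd1d923ec7aa51e9ba7594c578135d4ea13f0d92e3b0d96baea0e32a1bf5761c7c2663c7059ce19899c11e8c96d316292d508f0133bb8172b48549202290d40a9dec6aeccede00343043b30764afa12bdffa92e8caa4a4b7680b2bb101900010190005c0bc445c08891e07a221f072be03f41b0a72400420b0ea4749002db6161a59e9e7504200005100000124199080036b6b4f869690c2509257a91d65e79f2d858b80f5b31a6d183562c9ed0d808ad1d92e509241990924369885799889caf216290ca1629530ccaccd15d7d867c22486443fd82e030de371f32950053790c6ddd9c8ffec8c970d84751b346343c593890ec82912fd5549599514c004248066434909a6736d527f39dd87c914580ca5c804040000404001904a3318042bc5869444586826,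
    [([(0, [true]), (1, [true, true, false, false]), (3, [true, true, true, true]), (5, [true, true]), (7, [true, false, false, true])], [0, 0, 0, 0, 0, 0, 0, 0, 0, 0, 1, 1, 1, 1, 1, 1, 1, 1, 1, 1, 1, 1, 1, 1, 1, 1, 2, 2, 2, 2, 2, 2, 2, 2, 3, 3, 3, 3, 4, 4, 4, 4, 4, 4, 4, 4, 4, 4, 4, 4, 4, 4, 4, 4]), ([(0, [true]), (1, [true, true, false, false]), (3, [true, true, true, true]), (5, [true, true]), (7, [true, false, false, true])], [3, 3, 3, 3, 3, 3, 3, 3, 3, 3, 2, 2, 2, 2, 2, 2, 2, 2, 4, 4, 4, 4, 4, 4, 4, 4, 1, 1, 1, 1, 4, 4, 4, 4, 0, 0, 3, 3, 1, 1, 1, 1, 1, 1, 1, 1, 2, 2, 2, 2, 2, 2, 2, 2]), ([(0, [true]), (1, [true, true, false, false]), (3, [true, true, true, true]), (5, [true, true]), (7, [true, false, false, true])], [3, 3, 3, 3, 3, 3, 3, 3, 3, 3, 4, 4, 4, 4, 4, 4, 4, 4, 2, 2, 2, 2, 2, 2, 2, 2, 4, 4, 4, 4, 1, 1, 1, 1, 3, 3, 0, 0, 2, 2, 2, 2, 2, 2, 2, 2, 1, 1, 1, 1, 1, 1, 1, 1])],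
    [0, 0, 0, 0, 0, 1, 1, 2, 2, 3, 4, 4, 5, 6, 7, 7, 8, 8, 9, 10, 11, 11, 12, 13, 13, 14, 14], [3, 5], [1, 1, 1, 1, 1, 15, 15]⟩

/-- the data of kind `12` -/
def c12a : Ce :=
  ⟨4, 15, 0x3842, 0, 5,
    0x86328816ca9901269deaf5ac36224cd9efffe765452af7bbce09d58d41163a573e492dd778fa7fd922646401c0e51005234e93cdf5236452c0028e910051d2203813240096a1c8e5a8a000bc8600ff6464642648028a5800514b00383a440094c048e50d3900bc8520ff66808006dfe808d3d50019f2e81a94a100630a209bf8c2018cc8816d6004067ca0c6a5280803bd0a05b160102b72035ef2402194a84b26a30040e2020ead000082c9840a9df001308c30304b0002cbb0039ac58006696b0dbfe10019c2601ab99100674a00d64dc2018ae8005bd404066963cdbfe00800678e2c46101020b623482e00254080c81510005536a001719c00d5ab0c35c7c000b7a8101aa240003d98429f5b8654c816ccc80126859975a55a724bf1abff8e4c852364abcc9f728d01467a5b3fc52dcf39fa769b12634c81c08c80052add8bcf638285070009f094413549886bdc9501d344003fd88000b5b000e9d440000ec00001d9000000200007600,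
    0x3200480880be02f002b4c34a08002848a72670e0000020d28d40003e005387933e28f2132d3bd6c80824ca408803e006eda2cf165614fa69e45c8f133a30037cf96230a3e00858bac3e34667f00dc1352a828880c50882cb13f93e9d724495d25bae0f8c5b646ea22cf5356e1b53054ea4d6f23b3341ac22398d6db5d90727d485b3342ac10598bc8870cc08bca49265033c20929bc8866fe97bc923ffd5bb8ca3eecd66000000cd037198fc815f70a66000513ae66363803b01300f003200667267be003931bd0ad4300000041341200023003c533b630d824cad38523e02fb2120130230074e16daaab9dd34c4ee2af0de46b200858bacb23630016ad7d23077a32903f072f66f911c13016fa85f25c55faec732576d3e0549613c7e95cd0662849d2e8abe7c486ebc88a0a700bcc487fb5a0e7197c718890640c71c4c91341ac20c98ff33d0ab04ff60c913aea3bcc9fbb22eb8b12bb49544400000154022110513ae22344400e8cfe4447,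
    [([(0, [true]), (1, [true, true, false, false]), (3, [true, true, true, true]), (5, [true, true]), (7, [true, false, false, true])], [0, 0, 0, 0, 0, 0, 1, 1, 1, 1, 1, 1, 1, 1, 2, 2, 2, 2, 2, 2, 2, 2, 2, 2, 2, 2, 2, 2, 2, 2, 2, 2, 2, 2, 2, 2, 2, 2, 3, 3, 3, 3, 3, 3, 3, 3, 4, 4, 4, 4, 4, 4, 4, 4]), ([(0, [true]), (1, [true, true, false, false]), (3, [true, true, true, true]), (5, [true, true]), (7, [true, false, false, true])], [3, 3, 3, 3, 3, 3, 2, 2, 2, 2, 4, 4, 4, 4, 1, 1, 1, 1, 1, 1, 1, 1, 1, 1, 1, 1, 4, 4, 4, 4, 4, 4, 4, 4, 4, 4, 4, 4, 0, 0, 0, 0, 3, 3, 3, 3, 1, 1, 1, 1, 2, 2, 2, 2]), ([(0, [true]), (1, [true, true, false, false]), (3, [true, true, true, true]), (5, [true, true]), (7, [true, false, false, true])], [3, 3, 3, 3, 3, 3, 4, 4, 4, 4, 2, 2, 2, 2, 4, 4, 4, 4, 4, 4, 4, 4, 4, 4, 4, 4, 1, 1, 1, 1, 1, 1, 1, 1, 1, 1, 1, 1, 3, 3, 3, 3, 0, 0, 0, 0, 2, 2, 2, 2, 1, 1, 1, 1])],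
    [0, 0, 0, 1, 2, 3, 3, 3, 4, 5, 5, 6, 6, 6, 7, 8, 9, 9, 9, 10, 10, 11, 12, 12, 12, 13, 14], [1], [3, 5, 5, 15]⟩

/-- the data of kind `12` -/
def c12b : Ce :=
  ⟨4, 15, 0x3842, 0, 5,
    0x83523d0dc1f5392a29f466a1d4e201e3d00937d38126fa71242ea69b0c000d9a88012b30c56aa8b922289324092286012450c130c38a9982948918108123021068a10840504c400f34a100a7a52028262081dcd48910c18122183064ad6c405049480f341800a7a6202824a4800178705391d50000bec420aef200157c7dbba684081dba96ef9b0820796a57b5f0108484dc001010283821000d54004873a5d4adae00605ce30c0a6c00471643c53b700086330f28044001f49800cd3580032003a86041000af307ea4d3200000148000004008856a8111a08027edaac4e64100c801ea1810028abf80f27b24040afb1feb5d90042c353f6b968008a4cc3eae250018f86003e0d4001ffb000c7c3998621cd3af6d92b28876aa1fb6231d9704a24c38183fdb118ecb881d8400d6180012a318466a8b8a21806104f0a62818154110c03088ab702195fac410088804960a101810c0000cd100019a000c3c440000ec00001d9000000200007600,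
    0x709f0900019c02e3ea3ef80076dfc6dc60e02a000d029031800f00e626e7702c3febf1b7182006f6d8cfa8fb800001d8663901b7e6b39bcb87ec1e9c017d11ded846f00d59d567e2c3ff41723e03a31c56ca707485c577be3c35f065e0767c5798406680003b59fc802b29569df4d3e4f605115e13e170b2323eaa602239171555e13e204bbb885af5af33019aed69d68fb803112639b1512f408c1912ba4c3699001801809900cc88760744884223300e18d332c0003f1bf18000cf00a4974978003fea33ea3c2006700d40840be0020022d30df00408978cfa8f060323e9c25d25d80000d14c7550e52f1449c4fba2ce6f008d68d07e3f20010ad0a3204089a9df52208dcebbf6220a9bd8e9b9524dae24943ff422e6bc3aa0000645ae500c853be60f61635273cc40b401fb1048c5e6eae0c79eaee40b40162115510420420440cc5508008488008c8e5375288d20110895c9b1059100002003110022331a502d333c444463c608444,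
    [([(0, [true]), (1, [true, true, false, false]), (3, [true, true, true, true]), (5, [true, true]), (7, [true, false, false, true])], [0, 0, 0, 0, 0, 0, 1, 1, 1, 1, 1, 1, 1, 1, 2, 2, 2, 2, 2, 2, 2, 2, 2, 2, 2, 2, 2, 2, 2, 2, 2, 2, 2, 2, 2, 2, 2, 2, 3, 3, 3, 3, 3, 3, 3, 3, 4, 4, 4, 4, 4, 4, 4, 4]), ([(0, [true]), (1, [true, true, false, false]), (3, [true, true, true, true]), (5, [true, true]), (7, [true, false, false, true])], [3, 3, 3, 3, 3, 3, 2, 2, 2, 2, 4, 4, 4, 4, 1, 1, 1, 1, 1, 1, 1, 1, 1, 1, 1, 1, 4, 4, 4, 4, 4, 4, 4, 4, 4, 4, 4, 4, 0, 0, 0, 0, 3, 3, 3, 3, 1, 1, 1, 1, 2, 2, 2, 2]), ([(0, [true]), (1, [true, true, false, false]), (3, [true, true, true, true]), (5, [true, true]), (7, [true, false, false, true])], [3, 3, 3, 3, 3, 3, 4, 4, 4, 4, 2, 2, 2, 2, 4, 4, 4, 4, 4, 4, 4, 4, 4, 4, 4, 4, 1, 1, 1, 1, 1, 1, 1, 1, 1, 1, 1, 1, 3, 3, 3, 3, 0, 0, 0, 0, 2, 2, 2, 2, 1, 1, 1, 1])],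
    [0, 0, 0, 1, 2, 3, 3, 3, 4, 5, 5, 6, 6, 6, 7, 8, 9, 9, 9, 10, 10, 11, 12, 12, 12, 13, 14], [1], [3, 5, 5, 15]⟩

/-- the data of kind `15` -/
def c15a : Ce :=
  ⟨6, 21, 0x5e0408102, 0, 7,
    0x885f9b9b8035a502cb9fbfe5b12294dd588d357b04070290b1a28104f0db1c34153c0b6205f8de51d803d1a7a381c6d0a6a05b5e634d21a8581cd8c14c4d9de1f5f8b9e08feb0d48b9160172725cdd26968114a25f8e16d519d2e2ccf44b623e298de203164560c24233d5c50d713d95f0e0e0003800650893b82cdfa63ba94311bdb1b0ad939022019200330ed850a813386ea800866d3998bbde40661db11ccf2680ce8a86a420ad050d1f9b041202097b635dc0ef856dacd0d87fc10d906a1ae24be80ca485e152760800943e0ab80714472ad72d42d231b32cd79e454420511a58dd379050e9e3d16505c014a76b6f3e1480591ca3098a71019aa308520f910204a2a49459421b066e52fb1c020cce40108aa002115401444da80451cf309227d09a99a660ed3b2671b122fcd59858fb482d3334c0e32dd1b446eac0761fb35f8ba3815c6ec789a855047738b9c63a6201f4f24d227944a3bd733c679408528bdb8275ac1a39ce100fa79,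
    0xbdf5c779a50a755426174d3982098f92352fa13a9ef89cd9439e5f71cdccfa999b42202283936ea9bbaf92ee8ab75b7a28f1aa4db29ab5600f312ccd454c8291ceb468c84b2478d551c75ac71af44152c8c2cd0c81b08e45db94beded57513a63bd7181437e0be43619690c04c70998c93be6a0c3acb2176d2dad891352aa1d1c0a4636883acad456bf2037690a05a9eac07f0e8ab0f883ad58f9994f6b616b93527801470037f9653451799ce90b8905cdf78e2e0a8665ae9d4a7fcc491a1551917263c932ff0a9d67f1cc43b95fa70accb650758cfb69c3805076d8855a9ae2fa1f4e3657090d6e49947389e2409ac187214607a9b86acc140ad8e9c837f844d08afd1baf28269dc874cd81954ddeda1475f3a52c9c75a1575b73db8bd4f7456d01bd6a348c2dc62dae3f0d37c825e18eff8a416ea602bed49c37a25e324bc00c92c86ee483d01e167fa2314ee334e2a160b684ff82e4a76995080ca8485ba0ba986a24307c650948fdfcc7,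
    [([(0, [true]), (1, [true, true, true, false, true, false]), (3, [true, false, true]), (5, [true, false, true, false, true, true]), (7, [true, true]), (9, [true, true, false])], [0, 0, 0, 0, 0, 0, 1, 1, 1, 1, 1, 1, 1, 1, 1, 1, 1, 1, 2, 2, 2, 2, 2, 2, 3, 3, 3, 3, 3, 3, 3, 3, 3, 3, 3, 3, 4, 4, 4, 4, 4, 4, 4, 4, 4, 4, 4, 4, 5, 5, 5, 5, 5, 5]), ([(0, [true]), (1, [true, true, true, false, true, false]), (3, [true, false, true]), (5, [true, false, true, false, true, true]), (7, [true, true]), (9, [true, true, false])], [4, 4, 4, 4, 4, 4, 1, 1, 1, 1, 1, 1, 5, 5, 5, 5, 5, 5, 3, 3, 3, 3, 3, 3, 2, 2, 2, 2, 2, 2, 3, 3, 3, 3, 3, 3, 0, 0, 0, 0, 0, 0, 4, 4, 4, 4, 4, 4, 1, 1, 1, 1, 1, 1]), ([(0, [true]), (1, [true, true, true, false, true, false]), (3, [true, false, true]), (5, [true, false, true, false, true, true]), (7, [true, true]), (9, [true, true, false])], [4, 4, 4, 4, 4, 4, 5, 5, 5, 5, 5, 5, 1, 1, 1, 1, 1, 1, 3, 3, 3, 3, 3, 3, 3, 3,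 3, 3, 3, 3, 2, 2, 2, 2, 2, 2, 4, 4, 4, 4, 4, 4, 0, 0, 0, 0, 0, 0, 1, 1, 1, 1, 1, 1])],
    [0, 0, 0, 1, 2, 3, 4, 5, 6, 7, 7, 7, 8, 9, 10, 11, 12, 13, 14, 14, 14, 15, 16, 17, 18, 19, 20], [], [3, 3, 21]⟩

/-- the data of kind `15` -/
def c15b : Ce :=
  ⟨6, 21, 0x5e0408102, 0, 7,
    0x886ba0bf414add3531ee5bf57852905836e0fe97850dacccf77b9e021ebd9a222d0002b3771f96c6e81a202fcecaef924d7c99be86e129fc2df64f87c860896de44bf84040ee08040094408012883075558491210a495481047c8d14dd34e2583dd7e6c87044d561d7fb0f660c05d4e75a71d800f18150897e380f9e9792ac72d058e40120fa3f2097b628ec238423310052735740488f1c443b9780a29f7b0fa13190d7cf2a87092540f8852f054da30178b5995f32821007d3637ee9040668735ca3a809cb34d35a709828588a7ca36c9007aafe15eb5c3211810e8b78e428536a1c1189a0654edde159d500099233f278ed85771ceb5f14fd111261273d0672491fe3ba0b2d4520aac6ad897d08b4b90714fd840a28b6be71ba380910112523021002981e95df4e1000c22a495480080108e96dd28004044620c11dc008022a9057038167542f3e45110df50952c37252020e1dafd942c44df9931aed1c0b986d5d34535c1305452472978,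
    0x70cd2f8ee89e4f041f0baa774da47c6c90c803b3b858a1a59954e2f7b424de060ae0adddea31bbdb72cfd00f828273512af27fdd15323703e683c8a127ceb7e05c0466abae446d5be34d5935dffca08cd8d940b8588f61711eb001e9bce2beaa5b850132014c43b2711cdfa5cd978647ed622aa7da18536baec2b7a7ae8eecc8ef7296d62f0f1c031fc055501664a8c100d1391de2f86c092a832c84869fd7d45016137bc08244ca3b6bb9e2fc7d5aeaa8d4657fae84d476071c81958144fbc958a82a9a1a502ce68061737ece39fae6a9246cb7953a5542a068647348a41e67e0008e5717f86cc0b8d5343375d245d2a19c27a981add7fd3f4719e38f0332bfdf5e856b54d86702fceb6c698c048587c06ba18f0f95fab49782b0aecf10bbaa73a52b8478fc46e9cf590e23d49c65ce8181916ba2836fd2048b3d131100dfb02288020ea39a000cdb29fa665000cb5768d9f80561eca802e71b00120c35570a72add216082565888e23f1c81,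
    [([(0, [true]), (1, [true, true, true, false, true, false]), (3, [true, false, true]), (5, [true, false, true, false, true, true]), (7, [true, true]), (9, [true, true, false])], [0, 0, 0, 0, 0, 0, 1, 1, 1, 1, 1, 1, 1, 1, 1, 1, 1, 1, 2, 2, 2, 2, 2, 2, 3, 3, 3, 3, 3, 3, 3, 3, 3, 3, 3, 3, 4, 4, 4, 4, 4, 4, 4, 4, 4, 4, 4, 4, 5, 5, 5, 5, 5, 5]), ([(0, [true]), (1, [true, true, true, false, true, false]), (3, [true, false, true]), (5, [true, false, true, false, true, true]), (7, [true, true]), (9, [true, true, false])], [4, 4, 4, 4, 4, 4, 1, 1, 1, 1, 1, 1, 5, 5, 5, 5, 5, 5, 3, 3, 3, 3, 3, 3, 2, 2, 2, 2, 2, 2, 3, 3, 3, 3, 3, 3, 0, 0, 0, 0, 0, 0, 4, 4, 4, 4, 4, 4, 1, 1, 1, 1, 1, 1]), ([(0, [true]), (1, [true, true, true, false, true, false]), (3, [true, false, true]), (5, [true, false, true, false, true, true]), (7, [true, true]), (9, [true, true, false])], [4, 4, 4, 4, 4, 4, 5, 5, 5, 5, 5, 5, 1, 1, 1, 1, 1, 1, 3, 3, 3, 3, 3, 3, 3, 3,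 3, 3, 3, 3, 2, 2, 2, 2, 2, 2, 4, 4, 4, 4, 4, 4, 0, 0, 0, 0, 0, 0, 1, 1, 1, 1, 1, 1])],
    [0, 0, 0, 1, 2, 3, 4, 5, 6, 7, 7, 7, 8, 9, 10, 11, 12, 13, 14, 14, 14, 15, 16, 17, 18, 19, 20], [], [3, 3, 21]⟩

/-- the data of kind `16` -/
def c16a : Ce :=
  ⟨6, 21, 0x5e0408102, 0, 7,
    0x8000aae90f7d5900155fec383e51005b1200e6874200dcc8c3d86004068560c8d8f00803b5022ab6b01018ee2389efc02019e009092a0040afa00a7d000082ae8832da9001347a00815f4003a368c0361084edd67532bf4500d302713000424c6745ff0fb5c516609813fb1109be580f6d419009fd888b13702848b9a3534e5c900cb22713964024b4f0fff669d4516708813fb520998448f671a9009fda90b135438000f7ea05b76100004f683c41b1008ed80086ca82003d90c0df6104039c63c20d6c08206c8a0c43001092cc33ee214020fc100a78a50043654209711800806184336b20013f7e108726000157484383e4845fcab407ed5901ad0af106f122460a0708bf9542454db00431870259ca2c817c580218c384c98318439827401b55501b52bf10f955243428d087304c24549880431a6027fcaec8b2c440218d304c989781e44a081ad801035b00609945010bdaa0320e04026eaa0085ed50043d8a02cadc000b5b000e9d440,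
    0x30375ff02fab01955f0b1555f8006e71baae32102fd00027d00000bac75d1e7aebb4edb8507d90e80dcfb38f0feaa025db0a6c58e40d38b2890a9823209b82080bd55490b275d03caeb08d9294c82df8852ee249a58efb891308edb7d58ca15718f0b73851deef36930f478d80f1fd96781d177eecb3682aa81ccc2b3edbb1621aceaa83968a195a95146544103e1bf9e4a67efab92c514111410807d0002e104129000eba000f7d0286e08166a187e6270c3de71c7bc024276826b540ea275faa3fab002f07713f61b4065c00065c00001be02081d9555a3d1b38151eaa021094b200aa4006924d0523e7a2832e0e8fee8d4c0b27df03cfbe08b7020804d554b3bf4232061b0181ebae9abafbdbd82ff6c6cfb51ca95e9077f910ddd9259f484c329005ba16c68786852514bf44103a116026d9098ccedc28a27c208cb7ef8e3683ae816b3a690e5aeb658fb8e0897ae9035d0007c0041480033cc0036d80627aaade7b6dbf0f1a6a1f5c711,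
    [([(0, [true]), (1, [true, true, true, false, true, false]), (3, [true, false, true]), (5, [true, false, true, false, true, true]), (9, [true, true, false])], [0, 0, 0, 0, 0, 0, 1, 1, 1, 1, 1, 1, 1, 1, 1, 1, 1, 1, 2, 2, 2, 2, 2, 2, 2, 2, 2, 2, 2, 2, 3, 3, 3, 3, 3, 3, 3, 3, 3, 3, 3, 3, 4, 4, 4, 4, 4, 4, 4, 4, 4, 4, 4, 4]), ([(1, [true, true, true, false, true, false]), (3, [true, false, true]), (5, [true, false, true, false, true, true]), (7, [true, true]), (9, [true, true, false])], [3, 3, 3, 3, 3, 3, 0, 0, 0, 0, 0, 0, 4, 4, 4, 4, 4, 4, 2, 2, 2, 2, 2, 2, 2, 2, 2, 2, 2, 2, 1, 1, 1, 1, 1, 1, 2, 2, 2, 2, 2, 2, 0, 0, 0, 0, 0, 0, 0, 0, 0, 0, 0, 0]), ([(1, [true, true, true, false, true, false]), (3, [true, false, true]), (5, [true, false, true, false, true, true]), (7, [true, true]), (9, [true, true, false])], [3, 3, 3, 3, 3, 3, 4, 4, 4, 4, 4, 4, 0, 0, 0, 0, 0, 0, 2, 2, 2, 2, 2, 2, 2, 2, 2, 2, 2, 2, 2, 2, 2, 2, 2, 2, 1, 1, 1, 1, 1,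 1, 0, 0, 0, 0, 0, 0, 0, 0, 0, 0, 0, 0])],
    [0, 0, 0, 1, 2, 3, 3, 4, 5, 6, 6, 8, 9, 9, 10, 11, 12, 12, 13, 15, 15, 16, 17, 18, 18, 19, 20], [3], [1, 1, 7, 21]⟩

/-- the data of kind `16` -/
def c16b : Ce :=
  ⟨6, 21, 0x5e0408102, 0, 7,
    0x8011e323aaf12d000a5ec9452db20112a27dbd4604049ed280fe740802cd9a0edeb4100d5e1c2ec99028067a3599bd404470d114be5a00532da00e2f94008944002996d0009a4b0a18ab0001a1b03ca3ad814c948d404381200e2375ec7ac2104e580a0e7a8141cf51201ec603057140b228080259f4114bf4e9900940d18c01127161c686910e210387842296a81205890384a9803883140902c48005ccb1081c3c80048eb0017ed900000947e1b0920015b4471b1904019b667ef9fd0807f90906ec9c101228d28a3520285be830b5f68041844dc2f975004733005dc9dc008eec4c0ca37001324a3fbbbd8003de1c0024759910b5493ae459251a97786ad32201231c41076d81405c91346a18030f8780b21ea802461c100918e80c72d49237b19242aa67528f2e200e6d04e2ff38122e63038472c03837d409173180045c511c68828a8f8209f7b5413aca28315c1502c0aa009d651406078000034200010f2014f1404001a1000c3b200,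
    0x5d6000dd50000348cf3b087ebc0a55e578567f0000a09164a95e401f600b531ac0d2956eee15b2a803e13011a01c4008bd701f6c069c9c91fcf1ce8b407cc938a93ee4badd3cbb41aef087f79ed25b2c158fc1a62f2903af15fca6986ee9a0d15d79bc7da9c238000f34000c760aac6c382513dfa544ae50974fcf0cfb2b38343df9298ae64434e5c7d642c59fa885b4f3473acbda1b34c95634d3512c00c9b03018f65ffe7caffe86ae8d3f474e35c6000c3c620c3a2374002378000047118b972ad600f86eec6832a801a73ce4a7faf0015001580d500b3e15ec1a0b5a026d08227d82180a66e40abb0302688429b05a405802d3cbebfaefffb8061526555aa87abacf8db6a73344969c79e3ad17ba599e94a18b35b9ecf4b2c3c55a0001b0000477a9b5f799174164577949ae5d2e2cce0fa583398645f9a49a7bb2eafbdcc3773f28991b66e2792e7a0f433f56ce0d428700c0463402312a78a4c239d74ea0c36270c326b24e32b6cd382,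
    [([(0, [true]), (1, [true, true, true, false, true, false]), (3, [true, false, true]), (5, [true, false, true, false, true, true]), (9, [true, true, false])], [0, 0, 0, 0, 0, 0, 1, 1, 1, 1, 1, 1, 1, 1, 1, 1, 1, 1, 2, 2, 2, 2, 2, 2, 2, 2, 2, 2, 2, 2, 3, 3, 3, 3, 3, 3, 3, 3, 3, 3, 3, 3, 4, 4, 4, 4, 4, 4, 4, 4, 4, 4, 4, 4]), ([(1, [true, true, true, false, true, false]), (3, [true, false, true]), (5, [true, false, true, false, true, true]), (7, [true, true]), (9, [true, true, false])], [3, 3, 3, 3, 3, 3, 0, 0, 0, 0, 0, 0, 4, 4, 4, 4, 4, 4, 2, 2, 2, 2, 2, 2, 2, 2, 2, 2, 2, 2, 1, 1, 1, 1, 1, 1, 2, 2, 2, 2, 2, 2, 0, 0, 0, 0, 0, 0, 0, 0, 0, 0, 0, 0]), ([(1, [true, true, true, false, true, false]), (3, [true, false, true]), (5, [true, false, true, false, true, true]), (7, [true, true]), (9, [true, true, false])], [3, 3, 3, 3, 3, 3, 4, 4, 4, 4, 4, 4, 0, 0, 0, 0, 0, 0, 2, 2, 2, 2, 2, 2, 2, 2, 2, 2, 2, 2, 2, 2, 2, 2, 2, 2, 1, 1, 1, 1, 1,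 1, 0, 0, 0, 0, 0, 0, 0, 0, 0, 0, 0, 0])],
    [0, 0, 0, 1, 2, 3, 3, 4, 5, 6, 6, 8, 9, 9, 10, 11, 12, 12, 13, 15, 15, 16, 17, 18, 18, 19, 20], [3], [1, 1, 7, 21]⟩

namespace Q5

open Cfsg.Agent.Lib.F2Mat
open Cfsg.Agent.TAB.Eng (allL allL_spec frcL frcL_eq)

/-- how often -/
noncomputable def cnt (a : ℕ) (l : List ℕ) : ℕ := List.rec 0 (fun b _ ih => cond (Nat.beq b a) (Nat.succ ih) ih) l

theorem cnt_cons (a b : ℕ) (l : List ℕ) : cnt a (b :: l) = cnt a l + if b = a then 1 else 0 := by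
  show cond (Nat.beq b a) (cnt a l + 1) (cnt a l) = _
  by_cases h : b = a
  · rw [Nat.beq_eq.mpr h, if_pos h]; rfl
  · rw [Bool.eq_false_iff.2 fun h' => h (Nat.eq_of_beq_eq_true h'), if_neg h]; rfl

theorem cnt_eq (a : ℕ) (l : List ℕ) : cnt a l = l.count a := by
  induction l with
  | nil => rfl
  | cons b l ih => rw [cnt_cons, ih, List.count_cons]; simp only [beq_iff_eq]

theorem sum_cnt (a : ℕ) (l : List ℕ) : (∑ i ∈ Finset.range l.length, if l.getD i 0 = a then 1 else 0) = cnt a l := by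
  induction l with
  | nil => rfl
  | cons b l ih => rw [cnt_cons, ← ih, List.length_cons, Finset.sum_range_succ']; rfl

theorem allL_mono {β : Type} {f g : β → Bool} {r : List β} (H : ∀ a ∈ r, f a = true → g a = true) (h : allL f r = true) :
    allL g r = true := by
  induction r with
  | nil => rfl
  | cons a r ih =>
    have e : ∀ f : β → Bool, allL f (a :: r) = cond (f a) (allL f r) false := fun _ => rfl
    rw [e] at h ⊢
    cases h1 : f a with
    | false => rw [h1] at h; exact Bool.noConfusion h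
    | true => rw [h1] at h; rw [H a List.mem_cons_self h1]; exact ih (fun b hb => H b (List.mem_cons_of_mem _ hb)) h

theorem vmul_row {n i : ℕ} (hi : i < n) (P F : ℕ) :
    vmul n (Nat.shiftRight P (n * i)) F = Nat.mod (Nat.shiftRight (F2Mat.mul n P F) (Nat.mul n i)) (Nat.pow 2 n) := by
  show vmul n (P >>> (n * i)) F = F2Mat.mul n P F >>> (n * i) % 2 ^ n
  refine Nat.eq_of_testBit_eq fun j => ?_
  rcases Nat.lt_or_ge j n with hj | hj
  · rw [Nat.testBit_mod_two_pow, decide_eq_true hj, Bool.true_and, Nat.testBit_shiftRight, vmul_eq, mul_eq]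
    refine bz_inj ?_
    rw [bz_testBit_vmulAux _ _ _ hj, bz_testBit_mulAux _ _ _ hi hj]
    exact Finset.sum_congr rfl fun l _ => by rw [Nat.testBit_shiftRight]
  · rw [Nat.testBit_mod_two_pow, decide_eq_false (not_lt.2 hj), Bool.false_and]
    exact Nat.testBit_lt_two_pow ((vmul_lt _ _).trans_le (Nat.pow_le_pow_right two_pos hj))

/-- `okE` with one product for all rows -/
noncomputable def okE' (n d N C A P Pi : ℕ) (os : List (ℕ × List Bool)) (lab E : List ℕ) : Bool :=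
  frcL lab fun lab => frcL E fun E => Nat.beq lab.length n &&
  (Nat.beq (F2Mat.mul n P Pi) (F2Mat.one n) && Nat.beq E.length n &&
  allL (fun o => Nat.beq (pM d (os.getD o (0, [])).2 (npow d C (os.getD o (0, [])).1)) 0 &&
    decide (orb N (os.getD o (0, []))).Nodup && force (F2Mat.mul n P (pM n (os.getD o (0, [])).2 A)) fun F =>
      allL (fun i => cond (Nat.beq (lab.getD i 0) o) (Nat.beq (Nat.mod (Nat.shiftRight F (Nat.mul n i)) (Nat.pow 2 n)) 0) true)
        (List.range n)) (List.range os.length) &&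
  allL (fun e => Nat.blt e N && (List.range os.length).any fun o => (orb N (os.getD o (0, []))).contains e &&
    Nat.ble (cnt e E * (os.getD o (0, [])).2.length) (cnt o lab)) E)

theorem okE_of {n d N C A P Pi : ℕ} {os : List (ℕ × List Bool)} {lab E : List ℕ} (h : okE' n d N C A P Pi os lab E = true) :
    okE n d N C A P Pi os lab E = true := by
  rw [okE', frcL_eq, frcL_eq, Bool.and_eq_true, Bool.and_eq_true, Bool.and_eq_true, Nat.beq_eq] at h
  obtain ⟨h0, ⟨h1, h2⟩, h3⟩ := h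
  delta okE
  rw [Bool.and_eq_true, Bool.and_eq_true]
  refine ⟨⟨h1, allL_mono (fun o _ ho => ?_) h2⟩, allL_mono (fun e _ he => ?_) h3⟩
  · rw [force_eq, Bool.and_eq_true] at ho ⊢
    exact ⟨ho.1, allL_mono (fun i hi h => by rw [vmul_row (List.mem_range.1 hi)]; exact h) ho.2⟩
  · simp only [← h0, sum_cnt, ← cnt_eq]
    exact he

/-- the same multiplicities -/
noncomputable def prm (a b : List ℕ) : Bool :=
  frcL a fun a => allL (fun x => Nat.beq (cnt x a) (cnt x b)) a && allL (fun x => Nat.beq (cnt x a) (cnt x b)) b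

theorem prm_spec {a b : List ℕ} (h : prm a b = true) : a.isPerm b = true := by
  rw [prm, frcL_eq, Bool.and_eq_true] at h
  refine List.isPerm_iff.2 (List.perm_iff_count.2 fun x => ?_)
  by_cases h1 : x ∈ a
  · rw [← cnt_eq, ← cnt_eq]; exact Nat.eq_of_beq_eq_true (allL_spec h.1 x h1)
  by_cases h2 : x ∈ b
  · rw [← cnt_eq, ← cnt_eq]; exact Nat.eq_of_beq_eq_true (allL_spec h.2 x h2)
  rw [List.count_eq_zero_of_not_mem h1, List.count_eq_zero_of_not_mem h2]

/-- `okT` with these tests -/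
noncomputable def okT' (n Z A m : ℕ) (v : ℤ) (T : Ce) : Bool :=
  force (F2Mat.mul n (npow n Z T.j) A) fun A => (okR T.d T.N T.C && Nat.ble T.d n && Nat.beq (T.N % 6) 3 &&
    (Nat.beq (npow n A m) (F2Mat.one n) && (Nat.beq (m % 3) 0 || allL (fun e => Nat.beq (e * m % T.N) 0) T.E) &&
    allL (fun j => force (F2Mat.mul n (npow n Z j) A) fun X =>
      okE' n T.d T.N T.C X T.P T.Pi (T.c.getD j ([], [])).1 (T.c.getD j ([], [])).2 (e3 T.N j T.E)) (List.range 3))) &&
    Nat.beq (T.N % m) 0 &&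
    allL (fun p => Nat.beq (T.N % p) 0) (T.U ++ T.V) && decide (v = (T.V.count 1 : ℤ) - T.U.count 1) &&
    (frcL (sb T.N T.U) fun U => frcL (sb T.N T.V) fun V =>
      allL (fun k => !Nat.beq (k.gcd m) 1 || prm (T.E.map (· * k % T.N) ++ U) V) (List.range T.N)) &&
    (!Nat.beq (m % 3) 0 || Nat.beq (9 * T.q % m) 0 && force (npow n A T.q) fun A =>
      allL (fun s => !Nat.beq A (npow n Z s)) (List.range 3))

theorem okT_of {n Z A m : ℕ} {v : ℤ} {T : Ce} (h : okT' n Z A m v T = true) : okT n Z A m v T = true := by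
  delta okT ok3
  rw [okT', force_eq, frcL_eq, frcL_eq] at h
  rw [force_eq, force_eq]
  simp only [Bool.and_eq_true] at h ⊢
  obtain ⟨⟨⟨⟨⟨⟨h1, h2, h3⟩, h4⟩, h5⟩, h6⟩, h7⟩, h8⟩ := h
  refine ⟨⟨⟨⟨⟨⟨h1, h2, allL_mono (fun j _ hj => ?_) h3⟩, h4⟩, h5⟩, h6⟩, allL_mono (fun k _ hk => ?_) h7⟩, h8⟩
  · rw [force_eq] at hj ⊢
    exact okE_of hj
  · rw [Bool.or_eq_true] at hk ⊢
    exact hk.imp_right prm_spec

theorem okI_of {i : ℕ} {e : Bool} {T : Ce} (h : okT' 54 (mg 10) (npow 54 (mw ((wE i e).map Fin.val)) (exL.getD i 0))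
    (oL.getD i 0) (bo.getD i 0) T = true) : okI i e T = true := okT_of h

end Q5

theorem ok0a : okI 0 false c0a = true := Q5.okI_of (by decide +kernel)

theorem ok0b : okI 0 true c0b = true := Q5.okI_of (by decide +kernel)

theorem ok1a : okI 1 false c1a = true := Q5.okI_of (by decide +kernel)

theorem ok1b : okI 1 true c1b = true := Q5.okI_of (by decide +kernel)

theorem ok2a : okI 2 false c2a = true := Q5.okI_of (by decide +kernel)

theorem ok2b : okI 2 true c2b = true := Q5.okI_of (by decide +kernel)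

theorem ok3a : okI 3 false c3a = true := Q5.okI_of (by decide +kernel)

theorem ok3b : okI 3 true c3b = true := Q5.okI_of (by decide +kernel)

theorem ok4a : okI 4 false c4a = true := Q5.okI_of (by decide +kernel)

theorem ok4b : okI 4 true c4b = true := Q5.okI_of (by decide +kernel)

theorem ok5a : okI 5 false c5a = true := Q5.okI_of (by decide +kernel)

theorem ok5b : okI 5 true c5b = true := Q5.okI_of (by decide +kernel)

theorem ok6a : okI 6 false c6a = true := Q5.okI_of (by decide +kernel)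

theorem ok6b : okI 6 true c6b = true := Q5.okI_of (by decide +kernel)

theorem ok7a : okI 7 false c7a = true := Q5.okI_of (by decide +kernel)

theorem ok7b : okI 7 true c7b = true := Q5.okI_of (by decide +kernel)

theorem ok8a : okI 8 false c8a = true := Q5.okI_of (by decide +kernel)

theorem ok8b : okI 8 true c8b = true := Q5.okI_of (by decide +kernel)

theorem ok10a : okI 10 false c10a = true := Q5.okI_of (by decide +kernel)

theorem ok10b : okI 10 true c10b = true := Q5.okI_of (by decide +kernel)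

theorem ok11a : okI 11 false c11a = true := Q5.okI_of (by decide +kernel)

theorem ok11b : okI 11 true c11b = true := Q5.okI_of (by decide +kernel)

theorem ok12a : okI 12 false c12a = true := Q5.okI_of (by decide +kernel)

theorem ok12b : okI 12 true c12b = true := Q5.okI_of (by decide +kernel)

theorem ok15a : okI 15 false c15a = true := Q5.okI_of (by decide +kernel)

theorem ok15b : okI 15 true c15b = true := Q5.okI_of (by decide +kernel)

theorem ok16a : okI 16 false c16a = true := Q5.okI_of (by decide +kernel)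

theorem ok16b : okI 16 true c16b = true := Q5.okI_of (by decide +kernel)

theorem ok_all : ∀ i ∈ rL, ∀ e, ∃ T, okI i e T = true := by
  simp only [rL, List.forall_mem_cons, Bool.forall_bool]
  exact ⟨⟨⟨_, ok0a⟩, _, ok0b⟩, ⟨⟨_, ok1a⟩, _, ok1b⟩, ⟨⟨_, ok2a⟩, _, ok2b⟩, ⟨⟨_, ok3a⟩, _, ok3b⟩, ⟨⟨_, ok4a⟩, _, ok4b⟩, ⟨⟨_, ok5a⟩, _, ok5b⟩,
    ⟨⟨_, ok6a⟩, _, ok6b⟩, ⟨⟨_, ok7a⟩, _, ok7b⟩, ⟨⟨_, ok8a⟩, _, ok8b⟩, ⟨⟨_, ok10a⟩, _, ok10b⟩, ⟨⟨_, ok11a⟩, _, ok11b⟩,
    ⟨⟨_, ok12a⟩, _, ok12b⟩, ⟨⟨_, ok15a⟩, _, ok15b⟩, ⟨⟨_, ok16a⟩, _, ok16b⟩, List.forall_mem_nil _⟩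

end Cfsg.Agent.MO.S.E62W
end

-- part: MO/S/E62W/Main
section
/-!
# MO, `3.²E₆(2)` : the values of the Brauer lift on the rational elements of odd order (helper2)

* `W i e` : the representatives; `be_val`, `exists_seed` : the values at all lifts of their coprime powers.
-/

set_option autoImplicit false

namespace Cfsg.Agent.MO.S.E62W

open Cfsg Cfsg.Agent.TAB.Cov Cfsg.Agent.TwoESix Cfsg.Agent.TwoESix.Cox10 Cfsg.Agent.MO.S.E62G Cfsg.Agent.MO.S.E62H
open scoped ComplexConjugate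

/-- the representatives -/
noncomputable def W (i : ℕ) (e : Bool) : G := ev sG (wE i e) ^ exL.getD i 0

theorem pG_W (i : ℕ) (e : Bool) : pG (W i e) = ev Cover.s0 (wE i e) ^ exL.getD i 0 := by rw [W, map_pow, pG_ev]

theorem sw_eq : sw = ![0, 1, 2, 3, 7, 8, 9, 4, 5, 6] := rfl

theorem wE_false (i : ℕ) : wE i false = wL.getD i [] := rfl

theorem wE_true (i : ℕ) : wE i true = (wL.getD i []).map sw := rfl

theorem be_val {B : GL (Fin 54) (ZMod 2) → ℂ} (hB : Lift B) (hE : Eig B) {w : ℂ} (hw : 1 + w + w ^ 2 = 0) {i : ℕ} (hi : i ∈ rL)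
    (e : Bool) (k j : ℕ) (hk : k.Coprime (oL.getD i 0)) :
    be B rho zG w (zG ^ j * W i e ^ k) * conj (be B rho zG w (zG ^ j * W i e ^ k)) = (bo.getD i 0 : ℂ) ^ 2 ∧
      (¬ 3 ∣ orderOf (zG ^ j * W i e ^ k) → be B rho zG w (zG ^ j * W i e ^ k) = bo.getD i 0) := by
  obtain ⟨T, hT⟩ := ok_all i hi e
  exact typ (by decide) hB hE rho_inj zG_comm orderOf_zG hw codes_zG (by
    rw [W, map_pow]
    exact (codes_ev _).pow _) hT k j hk

/-- **the seed and its values** -/
theorem exists_seed {w : ℂ} (hw : 1 + w + w ^ 2 = 0) : ∃ f : G → ℂ, Sd zG w f ∧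
    ∀ i ∈ rL, ∀ (e : Bool) (k j : ℕ), k.Coprime (oL.getD i 0) →
      f (zG ^ j * W i e ^ k) * conj (f (zG ^ j * W i e ^ k)) = (bo.getD i 0 : ℂ) ^ 2 ∧
        (¬ 3 ∣ orderOf (zG ^ j * W i e ^ k) → f (zG ^ j * W i e ^ k) = bo.getD i 0) := by
  obtain ⟨B, hB, hE⟩ := exists_lift2 (n := 54) (by decide)
  exact ⟨be B rho zG w, (sd_lift hB rho zG_cen zG_cube hw).1, fun i hi e k j hk => be_val hB hE hw hi e k j hk⟩

end Cfsg.Agent.MO.S.E62W
end

-- part: MO/S/E62X/Prj
section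
/-!
# MO, covers : the lift of a projective function over a central element of prime order (helper80)

* `exists_reg` : an exponent which gives the `p`-regular part;
* `gen_lift` : if `Ψ` is a generalized character which is constant on the cosets of `z` and vanishes on the cosets without
  a `p`-regular element, then the function over `z ↦ ω` with the same values on the `p`-regular elements is a generalized character.
-/

set_option autoImplicit false

namespace Cfsg.Agent.MO.S.E62X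

open Cfsg Finset Subgroup Cfsg.Agent.TAB.Eng Cfsg.Agent.Characters
open Cfsg.Agent.Characters.Core Cfsg.Agent.Characters.Brauer Cfsg.Agent.H447.CTab
open Cfsg.Agent.MK.S7 (inner_shift)
open scoped ComplexConjugate

variable {X : Type} [Group X] [Finite X] {p : ℕ} {z : X} {ω : ℂ}

theorem exists_reg (X : Type) [Group X] [Finite X] (hp : p.Prime) :
    ∃ m, p ∣ m ∧ (∀ x : X, ¬ p ∣ orderOf x → x ^ m = x) ∧ ∀ x : X, ¬ p ∣ orderOf (x ^ m) := by
  obtain ⟨k, r, h1, h2⟩ := Nat.exists_eq_pow_mul_and_not_dvd (Nat.card_pos (α := X)).ne' p hp.ne_one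
  have h3 : (p ^ (k + 1)).Coprime r := ((Nat.Prime.coprime_iff_not_dvd hp).2 h1).pow_left _
  obtain ⟨m, h4, h5⟩ := Nat.chineseRemainder h3 0 1
  have h6 : p ^ (k + 1) ∣ m := Nat.modEq_zero_iff_dvd.1 h4
  refine ⟨m, (dvd_pow_self p k.succ_ne_zero).trans h6, fun x hx => ?_, fun x hx => h1 (hx.trans ?_)⟩
  · have h7 : orderOf x ∣ r := (((Nat.Prime.coprime_iff_not_dvd hp).2 hx).symm.pow_right k).dvd_of_dvd_mul_left
      (h2 ▸ orderOf_dvd_natCard x)
    exact (pow_eq_pow_iff_modEq.2 (h5.of_dvd h7)).trans (pow_one x)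
  · rw [orderOf_dvd_iff_pow_eq_one, ← pow_mul, ← orderOf_dvd_iff_pow_eq_one]
    exact (orderOf_dvd_natCard x).trans (h2 ▸ Nat.mul_dvd_mul_right ((pow_dvd_pow p k.le_succ).trans h6) r)

omit [Finite X] in
theorem sh_pow {f : X → ℂ} (h : ∀ x, f (z * x) = ω * f x) (j : ℕ) (x : X) : f (z ^ j * x) = ω ^ j * f x := by
  induction j with
  | zero => rw [pow_zero, pow_zero, one_mul, one_mul]
  | succ j ih => rw [pow_succ', mul_assoc, h, ih, pow_succ', mul_assoc]

theorem nrm_of_pow {n : ℕ} (hn : n ≠ 0) (h : ω ^ n = 1) : ω * conj ω = 1 := by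
  rw [Complex.mul_conj, Complex.normSq_eq_norm_sq, Complex.norm_eq_one_of_pow_eq_one h hn]
  simp

/-- **the lift** -/
theorem gen_lift (hp : p.Prime) (hz : z ∈ center X) (h0 : z ^ p = 1) (hω : ω ^ p = 1) {Ψ f : X → ℂ}
    (hΨ : IsGeneralizedCharacter X Ψ) (h1 : ∀ x, Ψ (z * x) = Ψ x) (h2 : ∀ x, f (z * x) = ω * f x)
    (h3 : ∀ x, ¬ p ∣ orderOf x → f x = Ψ x) (h4 : ∀ x, (∀ j, p ∣ orderOf (z ^ j * x)) → f x = 0 ∧ Ψ x = 0) :
    IsGeneralizedCharacter X f := by
  classical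
  have := Fintype.ofFinite X
  have := finite_irr (G := X)
  have := Fintype.ofFinite (IrrCharacter X)
  obtain ⟨m, ⟨m', hm⟩, m1, -⟩ := exists_reg X hp
  have hn := nrm_of_pow hp.ne_zero hω
  have hc : ∀ (j : ℕ) (x : X), Commute (z ^ j) x := fun j x => (mem_center_iff.1 (pow_mem hz j) x).symm
  have h5 : ∀ (j : ℕ) x, Ψ (z ^ j * x) = Ψ x := fun j x => by
    rw [sh_pow (f := Ψ) (z := z) (ω := 1) (fun x => by rw [h1, one_mul]), one_pow, one_mul]
  have h6 : ∀ (j : ℕ) (g x : X), z ^ j * (g * x * g⁻¹) = g * (z ^ j * x) * g⁻¹ := fun j g x => by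
    rw [← mul_assoc, ← mul_assoc, (hc j g).eq, mul_assoc g]
  refine isGeneralizedCharacter_of_int (fun x g => ?_) fun χ hχ => ?_
  · by_cases h : ∀ j, p ∣ orderOf (z ^ j * x)
    · rw [(h4 x h).1, (h4 _ fun j => by rw [h6, orderOf_conj']; exact h j).1]
    · obtain ⟨j, hj⟩ := not_forall.1 h
      refine mul_left_cancel₀ (pow_ne_zero j (left_ne_zero_of_mul_eq_one hn)) ?_
      rw [← sh_pow h2, ← sh_pow h2, h3 _ hj, h6, h3 _ (by rwa [orderOf_conj']), gen_classFunction hΨ]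
  obtain ⟨c, k1, -, -⟩ := ODD.Red.exists_central hχ hz
  by_cases h : c = ω
  · subst h
    refine ⟨_, Eq.trans ?_ ((inner_sum_mu hΨ (H139.Cusp.isGeneralizedCharacter_pow
      (isGeneralizedCharacter_of_isCharacter (isIrr_isCharacter hχ)) m)))⟩
    rw [classInner_def, classInner_def]
    refine congrArg _ (Finset.sum_congr rfl fun x _ => ?_)
    by_cases h : ∀ j, p ∣ orderOf (z ^ j * x)
    · rw [(h4 x h).1, (h4 x h).2, zero_mul, zero_mul]
    · obtain ⟨j, hj⟩ := not_forall.1 h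
      have h7 := m1 _ hj
      rw [(hc j x).mul_pow, ← pow_mul, hm, mul_left_comm, pow_mul, h0, one_pow, one_mul, ← hm] at h7
      rw [h7, ← h5 j, ← h3 _ hj, sh_pow h2, sh_pow k1, map_mul, map_pow, mul_mul_mul_comm, ← mul_pow, hn, one_pow, one_mul]
  · refine ⟨0, Eq.trans (by_contra fun h7 => h ?_) Int.cast_zero.symm⟩
    have h8 := inner_shift f k1
    rw [show (fun x => f (z * x)) = ω • f from funext h2, classInner_smul_left, ← mul_assoc] at h8
    have h9 := congrArg conj (mul_right_cancel₀ h7 (h8.symm.trans (one_mul _).symm))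
    rw [map_mul, Complex.conj_conj, map_one] at h9
    exact mul_right_cancel₀ (right_ne_zero_of_mul_eq_one hn) (h9.trans hn.symm)

end Cfsg.Agent.MO.S.E62X
end

-- part: MO/S/E62X/Sd
section
/-!
# MO, `6.²E₆(2)` : the seeds from the link (helper80)

* `zc`, `ix_z`, `fn_z`, `fn_three`, `ix_zero` : the columns on `C.Y`;
* `Fb` : the properties of the fibre product; `sd_of` : the seeds.
-/

set_option autoImplicit false

namespace Cfsg.Agent.MO.S.E62X

open Cfsg Subgroup Cfsg.Agent.TAB.Eng Cfsg.Agent.MO.S.E62Y Cfsg.Agent.MO.S.Cov2 Cfsg.Agent.MO.S.Suz6 Cfsg.Agent.TAB.B.Fin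
open Cfsg.Agent.Characters Cfsg.Agent.Characters.Core Cfsg.Agent.Characters.Brauer
open scoped ComplexConjugate

variable {B : Type} [Group B] [Fintype B] (C : Cx B) {G S X : Type} [Group G] [Group S] [Group X]

/-- the central involution -/
def zc : C.Y := ⟨C.z, C.hz⟩

theorem a_z (y : C.Y) : C.a (zc C * y : C.Y) = C.b y :=
  congrArg C.T.ty (mem_centralizer_singleton_iff.1 y.1.2).symm

theorem b_z (y : C.Y) : C.b (zc C * y : C.Y) = C.a y :=
  congrArg C.T.ty (show C.t * y.1.1 * C.t = y.1.1 by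
    rw [mul_assoc, mem_centralizer_singleton_iff.1 y.1.2, ← mul_assoc, C.h2, one_mul])

theorem pr_z (y : C.Y) : C.pr (zc C * y : C.Y) = C.pr y := by rw [Cx.pr, Cx.pr, a_z, b_z, min_comm, max_comm]

theorem ix_z (y : C.Y) : C.ix (zc C * y : C.Y) = C.ix y := by
  rw [Cx.ix, Cx.ix, if_pos y.2, if_pos (zc C * y).2, pr_z]

theorem ix_or (y : C.Y) : C.ix y < 68 ∧ uI.getD (C.ix y) (0, 0) = C.pr y ∨ C.ix y = 128 ∧ C.sg y = 0 := by
  by_cases h : uI.idxOf (C.pr y) < 68
  · have h1 : C.ix y = uI.idxOf (C.pr y) := by rw [Cx.ix, if_pos y.2, if_pos h]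
    have h2 : uI.idxOf (C.pr y) < uI.length := h.trans_le (by decide +kernel)
    exact .inl ⟨h1 ▸ h, by rw [h1, List.getD_eq_getElem _ _ h2, List.getElem_idxOf]⟩
  · have h1 : C.ix y = 128 := by rw [Cx.ix, if_pos y.2, if_neg h]
    exact .inr ⟨h1, by rw [Cx.sg, h1, if_neg (lt_irrefl _)]⟩

theorem u_chk : ∀ t < 68, (uI.getD t (0, 0)).1 < (uI.getD t (0, 0)).2 ∧
    (t ∉ s3L → ¬ 3 ∣ datF.ord (uI.getD t (0, 0)).1 ∧ ¬ 3 ∣ datF.ord (uI.getD t (0, 0)).2) ∧
    ((uI.getD t (0, 0)).1 = 0 ↔ t = 0) := by decide +kernel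

theorem sg_z (y : C.Y) : C.sg (zc C * y : C.Y) = -C.sg y := by
  rw [Cx.sg, Cx.sg, ix_z, a_z, b_z]
  rcases ix_or C y with ⟨h1, h2⟩ | ⟨h1, -⟩
  · have h3 := (u_chk _ h1).1
    rw [h2, Cx.pr] at h3
    rw [if_pos (h1.trans (by decide)), if_pos (h1.trans (by decide))]
    split_ifs <;> simp only [] at h3 <;> omega
  · rw [h1, if_neg (lt_irrefl _), if_neg (lt_irrefl _), neg_zero]

theorem fn_z (v : ℕ → ℤ) (y : C.Y) : C.fn v (zc C * y : C.Y) = -C.fn v y := by
  rw [Cx.fn, Cx.fn, ix_z, sg_z, neg_mul, Int.cast_neg]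

theorem fn_three {v : ℕ → ℤ} (hv : ∀ t ∈ s3L, v t = 0) {y : C.Y} (h : 3 ∣ orderOf y) : C.fn v y = 0 := by
  rcases ix_or C y with ⟨h1, h2⟩ | ⟨-, h1⟩
  · by_cases h3 : C.ix y ∈ s3L
    · rw [Cx.fn, hv _ h3, mul_zero, Int.cast_zero]
    · have h4 := (u_chk _ h1).2.1 h3
      rw [← orderOf_coe, ← orderOf_coe, C.T.ord] at h
      rw [h2, Cx.pr] at h4
      rcases le_total (C.a y) (C.b y) with h5 | h5
      · rw [min_eq_left h5] at h4
        exact absurd h h4.1
      · rw [max_eq_left h5] at h4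
        exact absurd h h4.2
  · rw [Cx.fn, h1, zero_mul, Int.cast_zero]

theorem ty_zero (g : B) : C.T.ty g = 0 ↔ g = 1 := TD.ty_eq_zero C.hm (by decide) rfl (by decide) g

theorem ix_one : C.ix (1 : C.Y) = 0 ∧ C.sg (1 : C.Y) = 1 := by
  have h1 : C.a (1 : C.Y) = 0 := (ty_zero C _).2 rfl
  have h2 : C.b (1 : C.Y) = 1 := (C.hA _).2 (isConj_iff.2 ⟨1, by simp⟩)
  have h3 : C.ix (1 : C.Y) = 0 := by rw [Cx.ix, if_pos (1 : C.Y).2, Cx.pr, h1, h2]; rfl
  exact ⟨h3, by rw [Cx.sg, h3, h1, h2]; rfl⟩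

theorem ix_zero (y : C.Y) : C.ix y = 0 ↔ y = 1 ∨ y = zc C := by
  refine ⟨fun h => ?_, ?_⟩
  · rcases ix_or C y with ⟨h1, h2⟩ | ⟨h1, -⟩
    · have h3 := (u_chk _ h1).2.2.2 h
      rw [h2, Cx.pr] at h3
      rcases le_total (C.a y) (C.b y) with h5 | h5
      · rw [min_eq_left h5] at h3
        exact .inl (Subtype.ext (Subtype.ext ((ty_zero C _).1 h3)))
      · rw [min_eq_right h5] at h3
        refine .inr (Subtype.ext (Subtype.ext (mul_right_cancel (b := C.t) ?_)))
        exact ((ty_zero C _).1 h3).trans C.h2.symm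
    · omega
  · rintro (rfl | rfl)
    · exact (ix_one C).1
    · rw [← mul_one (zc C), ix_z, (ix_one C).1]

/-- the fibre product -/
structure Fb (q : C.Y →* S) (pG : G →* S) (w : G) (a : X →* C.Y) (b : X →* G) (y z : X) : Prop where
  ab : ∀ x, q (a x) = pG (b x)
  yc : y ∈ center X
  zc : z ∈ center X
  yy : y * y = 1
  z3 : z ^ 3 = 1
  y1 : y ≠ 1
  z1 : z ≠ 1
  ay : a y = E62X.zc C
  bz : b z = w
  az : a z = 1
  ker : ∀ x, a x = 1 → ∃ j : ℕ, x = z ^ j
  cen : ∀ x ∈ center X, a x = 1 ∨ a x = E62X.zc C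

variable {C} {q : C.Y →* S} {pG : G →* S} {w : G} {a : X →* C.Y} {b : X →* G} {y z : X} {l : X → ℂ}

theorem Fb.ker' (H : Fb C q pG w a b y z) {x : X} (h : a x = E62X.zc C) : ∃ j : ℕ, x = y * z ^ j := by
  obtain ⟨j, hj⟩ := H.ker (y * x) (by rw [map_mul, h, ← H.ay, ← map_mul, H.yy, map_one])
  exact ⟨j, by rw [← hj, ← mul_assoc, H.yy, one_mul]⟩

theorem Fb.lo (H : Fb C q pG w a b y z) (hl : Fl X l) {F : X → ℂ} (e1 : ∀ x, F (y * x) = -F x)
    (e2 : ∀ x, F (z * x) = l z * F x) : Lo (center X) l F := fun c hc x => by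
  have h1 : ∀ j : ℕ, l (z ^ j) = l z ^ j := fun j => by
    induction j with
    | zero => rw [pow_zero, pow_zero, fl_one hl]
    | succ j ih => rw [pow_succ, fl_mul hl (pow_mem H.zc j) H.zc, ih, pow_succ]
  have h2 : l y = -1 := (mul_self_eq_one_iff.1 (by rw [← fl_mul hl H.yc H.yc, H.yy, fl_one hl])).resolve_left
    fun e => H.y1 (fl_inj hl H.yc e)
  rcases H.cen c hc with h | h
  · obtain ⟨j, rfl⟩ := H.ker c h
    rw [sh_pow e2, h1]
  · obtain ⟨j, rfl⟩ := H.ker' h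
    rw [mul_assoc, e1, sh_pow e2, fl_mul hl H.yc (pow_mem H.zc j), h1, h2, neg_one_mul, neg_mul]

theorem Fb.reg (H : Fb C q pG w a b y z) {x : X} (h : ¬ 3 ∣ orderOf (a x)) : ∃ j : ℕ, ¬ 3 ∣ orderOf (z ^ j * x) := by
  obtain ⟨i, hi⟩ := H.ker (x ^ orderOf (a x)) (by rw [map_pow, pow_orderOf_eq_one])
  generalize orderOf (a x) = n at h hi
  refine ⟨2 * i * n, fun e => h (e.trans (orderOf_dvd_of_pow_eq_one ?_))⟩
  obtain ⟨t, ht⟩ : ∃ t, n * n = 3 * t + 1 := ⟨n * n / 3, by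
    have h1 : n % 3 = 1 ∨ n % 3 = 2 := by omega
    have h2 : n * n % 3 = 1 := by rcases h1 with e | e <;> rw [Nat.mul_mod, e]
    omega⟩
  rw [(show Commute _ x from (mem_center_iff.1 (pow_mem H.zc _) x).symm).mul_pow, hi, ← pow_mul, ← pow_add, mul_assoc, ht,
    show 2 * i * (3 * t + 1) + i = 3 * (2 * i * t + i) by ring, pow_mul, H.z3, one_pow]

/-- **the seeds** -/
theorem sd_of [Finite X] (H : Fb C q pG w a b y z) (hb : b y = 1) (L : Link C q pG w) (hl : Fl X l) : ∃ u, Sd C a l u := by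
  have h1 : l z ^ 3 = 1 := by
    rw [pow_three, ← fl_mul hl H.zc H.zc, ← fl_mul hl H.zc (mul_mem H.zc H.zc), ← pow_three, H.z3, fl_one hl]
  have h2 : 1 + l z + l z ^ 2 = 0 := mul_left_cancel₀ (sub_ne_zero.2 fun e => H.z1 (fl_inj hl H.zc e)) (by
    linear_combination h1)
  have hn := nrm_of_pow three_ne_zero h1
  obtain ⟨β, k1, k2, k3⟩ := L _ h2
  obtain ⟨m, ⟨m', hm⟩, m1, -⟩ := exists_reg X Nat.prime_three
  have hc : ∀ (j : ℕ) (x : X), Commute (z ^ j) x := fun j x => (mem_center_iff.1 (pow_mem H.zc j) x).symm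
  have h3 : ∀ (j : ℕ) x, ¬ 3 ∣ orderOf (z ^ j * x) → x ^ m = z ^ j * x := fun j x hj => by
    have h7 := m1 _ hj
    rwa [(hc j x).mul_pow, ← pow_mul, hm, mul_left_comm, pow_mul, H.z3, one_pow, one_mul, ← hm] at h7
  have h4 : ∀ j : ℕ, l (z ^ j) = l z ^ j := fun j => by
    induction j with
    | zero => rw [pow_zero, pow_zero, fl_one hl]
    | succ j ih => rw [pow_succ, fl_mul hl (pow_mem H.zc j) H.zc, ih, pow_succ]
  have h5 : ∀ (j : ℕ) x, a (z ^ j * x) = a x := fun j x => by rw [map_mul, map_pow, H.az, one_pow, one_mul]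
  have key : ∀ x, ∃ u : ℂ, u * conj u = 1 ∧ (∀ j : ℕ, ¬ 3 ∣ orderOf (z ^ j * x) → l z ^ j * u = 1) ∧
      (C.ix (a x) < 68 → C.ix (a x) ∉ exL → β (b x) = u * nth bL (C.ix (a x))) := fun x => by
    by_cases h : ∃ j : ℕ, ¬ 3 ∣ orderOf (z ^ j * x)
    · obtain ⟨j, hj⟩ := h
      have h6 : l z ^ j * conj (l z ^ j) = 1 := by rw [map_pow, ← mul_pow, hn, one_pow]
      refine ⟨conj (l z ^ j), by rw [Complex.conj_conj, mul_comm, h6], fun i hi => ?_, fun e1 e2 => ?_⟩
      · rw [← h4 i, mul_right_cancel ((h3 i x hi).symm.trans (h3 j x hj)), h4, h6]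
      · obtain ⟨u, -, h7, h8⟩ := k3 (a x) (b (z ^ j * x)) (h5 j x ▸ H.ab _) e1 e2
        rw [h8 fun e => hj (e.trans (orderOf_map_dvd b _)), one_mul, map_mul, map_pow, H.bz, sh_pow k2] at h7
        rw [← h7, ← mul_assoc, mul_comm (conj _), h6, one_mul]
    · by_cases e : C.ix (a x) < 68 ∧ C.ix (a x) ∉ exL
      · obtain ⟨u, h6, h7, -⟩ := k3 (a x) (b x) (H.ab x) e.1 e.2
        exact ⟨u, h6, fun j hj => absurd ⟨j, hj⟩ h, fun _ _ => h7⟩
      · exact ⟨1, by rw [map_one, one_mul], fun j hj => absurd ⟨j, hj⟩ h, fun e1 e2 => absurd ⟨e1, e2⟩ e⟩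
  choose u u1 u2 u3 using key
  have h6 : ∀ v : ℕ → ℤ, (∀ t ∈ s3L, v t = 0) → ∀ x, (∀ j, 3 ∣ orderOf (z ^ j * x)) → C.fn v (a x) = 0 := fun v hv x h =>
    fn_three C hv (by_contra fun e => (H.reg e).elim fun j hj => hj (h j))
  have h0 : ∀ j : ℕ, l z ^ j ≠ 0 := fun j => pow_ne_zero j (left_ne_zero_of_mul_eq_one hn)
  have h7 : ∀ v : ℕ → ℤ, (∀ t ∈ s3L, v t = 0) → ∀ x, u (z * x) * C.fn v (a (z * x)) = l z * (u x * C.fn v (a x)) :=
    fun v hv x => by
      rw [map_mul, H.az, one_mul]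
      by_cases h : ∀ j, 3 ∣ orderOf (z ^ j * x)
      · rw [h6 v hv x h, mul_zero, mul_zero, mul_zero]
      · obtain ⟨j, hj⟩ := not_forall.1 h
        have h8 := u2 (z * x) (j + 2) (by rwa [← mul_assoc, ← pow_succ, pow_add _ j (2 + 1), H.z3, mul_one])
        rw [← mul_assoc, mul_left_cancel₀ (h0 (j + 2)) (h8.trans (show 1 = l z ^ (j + 2) * (l z * u x) by
          linear_combination -(u2 x j hj) - l z ^ j * u x * h1))]
  have h8 : ∀ v : ℕ → ℤ, (∀ t ∈ s3L, v t = 0) → Lo (center X) l fun x => u x * C.fn v (a x) := fun v hv =>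
    H.lo hl (fun x => by
      rw [map_mul, H.ay, fn_z]
      by_cases h : ∀ j, 3 ∣ orderOf (z ^ j * x)
      · rw [h6 v hv x h, neg_zero, mul_zero, mul_zero, neg_zero]
      · obtain ⟨j, hj⟩ := not_forall.1 h
        have h9 := u2 (y * x) j fun e => hj ((Nat.Coprime.dvd_mul_left (by decide : Nat.Coprime 3 2)).1 (e.trans (by
          rw [← mul_assoc, (hc j y).eq, mul_assoc, orderOf_dvd_iff_pow_eq_one,
            (show Commute y _ from (mem_center_iff.1 H.yc _).symm).mul_pow, pow_mul, pow_two, H.yy, one_pow, pow_mul',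
            pow_orderOf_eq_one, one_pow, one_mul])))
        rw [mul_left_cancel₀ (h0 j) (h9.trans (u2 x j hj).symm), mul_neg]) (h7 v hv)
  have h9 : u 1 = 1 := by
    have h := u2 1 0 (by rw [pow_zero, one_mul, orderOf_one]; decide)
    rwa [pow_zero, one_mul] at h
  have h10 : ∀ x, x ∈ center X ↔ C.ix (a x) = 0 := fun x => by
    rw [ix_zero]
    refine ⟨H.cen x, fun h => h.elim (fun h => ?_) fun h => ?_⟩
    · obtain ⟨j, rfl⟩ := H.ker x h
      exact pow_mem H.zc j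
    · obtain ⟨j, rfl⟩ := H.ker' h
      exact mul_mem H.yc (pow_mem H.zc j)
  refine ⟨u, u1, h10, fun x hx => ?_, fun v hv h => ⟨gen_lift Nat.prime_three H.zc H.z3 h1
    (H651.isGeneralizedCharacter_comp_hom a hv) (fun x => by rw [map_mul, H.az, one_mul]) (h7 v h) (fun x hx => ?_)
    fun x hx => ⟨by rw [h6 v h x hx, mul_zero], h6 v h x hx⟩, h8 v h⟩, fun v hv h => ?_⟩
  · have h := h8 (fun t => if t = 0 then 1 else 0) (by decide) x hx 1
    simp only [mul_one, Cx.fn, (h10 x).1 hx, map_one, (ix_one C).1, (ix_one C).2, if_true, h9, Int.cast_one] at h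
    exact h
  · have h := u2 x 0 (by rwa [pow_zero, one_mul])
    rw [pow_zero, one_mul] at h
    rw [h, one_mul]
  · have e : (fun x => u x * C.fn (fun t => v t * nth bL t) (a x)) = (fun x => C.fn v (a x)) * fun x => β (b x) :=
      funext fun x => by
        rw [Pi.mul_apply, Cx.fn, Cx.fn]
        rcases ix_or C (a x) with ⟨e1, -⟩ | ⟨-, e1⟩
        · by_cases e2 : C.ix (a x) ∈ exL
          · rw [h _ e2, zero_mul, mul_zero, Int.cast_zero, mul_zero, zero_mul]
          · rw [u3 x e1 e2]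
            push_cast
            ring
        · rw [e1, zero_mul, zero_mul, Int.cast_zero, mul_zero, zero_mul]
    rw [Gd, e]
    refine ⟨isGeneralizedCharacter_mul (H651.isGeneralizedCharacter_comp_hom a hv)
      (H651.isGeneralizedCharacter_comp_hom b k1), H.lo hl (fun x => ?_) fun x => ?_⟩
    · simp only [Pi.mul_apply, map_mul a, map_mul b, H.ay, hb, fn_z, one_mul, neg_mul]
    · simp only [Pi.mul_apply, map_mul a, map_mul b, H.az, H.bz, k2, one_mul]
      ring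

end Cfsg.Agent.MO.S.E62X
end

-- part: MO/S/E62X/Of
section
/-!
# MO, `6.²E₆(2)` : the global numbers from the link and the certificate (helper80)

* `fb` : the fibre product of the double cover and the triple cover;
* `gk_six` : the global numbers.
-/

set_option autoImplicit false
set_option maxHeartbeats 200000

namespace Cfsg.Agent.MO.S.E62X

open Cfsg Subgroup Cfsg.Lie Cfsg.Agent.MO.S.E62Y Cfsg.Agent.H133.FibPce Cfsg.Agent.H68.Bounds

variable {B : Type} [Group B] [Fintype B] {C : Cx B}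

section
variable {Y G S : Type} [Group Y] [Group G] [Group S] {π : Y →* S} {ρ : G →* S} {y : Y} {z : G}

theorem cen_two (v : Cv 2 π) (hy : y ∈ center Y) (h1 : y ≠ 1) {x : Y} (hx : x ∈ center Y) : x = 1 ∨ x = y := by
  obtain ⟨w, -, hw⟩ := (Nat.card_eq_two_iff' (1 : center Y)).1 v.card
  exact (em (x = 1)).imp_right fun h => congrArg Subtype.val ((hw ⟨x, hx⟩ fun e =>
    h (congrArg Subtype.val e)).trans (hw ⟨y, hy⟩ fun e => h1 (congrArg Subtype.val e)).symm)

theorem kk_fib [Finite Y] [Finite G] (e : C.Y ≃* Y) (he : e (zc C) = y) (vY : Cv 2 π) (vG : Cv 3 ρ) (v6 : Cv 6 (pj π ρ))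
    (hy : y ∈ center Y) (y1 : y ≠ 1) (y2 : y * y = 1) (hk : ρ.ker = zpowers z) (z1 : z ≠ 1) (z3 : z ^ 3 = 1)
    (L : Link C (π.comp e.toMonoidHom) ρ z) (hC : Cert C) (l : fib π ρ → ℂ) (hl : Fl (fib π ρ) l) :
    kk 5 ⊤ (center (fib π ρ)) l = 20 ∧ kk 7 ⊤ (center (fib π ρ)) l = 27 := by
  have : Fact (Nat.Prime 3) := ⟨Nat.prime_three⟩
  have h1 : z ∈ ρ.ker := hk ▸ mem_zpowers z
  have h2 : y ∈ π.ker := vY.ker ▸ hy
  let a : fib π ρ →* C.Y := e.symm.toMonoidHom.comp (p1 π ρ)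
  let fy : fib π ρ := ⟨(y, 1), (show π y = 1 from h2).trans (map_one ρ).symm⟩
  let fz : fib π ρ := ⟨(1, z), (map_one π).trans (show ρ z = 1 from h1).symm⟩
  have h3 : ∀ x, a x = 1 → ∃ j : ℕ, x = fz ^ j := fun x h => by
    have h4 : x.1.1 = 1 := (map_eq_one_iff e.symm e.symm.injective).1 h
    obtain ⟨j, hj⟩ := (Submonoid.mem_powers_iff _ _).1 (mem_powers_iff_mem_zpowers.2 (hk ▸ (show ρ x.1.2 = 1 by
      rw [← show π x.1.1 = ρ x.1.2 from x.2, h4, map_one]) : x.1.2 ∈ zpowers z))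
    exact ⟨j, Subtype.ext (Prod.ext (h4.trans (one_pow j).symm) hj.symm)⟩
  have H : Fb C (π.comp e.toMonoidHom) ρ z a (p2 π ρ) fy fz :=
    { ab := fun x => (congrArg π (e.apply_symm_apply _)).trans x.2
      yc := mem_center_iff.2 fun g => Subtype.ext (Prod.ext (mem_center_iff.1 hy g.1.1) ((mul_one _).trans (one_mul _).symm))
      zc := mem_center_iff.2 fun g => Subtype.ext (Prod.ext ((mul_one _).trans (one_mul _).symm)
        (mem_center_iff.1 (vG.ker ▸ h1) g.1.2))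
      yy := Subtype.ext (Prod.ext y2 (mul_one 1))
      z3 := Subtype.ext (Prod.ext (one_pow 3) z3)
      y1 := fun h => y1 (congrArg (fun x : fib π ρ => x.1.1) h)
      z1 := fun h => z1 (congrArg (fun x : fib π ρ => x.1.2) h)
      ay := e.symm_apply_eq.2 he.symm
      bz := rfl
      az := map_one e.symm
      ker := h3
      cen := fun x hx => (cen_two vY hy y1 (x := x.1.1) (mem_center_iff.2 fun g => by
        obtain ⟨g, rfl⟩ := p1_surj (π := π) vG.surj g
        exact congrArg (fun x : fib π ρ => x.1.1) (mem_center_iff.1 hx g))).imp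
          (fun h => (map_eq_one_iff e.symm e.symm.injective).2 h) fun h => e.symm_apply_eq.2 (h.trans he.symm) }
  have h4 : a.ker = zpowers fz := le_antisymm (fun x hx => (h3 x hx).elim fun j hj => hj ▸ npow_mem_zpowers _ j)
    (zpowers_le.2 H.az)
  obtain ⟨u, hu⟩ := sd_of H rfl L hl
  exact hC _ a l u (e.symm.surjective.comp (p1_surj vG.surj))
    (by rw [h4, Nat.card_zpowers, orderOf_eq_prime H.z3 H.z1]) v6.card hl hu

end

open Cfsg.Agent.MO.S.E62C Cfsg.Agent.MO.S.E62G Cfsg.Agent.TwoESix.Cover Cfsg.Agent.H66.TwESixCover in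
/-- **the global numbers** -/
theorem gk_six (e : C.Y ≃* Y) (he : e (zc C) = zY) (L : Link C (pY.comp e.toMonoidHom) pG zG) (hC : Cert C)
    (K : Type) [Field K] [Fintype K] (hK : Fintype.card K = 4) :
    GK 5 6 ↥(twistedE6 K 2) 20 ∧ GK 7 6 ↥(twistedE6 K 2) 27 :=
  have := finite_Y
  have h := kk_fib e he cvY cvG (cv6 cvG) zY_cen zY_ne zrels_sY.zz ker_pG zG_ne zG_cube L hC
  ⟨gk6 hK cvG fun l hl => (h l hl).1, gk6 hK cvG fun l hl => (h l hl).2⟩

end Cfsg.Agent.MO.S.E62X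
end

private theorem dce_917719b84581 : _root_.True := by
  try have : _root_.True := by simp only [_root_.Cfsg.Agent.MO.S.E62W.pl.eq_1]
  try have : _root_.True := by simp only [_root_.Cfsg.Agent.MO.S.E62L.bt.eq_1]
  try have : _root_.True := by simp only [_root_.Cfsg.Agent.MO.S.E62Y.Cx.fn.eq_1]
  try have : _root_.True := by simp only [_root_.Cfsg.Agent.MO.S.E62W.okE.eq_1]
  try have : _root_.True := by simp only [_root_.Cfsg.Agent.MO.S.E62W.be.eq_1]
  try have : _root_.True := by simp only [_root_.Cfsg.Agent.MO.S.E62W.okR.eq_1]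
  try have : _root_.True := by simp only [_root_.Cfsg.Agent.MO.S.E62W.sb.eq_1]
  try have : _root_.True := by simp only [_root_.Cfsg.Agent.MO.S.E62L.tr.eq_1]
  try have : _root_.True := by simp only [_root_.Cfsg.Agent.MO.S.E62X.Gd.eq_1]
  try have : _root_.True := by simp only [_root_.Cfsg.Agent.MO.S.E62Y.Cx.ix.eq_1]
  try have : _root_.True := by simp only [_root_.Cfsg.Agent.MO.S.E62W.e3.eq_1]
  try have : _root_.True := by simp only [_root_.Cfsg.Agent.MO.S.E62W.Q5.okT'.eq_1]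
  try have : _root_.True := by simp only [_root_.Cfsg.Agent.MO.S.E62L.tp.eq_1]
  try have : _root_.True := by simp only [_root_.Cfsg.Agent.MO.S.E62W.okT.eq_1]
  try have : _root_.True := by simp only [_root_.Cfsg.Agent.MO.S.E62Y.Cx.pr.eq_1]
  try have : _root_.True := by simp only [_root_.Cfsg.Agent.MO.S.E62Y.Cx.sg.eq_1]
  try have : _root_.True := by simp only [_root_.Cfsg.Agent.MO.S.E62W.orb.eq_1]
  try have : _root_.True := by simp only [_root_.Cfsg.Agent.MO.S.E62W.W.eq_1]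
  try have : _root_.True := by simp only [_root_.Cfsg.Agent.MO.S.E62W.ok3.eq_1]
  try have : _root_.True := by simp only [_root_.Cfsg.Agent.MO.S.E62L.mw.eq_1]
  try have : _root_.True := by simp only [_root_.Cfsg.Agent.MO.S.E62W.Q5.prm.eq_1]
  try have : _root_.True := by simp only [_root_.Cfsg.Agent.MO.S.E62W.Q5.okE'.eq_1]
  try have : _root_.True := by simp only [_root_.Cfsg.Agent.MO.S.E62W.rL.eq_1]
  try have : _root_.True := by simp only [_root_.Cfsg.Agent.MO.S.E62W.mK.eq_1]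
  try have : _root_.True := by simp only [_root_.Cfsg.Agent.MO.S.E62L.rp.eq_1]
  exact _root_.True.intro
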